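import Cfsg.Agent.Lib.Cent192x61.Cases
import Cfsg.Agent.Lib.A8Recog.Basic

/-!
# From the pattern of `A₈` to the embedded model of `A₈`
-/

set_option autoImplicit false
set_option maxRecDepth 100000
set_option Elab.async false

namespace Cfsg.Agent.Lib.Cent192x61

/-- The code in the frame of an element of the other model. -/
def Code.fromA8Table : ℕ := 0x16186866010f717f86912136889f382f5841b1a8564fa6bf1f116f61080676788f983f28819626315f46afb65148b8a1637d0d136a741a04535aaaa34d44bdb49d8a3a2d83943324647a140a6d73031d545da4ad4a43b3ba849334239a8d3d2a2c2b9b9c35328582bca5554cbba24b520b15657b0c127c62222592953b3c8c8bb2ab425bb5ac5c45021c726c051b6b75a7ae5e57a0a95059373080873e398e896e60101e67691719b9b04940beb7474e292e999e2027979079770907707e0e00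

/-- The code in the other model of an element of the frame. -/
def Code.toA8Table : ℕ := 0xa81381575368179112943b80693fad16952e6c3a3e852aac2fa9566d8452902bb20c7f5c5d630d9e099a447a6645b6089f216241407e20b324b759677b589b25b8028e494c7607a006a1308a7235b903a51f7334318b1abd1bbc4d778f48a41e972d6e393c8628af2cab556f87509329aa108354516b1592119638826a3dae149d236142437d22b127b45b65795a9826b00e7c5f5e600f9c0a9946786447b50ba71c7036328918be19bf4e758c4aa61dba018d4b4f7405a304a233887137bb00

/-- The code in the frame of an element of the other model. -/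
def Code.fromA8 (x : ℕ) : ℕ := Nat.land (Nat.shiftRight Code.fromA8Table (8 * x)) 255

/-- The code in the other model of an element of the frame. -/
def Code.toA8 (x : ℕ) : ℕ := Nat.land (Nat.shiftRight Code.toA8Table (8 * x)) 255

theorem Code.fromA8_ok : ((List.range 192).all fun x => Nat.blt (Code.fromA8 x) 192 &&
    Nat.beq (Code.toA8 (Code.fromA8 x)) x && Nat.blt (Code.toA8 x) 192 &&
    Nat.beq (Code.fromA8 (Code.toA8 x)) x) = true := by decide +kernel

theorem Code.fromA8_mul : ((List.range 192).all fun x => (List.range 192).all fun y =>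
    Nat.beq (Code.fromA8 (A8Recog.mulC x y)) (Code.mul true false (Code.fromA8 x) (Code.fromA8 y))) = true := by
  decide +kernel

theorem Code.fromA8_classes : Code.fromA8 A8Recog.sC = 16 ∧
    (Code.elems.any fun g => Code.conj true false g 6 == Code.fromA8 (A8Recog.wC 12)) = true ∧
    (Code.elems.any fun g => Code.conj true false g 5 == Code.fromA8 (A8Recog.wC 14)) = true ∧
    (Code.elems.any fun g => Code.conj true false g 96 == Code.fromA8 (A8Recog.wC 5)) = true := by
  decide +kernel

variable {G : Type*} [Group G]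

/-- The pattern of `A₈` gives the embedded model with the fusion of `A₈`. -/
theorem Frame.exists_a8emb {F : Frame G} (h : F.CaseAlt) :
    ∃ E : A8Recog.Emb G, E.Fused := by
  obtain ⟨ht, hs, h5, h6, h96, -, -, -, -⟩ := h
  have hlt : ∀ x < 192, Code.fromA8 x < 192 := fun x hx => by
    have := A8Recog.all_range Code.fromA8_ok hx
    simp only [Bool.and_eq_true] at this
    exact Nat.le_of_ble_eq_true this.1.1.1
  have hto : ∀ x < 192, Code.toA8 (Code.fromA8 x) = x := fun x hx => by
    have := A8Recog.all_range Code.fromA8_ok hx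
    simp only [Bool.and_eq_true] at this
    exact Nat.eq_of_beq_eq_true this.1.1.2
  obtain ⟨c16, c6, c5, c96⟩ := Code.fromA8_classes
  refine ⟨⟨fun x => F.emb (Code.fromA8 x), fun x hx y hy => ?_, fun x hx y hy e => ?_, fun g hg => ?_⟩,
    ⟨?_, ?_, ?_⟩⟩
  · have := A8Recog.all_range (A8Recog.all_range Code.fromA8_mul hx) hy
    rw [Nat.eq_of_beq_eq_true this, F.emb_mul _ (hlt x hx) _ (hlt y hy), ht, hs]
  · have := F.emb_inj _ (hlt x hx) _ (hlt y hy) e
    rw [← hto x hx, this, hto y hy]
  · rw [c16] at hg
    obtain ⟨c, hc, rfl⟩ := F.exists_code hg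
    have := A8Recog.all_range Code.fromA8_ok hc
    simp only [Bool.and_eq_true] at this
    exact ⟨Code.toA8 c, Nat.le_of_ble_eq_true this.1.2,
      congrArg F.emb (Nat.eq_of_beq_eq_true this.2)⟩
  · show IsConj (F.emb (Code.fromA8 A8Recog.sC)) (F.emb (Code.fromA8 (A8Recog.wC 12)))
    rw [c16]
    exact h6.trans (F.isConj_emb (by norm_num) (hlt _ (A8Recog.wC_lt (by norm_num))) (by rw [ht, hs]; exact c6))
  · show IsConj (F.emb (Code.fromA8 A8Recog.sC)) (F.emb (Code.fromA8 (A8Recog.wC 14)))
    rw [c16]
    exact h5.trans (F.isConj_emb (by norm_num) (hlt _ (A8Recog.wC_lt (by norm_num))) (by rw [ht, hs]; exact c5))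
  · show IsConj (F.emb (Code.fromA8 A8Recog.sC)) (F.emb (Code.fromA8 (A8Recog.wC 5)))
    rw [c16]
    exact h96.trans (F.isConj_emb (by norm_num) (hlt _ (A8Recog.wC_lt (by norm_num))) (by rw [ht, hs]; exact c96))

end Cfsg.Agent.Lib.Cent192x61
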