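import Cfsg.Agent.Lib.Fusion.Thompson

/-!
# The kernel of a transfer to an elementary factor group

Owner: helper22.
-/

set_option autoImplicit false

namespace Cfsg.Agent.Lib.Cent192x61.AltT

variable {G : Type*} [Group G] [Finite G]

/-- Transfer of `Y` to `D/R` for a subgroup `D` of odd index whose fusion respects `R`. -/
theorem exists_kernel (Y D R : Subgroup G) (hDY : D ≤ Y) (hRD : R ≤ D) (hodd : Odd (D.relIndex Y))
    (hsq : ∀ x ∈ D, x * x ∈ R)
    (hfus : ∀ x ∈ D, ∀ a ∈ Y, a * x * a⁻¹ ∈ D → x⁻¹ * (a * x * a⁻¹) ∈ R) :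
    ∃ K : Subgroup G, K ≤ Y ∧ (∀ y ∈ Y, ∀ k ∈ K, y * k * y⁻¹ ∈ K) ∧ (∀ x ∈ D, x ∈ K ↔ x ∈ R) ∧
      Nat.card K * R.relIndex D = Nat.card Y ∧ (∀ y ∈ Y, Odd (orderOf y) → y ∈ K) := by
  classical
  set R' : Subgroup D := R.subgroupOf D with hR'
  have hn : R'.Normal := ⟨fun r hr g => by
    rw [hR', Subgroup.mem_subgroupOf] at hr ⊢
    have h1 := hsq _ (D.mul_mem g.2 (hRD hr))
    have h2 := mul_mem (mul_mem h1 (inv_mem hr)) (inv_mem (hsq _ g.2))
    push_cast
    convert h2 using 1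
    group⟩
  have hexp : ∀ a : D ⧸ R', a * a = 1 := fun a => by
    induction a using QuotientGroup.induction_on with
    | H g =>
      rw [← QuotientGroup.mk_mul, QuotientGroup.eq_one_iff, hR', Subgroup.mem_subgroupOf]
      exact hsq _ g.2
  let : CommGroup (D ⧸ R') :=
    { (inferInstance : Group (D ⧸ R')) with
      mul_comm := fun a b => by
        have e : ∀ c : D ⧸ R', c⁻¹ = c := fun c => inv_eq_of_mul_eq_one_right (hexp c)
        calc a * b = (a * b)⁻¹ := (e _).symm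
          _ = b * a := by rw [mul_inv_rev, e, e] }
  set D' : Subgroup Y := D.subgroupOf Y with hD'
  obtain ⟨q, hqv⟩ : ∃ q : D' →* D ⧸ R', ∀ (u : Y) (hu : u ∈ D') (hu' : (u : G) ∈ D),
      q ⟨u, hu⟩ = QuotientGroup.mk ⟨u, hu'⟩ :=
    ⟨(QuotientGroup.mk' R').comp
      { toFun := fun u => ⟨((u : Y) : G), u.2⟩
        map_one' := rfl
        map_mul' := fun _ _ => rfl }, fun _ _ _ => rfl⟩
  have hidx : Odd D'.index := hodd
  have hctrl : ∀ (g : Y) (hg : g ∈ D'), MonoidHom.transfer q g = q ⟨g, hg⟩ := by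
    intro g hg
    rw [Fusion.Thompson.transfer_controlled q g hg fun m a h => ?_]
    · obtain ⟨k, hk⟩ := hidx
      rw [hk, pow_succ, pow_mul, pow_two, hexp, one_pow, one_mul]
    · have hgm : ((g ^ m : Y) : G) ∈ D := Subgroup.mem_subgroupOf.1 (pow_mem hg m)
      have h' : (a : G) * (g ^ m : Y) * (a : G)⁻¹ ∈ D := Subgroup.mem_subgroupOf.1 h
      rw [← map_pow, hqv _ h h', show (⟨g, hg⟩ : D') ^ m = ⟨g ^ m, pow_mem hg m⟩ from rfl,
        hqv _ _ hgm, eq_comm, QuotientGroup.eq, hR', Subgroup.mem_subgroupOf]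
      exact hfus _ hgm a a.2 h'
  generalize MonoidHom.transfer q = ψ at hctrl
  refine ⟨ψ.ker.map Y.subtype, Subgroup.map_subtype_le _, ?_, ?_, ?_, ?_⟩
  · rintro y hy _ ⟨k, hk, rfl⟩
    exact ⟨⟨y, hy⟩ * k * ⟨y, hy⟩⁻¹, (MonoidHom.normal_ker _).conj_mem k hk _, rfl⟩
  · intro x hx
    have hx' : (⟨x, hDY hx⟩ : Y) ∈ D' := hx
    constructor
    · rintro ⟨u, hu, hux⟩
      obtain rfl : u = ⟨x, hDY hx⟩ := Subtype.ext hux
      rw [SetLike.mem_coe, MonoidHom.mem_ker, hctrl _ hx', hqv _ hx' hx, QuotientGroup.eq_one_iff,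
        hR', Subgroup.mem_subgroupOf] at hu
      exact hu
    · intro hxR
      refine ⟨⟨x, hDY hx⟩, ?_, rfl⟩
      rw [SetLike.mem_coe, MonoidHom.mem_ker, hctrl _ hx', hqv _ hx' hx, QuotientGroup.eq_one_iff,
        hR', Subgroup.mem_subgroupOf]
      exact hxR
  · have hsurj : Function.Surjective ψ := fun a => by
      induction a using QuotientGroup.induction_on with
      | H g => exact ⟨⟨g, hDY g.2⟩, by rw [hctrl _ (show (⟨(g : G), hDY g.2⟩ : Y) ∈ D' from g.2)]; exact hqv _ _ g.2⟩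
    have h1 := ψ.ker.card_mul_index
    rw [Subgroup.index_ker, MonoidHom.range_eq_top.2 hsurj, Subgroup.card_top] at h1
    rw [Subgroup.card_map_of_injective Y.subtype_injective]
    exact h1
  · intro y hy ho
    refine ⟨⟨y, hy⟩, ?_, rfl⟩
    rw [SetLike.mem_coe, MonoidHom.mem_ker]
    obtain ⟨k, hk⟩ := ho
    have h1 : ψ (⟨y, hy⟩ : Y) ^ orderOf y = 1 := by
      rw [← map_pow, show (⟨y, hy⟩ : Y) ^ orderOf y = 1 from
        Subtype.ext (by rw [Subgroup.coe_pow, Subgroup.coe_one]; exact pow_orderOf_eq_one y), map_one]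
    rwa [hk, pow_succ, pow_mul, pow_two, hexp, one_pow, one_mul] at h1

/-- A fixed-point-free involution inverts. -/
theorem inverts_of_fpf {N : Subgroup G} {w : G} (hw : w * w = 1)
    (hN : ∀ x ∈ N, w * x * w ∈ N) (hf : ∀ x ∈ N, Commute w x → x = 1) {x : G} (hx : x ∈ N) :
    w * x * w = x⁻¹ := by
  have hwi : w⁻¹ = w := inv_eq_of_mul_eq_one_right hw
  let f : N → N := fun y => ⟨(y : G)⁻¹ * (w * y * w), mul_mem (inv_mem y.2) (hN _ y.2)⟩
  have hinj : Function.Injective f := by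
    rintro ⟨a, ha⟩ ⟨b, hb⟩ h
    have h' : a⁻¹ * (w * a * w) = b⁻¹ * (w * b * w) := congrArg Subtype.val h
    have hc : w * (b * a⁻¹) * w⁻¹ = b * a⁻¹ := by
      calc w * (b * a⁻¹) * w⁻¹ = (w * b * w) * (w * a * w)⁻¹ := by
            simp only [mul_inv_rev, hwi, mul_assoc]
            rw [← mul_assoc w w, hw, one_mul]
        _ = b * a⁻¹ := by
            rw [show w * b * w = b * (a⁻¹ * (w * a * w)) by rw [h', mul_inv_cancel_left],
              mul_assoc, mul_assoc, mul_inv_cancel, mul_one]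
    have := hf _ (mul_mem hb (inv_mem ha)) (mul_inv_eq_iff_eq_mul.1 hc)
    exact Subtype.ext (mul_inv_eq_one.1 this).symm
  obtain ⟨⟨y, hy⟩, h⟩ := (Finite.injective_iff_surjective.1 hinj) ⟨x, hx⟩
  have h' : y⁻¹ * (w * y * w) = x := congrArg Subtype.val h
  rw [← h']
  simp only [mul_inv_rev, inv_inv, hwi, mul_assoc]
  rw [hw, mul_one]

/-- A four-group whose three involutions act on a subgroup without fixed points. -/
theorem bot_of_four_fpf {N : Subgroup G} {a b : G} (ha : a * a = 1)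
    (hb : b * b = 1) (hab : Commute a b) (na : ∀ x ∈ N, a * x * a ∈ N) (nb : ∀ x ∈ N, b * x * b ∈ N)
    (fa : ∀ x ∈ N, Commute a x → x = 1) (fb : ∀ x ∈ N, Commute b x → x = 1)
    (fab : ∀ x ∈ N, Commute (a * b) x → x = 1) : N = ⊥ := by
  refine (Subgroup.eq_bot_iff_forall _).2 fun x hx => fab x hx ?_
  have hab2 : (a * b) * (a * b) = 1 := by rw [mul_assoc, ← mul_assoc b, ← hab.eq, mul_assoc a b b, hb, mul_one, ha]
  have h1 := inverts_of_fpf hb nb fb hx
  have h2 := inverts_of_fpf ha na fa (inv_mem hx)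
  have h3 : (a * b) * x * (a * b) = x := by
    calc (a * b) * x * (a * b) = a * (b * x * b) * a := by
          nth_rw 2 [hab.eq]; simp only [mul_assoc]
      _ = x := by rw [h1, h2, inv_inv]
  calc (a * b) * x = (a * b) * x * ((a * b) * (a * b)) := by rw [hab2, mul_one]
    _ = x * (a * b) := by rw [← mul_assoc, h3]

end Cfsg.Agent.Lib.Cent192x61.AltT
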