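import Cfsg.Agent.Lib.Cent192x61.AltTData
import Cfsg.Agent.Lib.Cent192x61.AltTTransfer

/-!
# The centraliser of the code `14` in the pattern of `A₈` and `A₉`: two subgroups of small index

Owner: helper22.
-/

set_option autoImplicit false

namespace Cfsg.Agent.Lib.Cent192x61

open Code

variable {G : Type*} [Group G] {F : Frame G}

/-- The centraliser of the code `14`. -/
abbrev Frame.Yt (F : Frame G) : Subgroup G := Subgroup.centralizer ({F.emb 14} : Set G)

namespace AltT

theorem mem_Yt {g : G} : g ∈ F.Yt ↔ Commute g (F.emb 14) := Subgroup.mem_centralizer_singleton_iff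

variable (h : F.CaseAlt)
include h

theorem ht : F.typ = true := h.1
theorem hs : F.sq = false := h.2.1

theorem mEq : F.m = Code.mul true false := Frame.m_eq h.1 h.2.1

theorem cjEq : Code.conj F.typ F.sq = Code.conj true false := by rw [h.1, h.2.1]

theorem isSub' {l : List ℕ} (hl : Code.isSub true false l = true) : Code.isSub F.typ F.sq l = true := by
  rw [h.1, h.2.1]; exact hl

/-- The subgroup `C(14) ∩ C(16)`. -/
def D : Subgroup G := F.subg Code.listD (isSub' h (by
  have h' := Code.listD_ok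
  simp only [Bool.and_eq_true] at h'
  exact h'.1.1.1.1.1.1.1))

/-- The elementary subgroup of order sixteen. -/
def E : Subgroup G := F.E h.1 h.2.1

/-- The four-group moved by the elements of order three. -/
def W : Subgroup G := F.subg Code.listW (isSub' h Code.table_alt.2.1)

theorem mem_E {x : G} : x ∈ E h ↔ ∃ c ∈ Code.listE, F.emb c = x := Iff.rfl
theorem mem_D {x : G} : x ∈ D h ↔ ∃ c ∈ Code.listD, F.emb c = x := Iff.rfl
theorem mem_W {x : G} : x ∈ W h ↔ ∃ c ∈ Code.listW, F.emb c = x := Iff.rfl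

omit h in
theorem listD_lt {c : ℕ} (hc : c ∈ Code.listD) : c < 192 := by
  revert c; decide +kernel

omit h in
theorem listW_lt {c : ℕ} (hc : c ∈ Code.listW) : c < 192 := by
  revert c; decide +kernel

theorem D_facts : (∀ g < 192, F.m g 14 = F.m 14 g → g ∈ Code.listD) ∧
    (∀ g ∈ Code.listD, g ∈ Code.syl ∧ F.m g 14 = F.m 14 g) ∧
    (∀ g ∈ Code.listE, g ∈ Code.listD) ∧ (∀ g ∈ Code.listD, F.m g g ∈ Code.listE) ∧
    (∀ g ∈ Code.listD, g ∈ Code.listE ∨ F.m g g ≠ 0 ∨ g ∈ [7, 9, 23, 25]) := by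
  have h' := Code.listD_ok
  simp only [Bool.and_eq_true, List.all_eq_true, Bool.or_eq_true, beq_iff_eq, bne_iff_ne,
    List.contains_iff_mem, decide_eq_true_eq, elems, List.mem_range] at h'
  obtain ⟨⟨⟨⟨⟨⟨-, h1⟩, h2⟩, h3⟩, h4⟩, h5⟩, -⟩ := h'
  rw [mEq h]
  exact ⟨fun g hg e => (h1 g hg).resolve_left (fun h => h e), h2, h3, h4,
    fun g hg => or_assoc.1 (h5 g hg)⟩

theorem emb_mul' {a b c : ℕ} (ha : a < 192) (hb : b < 192) (e : Code.mul true false a b = c) :
    F.emb a * F.emb b = F.emb c := by rw [← F.emb_m ha hb, mEq h, e]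

theorem D_le : D h ≤ F.Yt := by
  rintro _ ⟨c, hc, rfl⟩
  exact mem_Yt.2 ((F.commute_iff (listD_lt hc) (by norm_num)).2 ((D_facts h).2.1 c hc).2)

theorem E_le_D : E h ≤ D h := by
  rintro _ ⟨c, hc, rfl⟩; exact ⟨c, (D_facts h).2.2.1 c hc, rfl⟩

theorem E_le_Yt : E h ≤ F.Yt := (E_le_D h).trans (D_le h)

theorem card_D : Nat.card (D h) = 32 := F.card_subg _ (by decide +kernel)
theorem card_E : Nat.card (E h) = 16 := Frame.card_E h.1 h.2.1
theorem card_W : Nat.card (W h) = 4 := F.card_subg _ (by decide +kernel)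

theorem W_le_E : W h ≤ E h := by
  rintro _ ⟨c, hc, rfl⟩
  refine ⟨c, ?_, rfl⟩
  revert c; decide +kernel

theorem emb_mem_E {c : ℕ} (hc : c ∈ Code.listE) : F.emb c ∈ E h := ⟨c, hc, rfl⟩

theorem t_mem_E : F.emb 14 ∈ E h := ⟨14, by decide, rfl⟩

theorem orderOf_t : orderOf (F.emb 14) = 2 := by
  refine (F.invol_iff (by norm_num)).2 ?_
  rw [h.1, h.2.1]; decide +kernel

variable [Finite G]

/-- The classes inside `E`. -/
theorem class_E {a : ℕ} (ha : a ∈ Code.listE) (ha0 : a ≠ 0) :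
    if a ∈ Code.listT then IsConj (F.emb 14) (F.emb a) else IsConj F.s (F.emb a) := by
  have h' := Code.listT_ok
  simp only [Bool.and_eq_true, List.all_eq_true] at h'
  have key : ∀ b ∈ Code.listE, b ≠ 0 →
      ((b ∈ Code.listT → (cls true false b 7 = true ∨ cls true false b 112 = true)) ∧
      (b ∉ Code.listT → ((cls true false b 16 = true ∨ cls true false b 5 = true) ∨
        cls true false b 6 = true) ∨ cls true false b 96 = true)) := by
    intro b hb hb0
    have e := h'.1.1.1.1.1 b hb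
    simp only [Bool.or_eq_true, beq_iff_eq, hb0, false_or] at e
    by_cases hm : b ∈ Code.listT
    · refine ⟨fun _ => ?_, fun hn => absurd hm hn⟩
      simpa [hm] using e
    · refine ⟨fun hn => absurd hn hm, fun _ => ?_⟩
      simpa [hm] using e
  have hcl : ∀ {b c : ℕ}, b < 192 → c < 192 → cls true false b c = true →
      IsConj (F.emb b) (F.emb c) := fun hb hc e => Frame.isConj_cls hb hc (by rw [h.1, h.2.1]; exact e)
  have hto7 : ∀ b < 192, (cls true false b 7 = true ∨ cls true false b 112 = true) →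
      IsConj (F.emb b) (F.emb 7) := fun b hb e => e.elim (hcl hb (by norm_num))
    fun e => (hcl hb (by norm_num) e).trans h.2.2.2.2.2.2.1.symm
  have halt := Frame.listE_lt ha
  split_ifs with hm
  · exact (hto7 14 (by norm_num) ((key 14 (by decide) (by decide)).1 (by decide))).trans
      (hto7 a halt ((key a ha ha0).1 hm)).symm
  · obtain ⟨-, -, h5, h6, h96, -⟩ := h
    rcases (key a ha ha0).2 hm with ((e | e) | e) | e
    · exact (hcl halt (by norm_num) e).symm
    · exact h5.trans (hcl halt (by norm_num) e).symm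
    · exact h6.trans (hcl halt (by norm_num) e).symm
    · exact h96.trans (hcl halt (by norm_num) e).symm

theorem t_conj_seven : IsConj (F.emb 14) (F.emb 7) :=
  Frame.isConj_cls (by norm_num) (by norm_num) (by rw [h.1, h.2.1]; decide +kernel)

theorem not_s_t : ¬ IsConj F.s (F.emb 14) := fun e => h.2.2.2.2.2.1 (e.trans (t_conj_seven h))

theorem not_both {x : G} (hF : IsConj F.s x) (hT : IsConj (F.emb 14) x) : False :=
  not_s_t h (hF.trans hT.symm)

theorem mem_T_iff {a : ℕ} (ha : a ∈ Code.listE) (ha0 : a ≠ 0) :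
    IsConj (F.emb 14) (F.emb a) ↔ a ∈ Code.listT := by
  have e := class_E h ha ha0
  split_ifs at e with hm
  · exact ⟨fun _ => hm, fun _ => e⟩
  · exact ⟨fun h' => (not_both h e h').elim, fun h' => absurd h' hm⟩

theorem card_dvd_32 {R : Subgroup G} (hR : IsPGroup 2 R) (hle : R ≤ F.Yt) : Nat.card R ∣ 32 := by
  have hz : IsPGroup 2 (Subgroup.zpowers (F.emb 14)) :=
    IsPGroup.of_card (n := 1) (by rw [Nat.card_zpowers, orderOf_t h, pow_one])
  have hnorm : R ≤ Subgroup.normalizer ((Subgroup.zpowers (F.emb 14) : Subgroup G) : Set G) := by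
    intro r hr
    refine Subgroup.mem_normalizer_iff.2 fun x => ?_
    have hc : ∀ y ∈ Subgroup.zpowers (F.emb 14), r * y * r⁻¹ = y := by
      rintro _ ⟨n, rfl⟩
      exact mul_inv_eq_iff_eq_mul.2 ((mem_Yt.1 (hle hr)).zpow_right n).eq
    constructor
    · intro hx; rw [hc x hx]; exact hx
    · intro hx
      have := hc _ hx
      have e : x = r * x * r⁻¹ := mul_left_cancel (mul_right_cancel (this.symm))
      rw [e]; exact hx
  have hsup := hR.to_sup_of_normal_right' hz hnorm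
  refine (Subgroup.card_dvd_of_le (le_sup_left : R ≤ R ⊔ Subgroup.zpowers (F.emb 14))).trans
    (F.card_le_32 (orderOf_t h) (not_s_t h) hsup (Subgroup.mem_sup_right (Subgroup.mem_zpowers _)) ?_)
  intro x hx
  have hle' : R ⊔ Subgroup.zpowers (F.emb 14) ≤ F.Yt :=
    sup_le hle (Subgroup.zpowers_le.2 (mem_Yt.2 (Commute.refl _)))
  exact (mem_Yt.1 (hle' hx)).symm

theorem sylow_D : ∃ P : Sylow 2 F.Yt, (P : Subgroup F.Yt) = (D h).subgroupOf F.Yt := by
  have : Fact (Nat.Prime 2) := ⟨Nat.prime_two⟩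
  have hp : IsPGroup 2 ((D h).subgroupOf F.Yt) :=
    (IsPGroup.of_card (G := D h) (n := 5) (by rw [card_D h]; norm_num)).of_equiv
      (Subgroup.subgroupOfEquivOfLe (D_le h)).symm
  obtain ⟨P, hP⟩ := hp.exists_le_sylow
  refine ⟨P, (Subgroup.eq_of_le_of_card_ge hP ?_).symm⟩
  rw [Nat.card_congr (Subgroup.subgroupOfEquivOfLe (D_le h)).toEquiv, card_D h,
    ← Subgroup.card_map_of_injective F.Yt.subtype_injective]
  exact Nat.le_of_dvd (by norm_num) (card_dvd_32 h (P.2.map _) (Subgroup.map_subtype_le _))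

theorem odd_relIndex_D : Odd ((D h).relIndex F.Yt) := by
  have : Fact (Nat.Prime 2) := ⟨Nat.prime_two⟩
  obtain ⟨P, hP⟩ := sylow_D h
  have h1 := P.not_dvd_index
  rw [hP] at h1
  exact Nat.odd_iff.2 (Nat.two_dvd_ne_zero.1 h1)

theorem exists_conj_D {R : Subgroup G} (hR : IsPGroup 2 R) (hle : R ≤ F.Yt) :
    ∃ g ∈ F.Yt, ∀ x ∈ R, g * x * g⁻¹ ∈ D h := by
  have : Fact (Nat.Prime 2) := ⟨Nat.prime_two⟩
  obtain ⟨P, hP⟩ := sylow_D h
  obtain ⟨Q, hQ⟩ := (hR.of_equiv (Subgroup.subgroupOfEquivOfLe hle).symm :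
    IsPGroup 2 (R.subgroupOf F.Yt)).exists_le_sylow
  obtain ⟨g, hg⟩ := MulAction.exists_smul_eq F.Yt Q P
  refine ⟨g, g.2, fun x hx => ?_⟩
  have h1 : g * ⟨x, hle hx⟩ * g⁻¹ ∈ (P : Subgroup F.Yt) := by
    rw [← hg, Sylow.coe_subgroup_smul]
    exact ⟨⟨x, hle hx⟩, hQ (Subgroup.mem_subgroupOf.2 hx), rfl⟩
  rw [hP] at h1
  exact Subgroup.mem_subgroupOf.1 h1

/-- No involution of `D` outside `E` is fused into `E` inside `C(14)`. -/
theorem no_fusion {x : ℕ} (hx : x ∈ [7, 9, 23, 25]) {a : G} (ha : a ∈ F.Yt)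
    (he : a * F.emb x * a⁻¹ ∈ E h) : False := by
  have : Fact (Nat.Prime 2) := ⟨Nat.prime_two⟩
  have h' := Code.listX_ok
  simp only [Bool.and_eq_true, List.all_eq_true, Bool.or_eq_true, beq_iff_eq, bne_iff_ne,
    List.contains_iff_mem, decide_eq_true_eq, elems, List.mem_range] at h'
  obtain ⟨⟨⟨hsub, hnd⟩, hX⟩, hXc⟩ := h'
  obtain ⟨⟨-, hall⟩, hcomm⟩ := hX x hx
  have hx' : x < 192 := (show ∀ y ∈ [7, 9, 23, 25], y < 192 by decide) x hx
  set C : Subgroup G := Subgroup.centralizer ({F.emb 14, F.emb x} : Set G) with hC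
  have memC : ∀ g, g ∈ C ↔ Commute g (F.emb 14) ∧ Commute g (F.emb x) := fun g => by
    rw [hC, Subgroup.mem_centralizer_iff]
    simp [Commute, SemiconjBy, eq_comm]
  set X := F.subg Code.listX (isSub' h hsub) with hXdef
  have hXC : X ≤ C := by
    rintro _ ⟨c, hc, rfl⟩
    have hc' := F.isSub_lt (isSub' h hsub) hc
    rw [memC, F.commute_iff hc' (by norm_num), F.commute_iff hc' hx', mEq h]
    exact ⟨(hcomm c hc).2, (hcomm c hc).1⟩
  set R := (E h).map (MulAut.conj a⁻¹).toMonoidHom with hRdef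
  have hRC : R ≤ C := by
    rintro _ ⟨e, hee, rfl⟩
    rw [memC]
    refine ⟨mem_Yt.1 (mul_mem (mul_mem (inv_mem ha) (E_le_Yt h hee)) (inv_mem (inv_mem ha))), ?_⟩
    have h1 := (Frame.E_comm h.1 h.2.1 hee he).map (MulAut.conj a⁻¹)
    simpa [mul_assoc] using h1
  have hRp : IsPGroup 2 R :=
    (IsPGroup.of_card (G := E h) (n := 4) (by rw [card_E h]; norm_num)).map _
  have hXp : IsPGroup 2 X := IsPGroup.of_card (n := 3) (by rw [hXdef, F.card_subg _ hnd]; rfl)
  obtain ⟨P1, hP1⟩ := (hXp.of_equiv (Subgroup.subgroupOfEquivOfLe hXC).symm :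
    IsPGroup 2 (X.subgroupOf C)).exists_le_sylow
  obtain ⟨P2, hP2⟩ := (hRp.of_equiv (Subgroup.subgroupOfEquivOfLe hRC).symm :
    IsPGroup 2 (R.subgroupOf C)).exists_le_sylow
  have hcard : 16 ≤ Nat.card (P1 : Subgroup C) := by
    have h1 := Nat.card_le_card_of_injective _ (Subgroup.inclusion_injective hP2)
    rw [Nat.card_congr (Subgroup.subgroupOfEquivOfLe hRC).toEquiv, hRdef,
      Subgroup.card_map_of_injective (MulAut.conj a⁻¹).injective, card_E h] at h1
    rwa [Sylow.card_eq_multiplicity, ← P2.card_eq_multiplicity]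
  set P := (P1 : Subgroup C).map C.subtype with hPdef
  have hXP : X < P := by
    refine lt_of_le_of_ne (fun y hy => ⟨⟨y, hXC hy⟩, hP1 (Subgroup.mem_subgroupOf.2 hy), rfl⟩) fun e => ?_
    have h1 : Nat.card X = Nat.card P := by rw [e]
    rw [hXdef, F.card_subg _ hnd, hPdef, Subgroup.card_map_of_injective C.subtype_injective] at h1
    rw [← h1] at hcard
    exact absurd hcard (by decide)
  haveI : Group.IsNilpotent P := (P1.2.map _).isNilpotent
  obtain ⟨n, hn, hnX⟩ := SetLike.exists_of_lt (Involutions.StronglyEmbedded.lt_inf_normalizer hXP)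
  obtain ⟨c, hc, hce⟩ := (Subgroup.mem_normalizer_iff.1 hn.2 F.s).1 ⟨16, by decide, rfl⟩
  have hcF : IsConj F.s (F.emb c) := hce ▸ isConj_iff.2 ⟨n, rfl⟩
  have hc16 : c = 16 := by
    have hc' := F.isSub_lt (isSub' h hsub) hc
    rcases hXc c hc with ((e | e) | e) | e
    · rw [e, F.emb_zero, isConj_one_left] at hcF
      exact absurd hcF (Involutions.Basic.invol_ne_one F.orderOf_s)
    · exact e
    · exact absurd (hcF.trans (Frame.isConj_cls hc' (by norm_num) (by rw [h.1, h.2.1]; exact e)))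
        h.2.2.2.2.2.1
    · exact absurd ((hcF.trans (Frame.isConj_cls hc' (by norm_num) (by rw [h.1, h.2.1]; exact e))).trans
        h.2.2.2.2.2.2.1.symm) h.2.2.2.2.2.1
  rw [hc16] at hce
  obtain ⟨g, hg, rfl⟩ := F.exists_code (g := n) (mul_inv_eq_iff_eq_mul.1 hce.symm)
  refine hnX ⟨g, ?_, rfl⟩
  have hnC := (memC _).1 (Subgroup.map_subtype_le _ hn.1)
  rw [F.commute_iff hg (by norm_num), F.commute_iff hg hx', mEq h] at hnC
  exact ((hall g hg).resolve_left fun e => e.elim (fun e => e hnC.1) fun e => e hnC.2)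

/-- An element of odd order of `C(14)` centralising an element of `E` outside `⟨14, 112⟩` is trivial. -/
theorem no_odd {a : ℕ} (ha : a ∈ Code.listE) (haV : a ∉ Code.listV) {τ : G} (hτ : τ ∈ F.Yt)
    (hτa : Commute τ (F.emb a)) (hodd : Odd (orderOf τ)) : τ = 1 := by
  have hT := Code.listT_ok
  simp only [Bool.and_eq_true, List.all_eq_true] at hT
  have e := hT.1.1.1.2 a ha
  simp only [Bool.or_eq_true, haV, false_or, Bool.and_eq_true,
    Bool.not_eq_true', Bool.and_eq_false_iff, List.contains_eq_mem, decide_eq_false_iff_not,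
    decide_eq_true_eq] at e
  obtain ⟨hb, hone⟩ := e
  have ha' := Frame.listE_lt ha
  have hb0 : Code.mul true false 14 a ≠ 0 ∧ Code.mul true false 14 a ≠ 14 ∧ a ≠ 14 ∧ a ≠ 0 :=
    (show ∀ c ∈ Code.listE, c ∉ Code.listV → Code.mul true false 14 c ≠ 0 ∧
      Code.mul true false 14 c ≠ 14 ∧ c ≠ 14 ∧ c ≠ 0 by decide +kernel) a ha haV
  obtain ⟨d, hd, hdt, hdτ⟩ :
      ∃ d, IsConj F.s d ∧ Commute (F.emb 14) d ∧ Commute τ d := by
    have hct : Commute (F.emb 14) (F.emb a) :=
      Frame.E_comm h.1 h.2.1 (t_mem_E h) (emb_mem_E h ha)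
    have hme : F.emb (Code.mul true false 14 a) = F.emb 14 * F.emb a :=
      (emb_mul' h (by norm_num) ha' rfl).symm
    rcases hone with hn | hn
    · have := class_E h ha hb0.2.2.2
      rw [if_neg hn] at this
      exact ⟨_, this, hct, hτa⟩
    · have := class_E h hb hb0.1
      rw [if_neg hn] at this
      refine ⟨_, this, ?_, ?_⟩
      · rw [hme]; exact (Commute.refl _).mul_right hct
      · rw [hme]; exact (mem_Yt.1 hτ).mul_right hτa
  by_contra hne
  -- the order of `τ` is three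
  have h3 : τ ^ 3 = 1 := by
    obtain ⟨g, rfl⟩ := isConj_iff.1 hd
    have h1 := hdτ.map (MulAut.conj g⁻¹)
    simp only [MulAut.conj_apply, inv_inv] at h1
    rw [show g⁻¹ * (g * F.s * g⁻¹) * g = F.s by group] at h1
    have h2 := orderOf_dvd_natCard (⟨g⁻¹ * τ * g, F.mem_L.2 h1⟩ : F.L)
    have ho : orderOf (g⁻¹ * τ * g) = orderOf τ := by
      simpa using MulEquiv.orderOf_eq (MulAut.conj g⁻¹) τ
    rw [Subgroup.orderOf_mk, F.card_L, ho, show (192 : ℕ) = 2 ^ 6 * 3 by norm_num] at h2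
    exact orderOf_dvd_iff_pow_eq_one.1
      ((Nat.Coprime.pow_right 6 (Nat.coprime_two_right.2 hodd)).dvd_of_dvd_mul_left h2)
  have h1 := F.eq_of_three hd h3 hne hdτ (orderOf_t h) hdt (mem_Yt.1 hτ).symm
  exact not_both h hd (h1 ▸ IsConj.refl _)

end AltT

end Cfsg.Agent.Lib.Cent192x61
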