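import Cfsg.Agent.Lib.Cent192x61.AltTBasic
import Cfsg.Agent.Lib.DihedralCentralizer.Klein

/-!
# The centraliser of the code `14`: the product of a four-group and a group with Sylow subgroup `W`

Owner: helper22.
-/

set_option autoImplicit false

namespace Cfsg.Agent.Lib.Cent192x61

open Code

universe u

variable {G : Type u} [Group G] [Finite G] {F : Frame G}

namespace AltT

/-- The subgroup of index two with Sylow subgroup `E` and its subgroup of index four. -/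
structure Core (h : F.CaseAlt) where
  Y0 : Subgroup G
  K : Subgroup G
  Y0le : Y0 ≤ F.Yt
  Kle : K ≤ Y0
  Y0n : ∀ y ∈ F.Yt, ∀ k ∈ Y0, y * k * y⁻¹ ∈ Y0
  Kn : ∀ y ∈ Y0, ∀ k ∈ K, y * k * y⁻¹ ∈ K
  memD : ∀ x ∈ D h, (x ∈ Y0 ↔ x ∈ E h)
  memE : ∀ x ∈ E h, (x ∈ K ↔ x ∈ W h)
  cardY0 : Nat.card Y0 * 2 = Nat.card F.Yt
  cardK : Nat.card K * 4 = Nat.card Y0
  oddY0 : ∀ y ∈ F.Yt, Odd (orderOf y) → y ∈ Y0
  oddK : ∀ y ∈ Y0, Odd (orderOf y) → y ∈ K
  dvd16 : ∀ R : Subgroup G, IsPGroup 2 R → R ≤ Y0 → Nat.card R ∣ 16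
  dvd4 : ∀ R : Subgroup G, IsPGroup 2 R → R ≤ K → Nat.card R ∣ 4

theorem pow_dvd_of {n k m : ℕ} (hm : Odd m) (h : 2 ^ n ∣ 2 ^ k * m) : 2 ^ n ∣ 2 ^ k :=
  (Nat.Coprime.pow_left n (Nat.coprime_two_left.2 hm)).dvd_of_dvd_mul_right h

theorem dvd_pow_of {R X : Subgroup G} (hR : IsPGroup 2 R) (hle : R ≤ X) {k m : ℕ} (hm : Odd m)
    (hX : Nat.card X = 2 ^ k * m) : Nat.card R ∣ 2 ^ k := by
  have : Fact (Nat.Prime 2) := ⟨Nat.prime_two⟩
  obtain ⟨n, hn⟩ := hR.exists_card_eq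
  have h1 := Subgroup.card_dvd_of_le hle
  rw [hn, hX] at h1
  rw [hn]
  exact pow_dvd_of hm h1

/-- An element of `Y0` of two-power order normalising `E` lies in it. -/
theorem mem_E_of_normalizes {h : F.CaseAlt} {Y0 : Subgroup G} (hE : E h ≤ Y0)
    (h16 : ∀ R : Subgroup G, IsPGroup 2 R → R ≤ Y0 → Nat.card R ∣ 16) {n : G} (hn : n ∈ Y0)
    (hnorm : ∀ x ∈ E h, n * x * n⁻¹ ∈ E h) (hp : ∃ k, orderOf n = 2 ^ k) : n ∈ E h := by
  obtain ⟨k, hk⟩ := hp
  have hmem : n ∈ Subgroup.normalizer ((E h : Subgroup G) : Set G) := by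
    have hfin : (fun x => n * x * n⁻¹) '' (E h : Set G) = E h := by
      refine Set.eq_of_subset_of_ncard_le (by rintro _ ⟨x, hx, rfl⟩; exact hnorm x hx) ?_
      rw [Set.ncard_image_of_injective _ (fun a b e => by simpa using e)]
    refine Subgroup.mem_normalizer_iff.2 fun x => ⟨hnorm x, fun hx => ?_⟩
    obtain ⟨y, hy, hye⟩ := hfin.ge hx
    have : y = x := by simpa using hye
    exact this ▸ hy
  have hz : IsPGroup 2 (Subgroup.zpowers n) := IsPGroup.of_card (by rw [Nat.card_zpowers, hk])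
  have hEp : IsPGroup 2 (E h) := IsPGroup.of_card (n := 4) (by rw [card_E h]; norm_num)
  have hsup := hz.to_sup_of_normal_right' hEp (Subgroup.zpowers_le.2 hmem)
  have heq : E h = Subgroup.zpowers n ⊔ E h := Subgroup.eq_of_le_of_card_ge le_sup_right (by
    rw [card_E h]
    exact Nat.le_of_dvd (by norm_num) (h16 _ hsup (sup_le (Subgroup.zpowers_le.2 hn) hE)))
  rw [heq]
  exact Subgroup.mem_sup_left (Subgroup.mem_zpowers n)

theorem listE_split : ∀ a ∈ Code.listE, ∃ v ∈ Code.listV, ∃ w ∈ Code.listW,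
    Code.mul true false v w = a := by decide +kernel

theorem listT_facts : ∀ a ∈ Code.listT, a ∈ Code.listE ∧ a ≠ 0 ∧
    (Code.mul true false 14 a ∈ Code.listT → a = 112 ∨ a = 126) ∧
    (a ≠ 14 → a ≠ 112 → a ≠ 126 → a ∈ Code.listW) := by decide +kernel

/-- An element of `C(14)` normalising `E` fixes or exchanges `112` and `126`, and stabilises `W`. -/
theorem normalizer_E (h : F.CaseAlt) {n : G} (hn : n ∈ F.Yt)
    (hnorm : ∀ x ∈ E h, n * x * n⁻¹ ∈ E h) :
    (n * F.emb 112 * n⁻¹ = F.emb 112 ∧ n * F.emb 126 * n⁻¹ = F.emb 126 ∨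
      n * F.emb 112 * n⁻¹ = F.emb 126 ∧ n * F.emb 126 * n⁻¹ = F.emb 112) ∧
      ∀ w ∈ W h, n * w * n⁻¹ ∈ W h := by
  have hfix : n * F.emb 14 * n⁻¹ = F.emb 14 := mul_inv_eq_iff_eq_mul.2 (mem_Yt.1 hn).eq
  have hT : ∀ a ∈ Code.listT, ∃ b ∈ Code.listT, n * F.emb a * n⁻¹ = F.emb b := by
    intro a ha
    obtain ⟨haE, ha0, -⟩ := listT_facts a ha
    obtain ⟨b, hb, hbe⟩ := hnorm _ (emb_mem_E h haE)
    refine ⟨b, ?_, hbe.symm⟩
    have hb0 : b ≠ 0 := by
      rintro rfl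
      rw [F.emb_zero] at hbe
      exact ha0 ((F.emb_eq_one (Frame.listE_lt haE)).1 (conj_eq_one_iff.1 hbe.symm))
    rw [← mem_T_iff h hb hb0]
    refine ((mem_T_iff h haE ha0).2 ha).trans (isConj_iff.2 ⟨n, hbe.symm⟩)
  have h126 : F.emb 126 = F.emb 14 * F.emb 112 :=
    (emb_mul' h (by norm_num) (by norm_num) Code.table_alt.2.2.2.2.2.1).symm
  have h112' : F.emb 112 = F.emb 14 * F.emb 126 :=
    (emb_mul' h (by norm_num) (by norm_num) Code.table_alt.2.2.2.2.2.2.1).symm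
  obtain ⟨b, hb, hb112⟩ := hT 112 (by decide)
  have hb' := (listT_facts b hb).1
  have h2 : n * F.emb 126 * n⁻¹ = F.emb (Code.mul true false 14 b) := by
    rw [← emb_mul' h (by norm_num) (Frame.listE_lt hb') rfl, h126]
    calc n * (F.emb 14 * F.emb 112) * n⁻¹ = (n * F.emb 14 * n⁻¹) * (n * F.emb 112 * n⁻¹) := by group
      _ = _ := by rw [hfix, hb112]
  have hb2 : b = 112 ∨ b = 126 := by
    refine (listT_facts b hb).2.2.1 ?_
    obtain ⟨c, hc, hce⟩ := hT 126 (by decide)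
    rw [h2, F.emb_eq_iff (F.lt_m (a := 14) (by norm_num) (Frame.listE_lt hb') |> fun e => by
      rwa [mEq h] at e) (Frame.listE_lt (listT_facts c hc).1)] at hce
    rw [hce]; exact hc
  have hV : n * F.emb 112 * n⁻¹ = F.emb 112 ∧ n * F.emb 126 * n⁻¹ = F.emb 126 ∨
      n * F.emb 112 * n⁻¹ = F.emb 126 ∧ n * F.emb 126 * n⁻¹ = F.emb 112 := by
    rcases hb2 with rfl | rfl
    · exact Or.inl ⟨hb112, by rw [h2, Code.table_alt.2.2.2.2.2.1]⟩
    · exact Or.inr ⟨hb112, by rw [h2, Code.table_alt.2.2.2.2.2.2.1]⟩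
  refine ⟨hV, ?_⟩
  rintro _ ⟨w, hw, rfl⟩
  rcases eq_or_ne w 0 with rfl | hw0
  · rw [F.emb_zero, mul_one, mul_inv_cancel]; exact one_mem _
  have hwT : w ∈ Code.listT ∧ w ≠ 14 ∧ w ≠ 112 ∧ w ≠ 126 :=
    (show ∀ w ∈ Code.listW, w ≠ 0 → w ∈ Code.listT ∧ w ≠ 14 ∧ w ≠ 112 ∧ w ≠ 126 by decide) w hw hw0
  obtain ⟨c, hc, hce⟩ := hT w hwT.1
  rw [hce]
  have hw' := listW_lt hw
  have hinj : ∀ {a}, a < 192 → a ≠ w → n * F.emb w * n⁻¹ ≠ n * F.emb a * n⁻¹ := fun ha hne e =>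
    hne (F.emb_inj _ ha _ hw' (mul_left_cancel (mul_right_cancel e.symm)))
  refine ⟨c, (listT_facts c hc).2.2.2 ?_ ?_ ?_, rfl⟩
  · rintro rfl; exact hinj (by norm_num) hwT.2.1.symm (hce.trans hfix.symm)
  · rintro rfl
    rcases hV with e | e
    · exact hinj (by norm_num) hwT.2.2.1.symm (hce.trans e.1.symm)
    · exact hinj (by norm_num) hwT.2.2.2.symm (hce.trans e.2.symm)
  · rintro rfl
    rcases hV with e | e
    · exact hinj (by norm_num) hwT.2.2.2.symm (hce.trans e.2.symm)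
    · exact hinj (by norm_num) hwT.2.2.1.symm (hce.trans e.1.symm)

theorem exists_core (h : F.CaseAlt) : Nonempty (Core h) := by
  have : Fact (Nat.Prime 2) := ⟨Nat.prime_two⟩
  have hidx : (E h).relIndex (D h) = 2 := by
    have h1 := Subgroup.card_mul_index ((E h).subgroupOf (D h))
    rw [Nat.card_congr (Subgroup.subgroupOfEquivOfLe (E_le_D h)).toEquiv, card_E h, card_D h] at h1
    show ((E h).subgroupOf (D h)).index = 2
    omega
  have hiff : ∀ x ∈ D h, ∀ y ∈ D h, (x * y ∈ E h ↔ (x ∈ E h ↔ y ∈ E h)) := fun x hx y hy =>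
    Subgroup.mul_mem_iff_of_index_two (H := (E h).subgroupOf (D h)) (a := ⟨x, hx⟩) (b := ⟨y, hy⟩) hidx
  have hinv : ∀ x ∈ D h, x * x = 1 → x ∉ E h → ∃ c ∈ [7, 9, 23, 25], x = F.emb c := by
    rintro _ ⟨c, hc, rfl⟩ h2 hnE
    rw [← F.emb_m (listD_lt hc) (listD_lt hc), F.emb_eq_one (F.lt_m (listD_lt hc) (listD_lt hc))] at h2
    rcases (D_facts h).2.2.2.2 c hc with e | e | e
    · exact absurd (emb_mem_E h e) hnE
    · exact absurd h2 e
    · exact ⟨c, e, rfl⟩
  have hsqE : ∀ x ∈ E h, x * x = 1 := fun x hx => Frame.E_sq h.1 h.2.1 hx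
  obtain ⟨Y0, hY0le, hY0n, hY0D, hY0card, hY0odd⟩ := exists_kernel F.Yt (D h) (E h) (D_le h) (E_le_D h)
    (odd_relIndex_D h) (by
      rintro _ ⟨c, hc, rfl⟩
      rw [← F.emb_m (listD_lt hc) (listD_lt hc)]
      exact emb_mem_E h ((D_facts h).2.2.2.1 c hc))
    (fun x hx a ha hy => by
      rw [hiff _ (inv_mem hx) _ hy, inv_mem_iff]
      constructor
      · intro hxE
        by_contra hyE
        obtain ⟨c, hc, hce⟩ := hinv _ hy (by
          rw [show a * x * a⁻¹ * (a * x * a⁻¹) = a * (x * x) * a⁻¹ by group, hsqE x hxE]; group) hyE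
        exact no_fusion h hc (inv_mem ha) (by rw [← hce]; simpa [mul_assoc] using hxE)
      · intro hyE
        by_contra hxE
        obtain ⟨c, hc, hce⟩ := hinv _ hx (by
          have h2 := hsqE _ hyE
          rw [show a * x * a⁻¹ * (a * x * a⁻¹) = a * (x * x) * a⁻¹ by group] at h2
          exact conj_eq_one_iff.1 h2) hxE
        exact no_fusion h hc ha (hce ▸ hyE))
  rw [hidx] at hY0card
  have hEY0 : E h ≤ Y0 := fun x hx => (hY0D x (E_le_D h hx)).2 hx
  set m := (D h).relIndex F.Yt with hmdef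
  have hm : Odd m := odd_relIndex_D h
  have hYcard : Nat.card F.Yt = 32 * m := by
    rw [hmdef, ← card_D h, ← Nat.card_congr (Subgroup.subgroupOfEquivOfLe (D_le h)).toEquiv]
    exact (Subgroup.card_mul_index _).symm
  have hY0m : Nat.card Y0 = 2 ^ 4 * m := by rw [hYcard] at hY0card; omega
  have h16 : ∀ R : Subgroup G, IsPGroup 2 R → R ≤ Y0 → Nat.card R ∣ 16 := fun R hR hle =>
    dvd_pow_of hR hle hm hY0m
  have hV : ∀ n ∈ Y0, (∀ x ∈ E h, n * x * n⁻¹ ∈ E h) → n * F.emb 112 * n⁻¹ = F.emb 112 := by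
    intro n hn hnorm
    rcases (normalizer_E h (hY0le hn) hnorm).1 with e | ⟨e1, e2⟩
    · exact e.1
    exfalso
    obtain ⟨k, r, hr, hkr⟩ := Nat.exists_eq_pow_mul_and_not_dvd (orderOf_pos n).ne' 2 (by norm_num)
    have hd : ∃ j, orderOf (n ^ r) = 2 ^ j := by
      have : orderOf (n ^ r) ∣ 2 ^ k := orderOf_dvd_of_pow_eq_one (by
        rw [← pow_mul, mul_comm, ← hkr, pow_orderOf_eq_one])
      obtain ⟨j, -, hj⟩ := (Nat.dvd_prime_pow Nat.prime_two).1 this
      exact ⟨j, hj⟩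
    have hnE : n ^ r ∈ E h := by
      refine mem_E_of_normalizes hEY0 h16 (pow_mem hn r) ?_ hd
      clear hd hkr hr
      induction r with
      | zero => simp
      | succ r ih =>
        intro x hx
        rw [pow_succ', show n * n ^ r * x * (n * n ^ r)⁻¹ = n * (n ^ r * x * (n ^ r)⁻¹) * n⁻¹ by group]
        exact hnorm _ (ih x hx)
    have hc : n ^ r * F.emb 112 * (n ^ r)⁻¹ = F.emb 112 :=
      mul_inv_eq_iff_eq_mul.2 (Frame.E_comm h.1 h.2.1 hnE (emb_mem_E h (by decide))).eq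
    have hsw : ∀ j, n ^ (2 * j + 1) * F.emb 112 * (n ^ (2 * j + 1))⁻¹ = F.emb 126 := by
      intro j
      induction j with
      | zero => simpa using e1
      | succ j ih =>
        rw [show 2 * (j + 1) + 1 = 1 + (1 + (2 * j + 1)) by ring, pow_add, pow_one, pow_add, pow_one]
        calc n * (n * n ^ (2 * j + 1)) * F.emb 112 * (n * (n * n ^ (2 * j + 1)))⁻¹
            = n * (n * (n ^ (2 * j + 1) * F.emb 112 * (n ^ (2 * j + 1))⁻¹) * n⁻¹) * n⁻¹ := by group
          _ = F.emb 126 := by rw [ih, e2, e1]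
    obtain ⟨j, hj⟩ : Odd r := Nat.odd_iff.2 (Nat.two_dvd_ne_zero.1 hr)
    rw [hj, hsw j] at hc
    exact absurd (F.emb_inj _ (by norm_num) _ (by norm_num) hc) (by norm_num)
  have hWidx : (W h).relIndex (E h) = 4 := by
    have h1 := Subgroup.card_mul_index ((W h).subgroupOf (E h))
    rw [Nat.card_congr (Subgroup.subgroupOfEquivOfLe (W_le_E h)).toEquiv, card_W h, card_E h] at h1
    show ((W h).subgroupOf (E h)).index = 4
    omega
  have hEidx : Odd ((E h).relIndex Y0) := by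
    have h1 : Nat.card ((E h).subgroupOf Y0) * ((E h).subgroupOf Y0).index = Nat.card Y0 :=
      Subgroup.card_mul_index _
    rw [Nat.card_congr (Subgroup.subgroupOfEquivOfLe hEY0).toEquiv, card_E h, hY0m] at h1
    show Odd ((E h).subgroupOf Y0).index
    rw [show ((E h).subgroupOf Y0).index = m by omega]
    exact hm
  obtain ⟨K, hKle, hKn, hKE, hKcard, hKodd⟩ := exists_kernel Y0 (E h) (W h) hEY0 (W_le_E h) hEidx
    (fun x hx => by rw [hsqE x hx]; exact one_mem _)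
    (fun x hx a ha hy => by
      -- `E` is an abelian Sylow subgroup of `Y0`
      have hp : IsPGroup 2 ((E h).subgroupOf Y0) :=
        (IsPGroup.of_card (G := E h) (n := 4) (by rw [card_E h]; norm_num)).of_equiv
          (Subgroup.subgroupOfEquivOfLe hEY0).symm
      obtain ⟨P, hP⟩ := hp.exists_le_sylow
      have hPE : (P : Subgroup Y0) = (E h).subgroupOf Y0 := (Subgroup.eq_of_le_of_card_ge hP (by
        rw [Nat.card_congr (Subgroup.subgroupOfEquivOfLe hEY0).toEquiv, card_E h,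
          ← Subgroup.card_map_of_injective Y0.subtype_injective]
        exact Nat.le_of_dvd (by norm_num) (h16 _ (P.2.map _) (Subgroup.map_subtype_le _)))).symm
      have : IsMulCommutative (P : Subgroup Y0) := ⟨⟨fun u v => Subtype.ext (Subtype.ext
        (Frame.E_comm h.1 h.2.1 (Subgroup.mem_subgroupOf.1 (hPE.le u.2))
          (Subgroup.mem_subgroupOf.1 (hPE.le v.2))).eq)⟩⟩
      obtain ⟨n, hn, hne⟩ := Sylow.conj_eq_normalizer_conj_of_mem P (⟨x, hEY0 hx⟩ : Y0)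
        (⟨a, ha⟩⁻¹ : Y0) (hPE.ge (Subgroup.mem_subgroupOf.2 hx))
        (hPE.ge (Subgroup.mem_subgroupOf.2 (by simpa using hy)))
      have hne' : a * x * a⁻¹ = (n : G)⁻¹ * x * (n : G) := by
        have := congrArg Subtype.val hne
        simpa using this
      have hnorm : ∀ z ∈ E h, (n : G)⁻¹ * z * ((n : G)⁻¹)⁻¹ ∈ E h := by
        intro z hz
        have := (Subgroup.mem_normalizer_iff.1 (inv_mem hn) ⟨z, hEY0 hz⟩).1
          (hPE.ge (Subgroup.mem_subgroupOf.2 hz))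
        exact Subgroup.mem_subgroupOf.1 (hPE.le this)
      have h112 := hV _ (inv_mem n.2) hnorm
      obtain ⟨hV2, hW2⟩ := normalizer_E h (hY0le (inv_mem n.2)) hnorm
      obtain ⟨c, hc, rfl⟩ := hx
      obtain ⟨v, hv, w, hw, rfl⟩ := listE_split c hc
      have hv' : v < 192 := (show ∀ v ∈ Code.listV, v < 192 by decide) v hv
      have hvfix : (n : G)⁻¹ * F.emb v * (n : G) = F.emb v := by
        have h14 : (n : G)⁻¹ * F.emb 14 * (n : G) = F.emb 14 := by
          rw [mul_assoc, (mem_Yt.1 (hY0le n.2)).symm.eq, inv_mul_cancel_left]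
        rw [inv_inv] at h112
        simp only [Code.listV, List.mem_cons, List.not_mem_nil, or_false] at hv
        rcases hv with rfl | rfl | rfl | rfl
        · rw [F.emb_zero, mul_one, inv_mul_cancel]
        · exact h14
        · exact h112
        · rw [← emb_mul' h (by norm_num) (by norm_num) Code.table_alt.2.2.2.2.2.1]
          calc (n : G)⁻¹ * (F.emb 14 * F.emb 112) * (n : G)
              = ((n : G)⁻¹ * F.emb 14 * n) * ((n : G)⁻¹ * F.emb 112 * n) := by group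
            _ = _ := by rw [h14, h112]
      rw [hne', ← emb_mul' h hv' (listW_lt hw) rfl,
        show (n : G)⁻¹ * (F.emb v * F.emb w) * (n : G) =
          ((n : G)⁻¹ * F.emb v * n) * ((n : G)⁻¹ * F.emb w * ((n : G)⁻¹)⁻¹) by group, hvfix,
        show (F.emb v * F.emb w)⁻¹ * (F.emb v * ((n : G)⁻¹ * F.emb w * ((n : G)⁻¹)⁻¹)) =
          (F.emb w)⁻¹ * ((n : G)⁻¹ * F.emb w * ((n : G)⁻¹)⁻¹) by group]
      exact mul_mem (inv_mem ⟨w, hw, rfl⟩) (hW2 _ ⟨w, hw, rfl⟩))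
  rw [hWidx] at hKcard
  exact ⟨⟨Y0, K, hY0le, hKle, hY0n, hKn, hY0D, hKE, hY0card, hKcard, hY0odd, hKodd, h16,
    fun R hR hle => dvd_pow_of hR hle (k := 2) (m := m) hm (by rw [hY0m] at hKcard; omega)⟩⟩

end AltT

end Cfsg.Agent.Lib.Cent192x61
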