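import Mathlib

/-!
# Finite facts about `(2 × 2).S₅`

Owner: helper22.
-/

set_option autoImplicit false

namespace Cfsg.Agent.Lib.Cent192x61.AltT

/-- A four-group with two coordinates, times `S₅`; odd permutations add the second coordinate to the first. -/
abbrev M5 := Bool × Bool × Equiv.Perm (Fin 5)

/-- Oddness of a permutation. -/
def odd5 (π : Equiv.Perm (Fin 5)) : Bool := decide (Equiv.Perm.sign π = -1)

/-- The product. -/
def mm (x y : M5) : M5 :=
  (x.1 ^^ (y.1 ^^ (y.2.1 && odd5 x.2.2)), x.2.1 ^^ y.2.1, x.2.2 * y.2.2)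

/-- The unit. -/
def one5 : M5 := (false, false, 1)

/-- The central involution. -/
def cen5 : M5 := (true, false, 1)

/-- The first class. -/
def isF (x : M5) : Bool :=
  !odd5 x.2.2 && decide (x.2.2 ≠ 1) && decide (x.2.2 * x.2.2 = 1) && (x.1 || x.2.1)

/-- The second class. -/
def isT (x : M5) : Bool := decide (x ≠ one5) && decide (mm x x = one5) && !isF x

/-- The fifteenth power. -/
def pow15 (w : M5) : M5 :=
  let w2 := mm w w
  let w4 := mm w2 w2
  let w8 := mm w4 w4
  mm (mm (mm w8 w4) w2) w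

/-- The central involution is a power. -/
def hasCen (w : M5) : Bool :=
  let a := pow15 w
  decide (a = cen5) || decide (mm a a = cen5)

theorem odd5_mul : ∀ π σ : Equiv.Perm (Fin 5), odd5 (π * σ) = (odd5 π ^^ odd5 σ) := by
  intro π σ
  unfold odd5
  rcases Int.units_eq_one_or (Equiv.Perm.sign π) with h | h <;>
    rcases Int.units_eq_one_or (Equiv.Perm.sign σ) with h' | h' <;> simp [h, h']

/-- The criterion for the central involution, in coordinates. -/
def hasCen' (u v : M5) : Bool :=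
  let π := u.2.2 * v.2.2
  bif odd5 u.2.2 ^^ odd5 v.2.2 then (u.2.1 ^^ v.2.1) && decide (π ^ 30 = 1)
  else (u.1 ^^ (v.1 ^^ (v.2.1 && odd5 u.2.2))) && !(u.2.1 ^^ v.2.1) && decide (π ^ 15 = 1)

theorem odd5_one : odd5 1 = false := by simp [odd5]

theorem pow15_eq (p q : Bool) (π : Equiv.Perm (Fin 5)) :
    pow15 (p, q, π) = (bif odd5 π then p ^^ q else p, q, π ^ 15) := by
  have h15 : π ^ 15 = π * π * (π * π) * (π * π * (π * π)) * (π * π * (π * π)) * (π * π) * π := by
    simp [pow_succ, mul_assoc]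
  cases h : odd5 π <;> cases p <;> cases q <;>
    simp [pow15, mm, odd5_mul, h, h15]

theorem hasCen_eq (u v : M5) : hasCen (mm u v) = hasCen' u v := by
  obtain ⟨p, q, π⟩ := u
  obtain ⟨p', q', π'⟩ := v
  have h30 : (π * π') ^ 30 = (π * π') ^ 15 * (π * π') ^ 15 := by rw [← pow_add]
  have ho : odd5 ((π * π') ^ 15) = odd5 (π * π') := by
    have : ∀ n, odd5 ((π * π') ^ (2 * n + 1)) = odd5 (π * π') := by
      intro n
      induction n with
      | zero => simp
      | succ n ih =>
        rw [show 2 * (n + 1) + 1 = (2 * n + 1) + 1 + 1 by ring, pow_succ, pow_succ, odd5_mul, odd5_mul, ih,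
          Bool.xor_assoc, Bool.xor_self, Bool.xor_false]
    exact this 7
  have hne : (π * π') ^ 15 = 1 → (odd5 π ^^ odd5 π') = false := fun e => by
    rw [← odd5_mul, ← ho, e, odd5_one]
  simp only [hasCen, mm, pow15_eq, hasCen', cen5, Prod.mk.injEq, h30, odd5_mul, ho]
  cases h : odd5 π <;> cases h' : odd5 π' <;> cases p <;> cases q <;> cases p' <;> cases q' <;>
    simp [h, h'] at hne ⊢ <;> simp [hne]

theorem central_alt : ∀ σ : Equiv.Perm (Fin 5),
    (∀ π : Equiv.Perm (Fin 5), Equiv.Perm.sign π = 1 → σ * π = π * σ) → σ = 1 := by decide +kernel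

theorem odd_prod : ∀ π : Equiv.Perm (Fin 5), Equiv.Perm.sign π = 1 →
    ∃ a : Equiv.Perm (Fin 5), a ^ 15 = 1 ∧ Equiv.Perm.sign a = 1 ∧ (a⁻¹ * π) ^ 15 = 1 := by decide +kernel

end Cfsg.Agent.Lib.Cent192x61.AltT
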