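import Cfsg.Agent.Lib.Cent192x61.AltTCount

/-!
# The number of pairs in `(2 × 2).S₅`

Owner: helper22.
-/

set_option autoImplicit false

namespace Cfsg.Agent.Lib.Cent192x61.AltT

set_option maxRecDepth 100000 in
theorem card_pairs : Fintype.card {p : {x : M5 // isF x = true} × {x : M5 // isT x = true} //
    hasCen' p.1.1 p.2.1 = true} = 555 := by decide +kernel

end Cfsg.Agent.Lib.Cent192x61.AltT
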