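import Cfsg.Agent.Lib.Cent192x61.Elem

/-!
# Computed facts about the centraliser of the code `14`

Owner: helper22.
-/

set_option autoImplicit false

namespace Cfsg.Agent.Lib.Cent192x61

open Code

/-- The codes commuting with `14`. -/
def Code.listD : List ℕ := [0, 2, 5, 7, 9, 11, 12, 14, 16, 18, 21, 23, 25, 27, 28, 30, 96, 98, 101, 103,
  105, 107, 108, 110, 112, 114, 117, 119, 121, 123, 124, 126]

/-- The codes commuting with `14` and with `7`. -/
def Code.listX : List ℕ := [0, 7, 9, 14, 16, 23, 25, 30]

/-- The codes of `listE` outside the class of `16`. -/
def Code.listT : List ℕ := [14, 30, 112, 117, 123, 126]

/-- The codes of the four-group of `14` and `112`. -/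
def Code.listV : List ℕ := [0, 14, 112, 126]

/-- The complement of `listV` in `listE`. -/
def Code.listW : List ℕ := [0, 30, 117, 123]

theorem Code.listD_ok : (isSub true false listD && decide listD.Nodup &&
    (elems.all fun g => (mul true false g 14 != mul true false 14 g) || listD.contains g) &&
    (listD.all fun g => syl.contains g && mul true false g 14 == mul true false 14 g) &&
    (listE.all fun g => listD.contains g) &&
    (listD.all fun g => listE.contains (mul true false g g)) &&
    (listD.all fun g => listE.contains g || mul true false g g != 0 || [7, 9, 23, 25].contains g) &&
    (listD.all fun g => listE.all fun a => listE.contains (conj true false g a))) = true := by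
  decide +kernel

theorem Code.listX_ok : (isSub true false listX && decide listX.Nodup &&
    ([7, 9, 23, 25].all fun x => cls true false x 7 &&
      (elems.all fun g => mul true false g 14 != mul true false 14 g ||
        mul true false g x != mul true false x g || listX.contains g) &&
      (listX.all fun g => mul true false g x == mul true false x g && mul true false g 14 == mul true false 14 g)) &&
    (listX.all fun a => a == 0 || a == 16 || cls true false a 7 || cls true false a 112)) = true := by
  decide +kernel

theorem Code.listT_ok : ((listE.all fun a => a == 0 ||
      bif listT.contains a then (cls true false a 7 || cls true false a 112)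
      else (cls true false a 16 || cls true false a 5 || cls true false a 6 || cls true false a 96)) &&
    (listT.all fun a => listE.contains a && (!listT.contains (mul true false 14 a) || a == 112 || a == 126)) &&
    (listE.all fun a => listV.contains a || listE.contains (mul true false 14 a) &&
      !(listT.contains a && listT.contains (mul true false 14 a))) &&
    (listE.all fun a => listV.any fun v => listW.any fun w => mul true false v w == a) &&
    (listW.all fun a => listE.contains a) && (listV.all fun a => listE.contains a)) = true := by
  decide +kernel

theorem Code.table_alt : isSub true false listV = true ∧ isSub true false listW = true ∧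
    mul true false 14 30 = 16 ∧ mul true false 112 30 = 110 ∧ mul true false 126 30 = 96 ∧
    mul true false 14 112 = 126 ∧ mul true false 14 126 = 112 ∧ mul true false 30 117 = 123 ∧
    mul true false 14 117 = 107 ∧ mul true false 14 123 = 101 ∧
    mul true false 7 7 = 0 ∧ conj true false 7 14 = 14 ∧ conj true false 7 112 = 126 ∧
    mul true false 7 117 ≠ mul true false 117 7 := by
  decide +kernel

end Cfsg.Agent.Lib.Cent192x61
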