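import Cfsg.Agent.Lib.Cent192x61.AltTShape
import Cfsg.Agent.Lib.Cent192x61.AltTCount
import Cfsg.Agent.Lib.HallJanko.TSplit

/-!
# The centraliser of the code `14` of order `480`: coordinates

Owner: helper22.
-/

set_option autoImplicit false

namespace Cfsg.Agent.Lib.Cent192x61

open Code

universe u

variable {G : Type u} [Group G] [Finite G] {F : Frame G}

namespace AltT

variable {h : F.CaseAlt} {ρ : G} (hρ : Rho h ρ) (C : Core h) (e : C.K ≃* alternatingGroup (Fin 5))

include hρ e in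
theorem commute_V {v : ℕ} (hv : v ∈ Code.listV) {k : G} (hk : k ∈ C.K) : Commute (F.emb v) k := by
  have hvE : F.emb v ∈ E h :=
    emb_mem_E h ((show ∀ v ∈ Code.listV, v ∈ Code.listE by decide) v hv)
  have hvY := C.E_le hvE
  let c : MulAut C.K :=
    { toFun := fun x => ⟨F.emb v * x * (F.emb v)⁻¹, C.Kn _ hvY x x.2⟩
      invFun := fun x => ⟨(F.emb v)⁻¹ * x * F.emb v, by simpa using C.Kn _ (inv_mem hvY) x x.2⟩
      left_inv := fun x => Subtype.ext (by show (F.emb v)⁻¹ * (F.emb v * (x : G) * (F.emb v)⁻¹) * F.emb v = x; group)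
      right_inv := fun x => Subtype.ext (by show F.emb v * ((F.emb v)⁻¹ * (x : G) * F.emb v) * (F.emb v)⁻¹ = x; group)
      map_mul' := fun x y => Subtype.ext (by
        show F.emb v * ((x : G) * y) * (F.emb v)⁻¹ = F.emb v * x * (F.emb v)⁻¹ * (F.emb v * y * (F.emb v)⁻¹); group) }
  have hcfix : ∀ x : C.K, Commute (F.emb v) x → c x = x := fun x hx =>
    Subtype.ext (mul_inv_eq_iff_eq_mul.2 hx.eq)
  -- `ρ` fixes `v`
  have hρv : Commute ρ (F.emb v) := by
    have h14 : Commute ρ (F.emb 14) := hρ.comm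
    obtain ⟨hV, -⟩ := normalizer_E h hρ.mem_Yt hρ.norm
    have h112 : ρ * F.emb 112 * ρ⁻¹ = F.emb 112 := by
      rcases hV with e' | ⟨e1, e2⟩
      · exact e'.1
      exfalso
      have e3 : ρ ^ 3 * F.emb 112 * (ρ ^ 3)⁻¹ = F.emb 126 := by
        calc ρ ^ 3 * F.emb 112 * (ρ ^ 3)⁻¹
            = ρ * (ρ * (ρ * F.emb 112 * ρ⁻¹) * ρ⁻¹) * ρ⁻¹ := by rw [pow_three]; group
          _ = F.emb 126 := by rw [e1, e2, e1]
      rw [hρ.cube, one_mul, inv_one, mul_one] at e3
      exact absurd (F.emb_inj _ (by norm_num) _ (by norm_num) e3) (by norm_num)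
    have hc : Commute ρ (F.emb 112) := mul_inv_eq_iff_eq_mul.1 h112
    simp only [Code.listV, List.mem_cons, List.not_mem_nil, or_false] at hv
    rcases hv with rfl | rfl | rfl | rfl
    · rw [F.emb_zero]; exact Commute.one_right _
    · exact h14
    · exact hc
    · rw [← emb_mul' h (by norm_num) (by norm_num) Code.table_alt.2.2.2.2.2.1]
      exact h14.mul_right hc
  have hW : ∀ {w}, w ∈ Code.listW → F.emb w ∈ C.K := fun hw => C.W_le ⟨_, hw, rfl⟩
  have hWE : ∀ {w}, w ∈ Code.listW → F.emb w ∈ E h := fun hw => W_le_E h ⟨_, hw, rfl⟩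
  have e3 : F.emb 30 * F.emb 117 = F.emb 123 :=
    emb_mul' h (by norm_num) (by norm_num) Code.table_alt.2.2.2.2.2.2.2.1
  have hne : ∀ {c d}, c < 192 → d < 192 → c ≠ d → F.emb c ≠ F.emb d :=
    fun hc hd hn he => hn (F.emb_inj _ hc _ hd he)
  have hnc : ∀ {w}, w ∈ Code.listW → w ≠ 0 → F.emb w * ρ ≠ ρ * F.emb w := fun hw hw0 e' =>
    hρ.moves hw hw0 e'.symm
  have h1 := HallJanko.aut_trivial e c (x := ⟨F.emb 30, hW (by decide)⟩)
    (y := ⟨F.emb 117, hW (by decide)⟩) (r := ⟨ρ, hρ.mem_K C⟩)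
    (Subtype.ext (Frame.E_sq h.1 h.2.1 (hWE (by decide))))
    (fun q => absurd ((F.emb_eq_one (by norm_num)).1 (congrArg Subtype.val q)) (by norm_num))
    (Subtype.ext (Frame.E_sq h.1 h.2.1 (hWE (by decide))))
    (fun q => absurd ((F.emb_eq_one (by norm_num)).1 (congrArg Subtype.val q)) (by norm_num))
    (fun q => hne (by norm_num) (by norm_num) (by norm_num) (congrArg Subtype.val q))
    (Subtype.ext (Frame.E_comm h.1 h.2.1 (hWE (by decide)) (hWE (by decide))).eq)
    (hcfix _ (Frame.E_comm h.1 h.2.1 hvE (hWE (by decide))))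
    (hcfix _ (Frame.E_comm h.1 h.2.1 hvE (hWE (by decide))))
    (hcfix _ hρv.symm)
    (fun q => hnc (w := 30) (by decide) (by decide) (congrArg Subtype.val q))
    (fun q => hnc (w := 117) (by decide) (by decide) (congrArg Subtype.val q))
    (fun q => by
      have q' : F.emb 30 * F.emb 117 * ρ = ρ * (F.emb 30 * F.emb 117) := congrArg Subtype.val q
      rw [e3] at q'
      exact hnc (w := 123) (by decide) (by decide) q') ⟨k, hk⟩
  exact mul_inv_eq_iff_eq_mul.1 (congrArg Subtype.val h1)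

/-- Coordinates: an involution `x` outside `Y0` and the permutation it induces. -/
structure Coord (h : F.CaseAlt) (C : Core h) (e : C.K ≃* alternatingGroup (Fin 5)) where
  σ : Equiv.Perm (Fin 5)
  σsq : σ * σ = 1
  σodd : odd5 σ = true
  x7n : ∀ k ∈ C.K, F.emb 7 * k * F.emb 7 ∈ C.K
  act : ∀ (k : G) (hk : k ∈ C.K),
    (e ⟨F.emb 7 * k * F.emb 7, x7n k hk⟩ : Equiv.Perm (Fin 5)) =
      σ * (e ⟨k, hk⟩ : Equiv.Perm (Fin 5)) * σ⁻¹

theorem seven_sq (h : F.CaseAlt) : F.emb 7 * F.emb 7 = 1 := by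
  rw [emb_mul' h (by norm_num) (by norm_num) Code.table_alt.2.2.2.2.2.2.2.2.2.2.1, F.emb_zero]

theorem exists_coord : Nonempty (Coord h C e) := by
  classical
  have : Fact (Nat.Prime 2) := ⟨Nat.prime_two⟩
  have h2 := seven_sq h
  have hxi : (F.emb 7)⁻¹ = F.emb 7 := inv_eq_of_mul_eq_one_right h2
  have hxY : F.emb 7 ∈ F.Yt := D_le h ⟨7, by decide, rfl⟩
  -- `K` is generated by elements of odd order
  have x7n : ∀ k ∈ C.K, F.emb 7 * k * F.emb 7 ∈ C.K := by
    intro k hk
    obtain ⟨a, ha, hasgn, hb⟩ := odd_prod (e ⟨k, hk⟩ : Equiv.Perm (Fin 5))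
      (Equiv.Perm.mem_alternatingGroup.1 (e ⟨k, hk⟩).2)
    set a' : C.K := e.symm ⟨a, Equiv.Perm.mem_alternatingGroup.2 hasgn⟩ with ha'
    set b' : C.K := a'⁻¹ * ⟨k, hk⟩ with hb'
    have hodd : ∀ y : C.K, y ^ 15 = 1 → F.emb 7 * (y : G) * F.emb 7 ∈ C.K := by
      intro y hy
      have hy' : Odd (orderOf (F.emb 7 * (y : G) * F.emb 7)) := by
        have := MulEquiv.orderOf_eq (MulAut.conj (F.emb 7)) (y : G)
        rw [MulAut.conj_apply, hxi, Subgroup.orderOf_coe] at this
        rw [this]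
        exact (by decide : Odd 15).of_dvd_nat (orderOf_dvd_of_pow_eq_one hy)
      refine C.oddK _ ?_ hy'
      have := C.Y0n _ hxY _ (C.Kle y.2)
      rwa [hxi] at this
    have hb15 : b' ^ 15 = 1 := e.injective (by
      rw [map_pow, map_one, hb', map_mul, map_inv, ha', e.apply_symm_apply]
      exact Subtype.ext (by push_cast; exact hb))
    have ha15 : a' ^ 15 = 1 := e.injective (by
      rw [map_pow, map_one, ha', e.apply_symm_apply]
      exact Subtype.ext (by push_cast; exact ha))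
    have hprod : F.emb 7 * k * F.emb 7 =
        (F.emb 7 * (a' : G) * F.emb 7) * (F.emb 7 * (b' : G) * F.emb 7) := by
      rw [hb', Subgroup.coe_mul, Subgroup.coe_inv]
      simp only [mul_assoc]
      rw [← mul_assoc (F.emb 7) (F.emb 7) _, h2, one_mul, mul_inv_cancel_left]
    rw [hprod]
    exact mul_mem (hodd _ ha15) (hodd _ hb15)
  let c : MulAut C.K :=
    { toFun := fun k => ⟨F.emb 7 * k * F.emb 7, x7n k k.2⟩
      invFun := fun k => ⟨F.emb 7 * k * F.emb 7, x7n k k.2⟩
      left_inv := fun k => Subtype.ext (by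
        show F.emb 7 * (F.emb 7 * (k : G) * F.emb 7) * F.emb 7 = k
        simp only [mul_assoc, h2, mul_one]; rw [← mul_assoc, h2, one_mul])
      right_inv := fun k => Subtype.ext (by
        show F.emb 7 * (F.emb 7 * (k : G) * F.emb 7) * F.emb 7 = k
        simp only [mul_assoc, h2, mul_one]; rw [← mul_assoc, h2, one_mul])
      map_mul' := fun k l => Subtype.ext (by
        show F.emb 7 * ((k : G) * l) * F.emb 7 = F.emb 7 * k * F.emb 7 * (F.emb 7 * l * F.emb 7)
        simp only [mul_assoc]; rw [← mul_assoc (F.emb 7) (F.emb 7), h2, one_mul]) }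
  obtain ⟨σ, hσ⟩ := Cfsg.Agent.Lib.Alternating.exists_conj_eq (α := Fin 5) (by simp) (by simp)
    ((e.symm.trans c).trans e)
  have act : ∀ (k : G) (hk : k ∈ C.K), (e ⟨F.emb 7 * k * F.emb 7, x7n k hk⟩ : Equiv.Perm (Fin 5)) =
      σ * (e ⟨k, hk⟩ : Equiv.Perm (Fin 5)) * σ⁻¹ := by
    intro k hk
    have := hσ (e ⟨k, hk⟩)
    simp only [MulEquiv.trans_apply, MulEquiv.symm_apply_apply] at this
    exact this
  have σsq : σ * σ = 1 := by
    refine central_alt _ fun π hπ => ?_
    set k := e.symm ⟨π, Equiv.Perm.mem_alternatingGroup.2 hπ⟩ with hkdef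
    have e1 := act k k.2
    have e2 := act _ (x7n k k.2)
    have : F.emb 7 * (F.emb 7 * (k : G) * F.emb 7) * F.emb 7 = k := by
      simp only [mul_assoc, h2, mul_one]; rw [← mul_assoc, h2, one_mul]
    simp only [this, e1] at e2
    rw [show (e ⟨(k : G), k.2⟩ : Equiv.Perm (Fin 5)) = π by rw [hkdef]; simp] at e2
    conv_rhs => rw [e2]
    group
  refine ⟨⟨σ, σsq, ?_, x7n, act⟩⟩
  by_contra hev
  have hsgn : Equiv.Perm.sign σ = 1 := (Int.units_eq_one_or _).resolve_right
    (fun h' => hev (by simp [odd5, h']))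
  -- an inner element would act trivially on `W`
  set k := e.symm ⟨σ, Equiv.Perm.mem_alternatingGroup.2 hsgn⟩ with hkdef
  have hek : (e k : Equiv.Perm (Fin 5)) = σ := by rw [hkdef]; simp
  have hinner : ∀ (y : G) (hy : y ∈ C.K), F.emb 7 * y * F.emb 7 = (k : G) * y * (k : G)⁻¹ := by
    intro y hy
    have : (⟨F.emb 7 * y * F.emb 7, x7n y hy⟩ : C.K) = k * ⟨y, hy⟩ * k⁻¹ := e.injective (Subtype.ext (by
      rw [act y hy, map_mul, map_mul, map_inv]
      push_cast
      rw [hek]))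
    exact congrArg Subtype.val this
  have hk2 : k * k = 1 := e.injective (Subtype.ext (by rw [map_mul, map_one]; push_cast; rw [hek, σsq]))
  have hWK := C.W_le
  have hnW : ∀ w ∈ W h, (k : G) * w * (k : G)⁻¹ ∈ W h := by
    intro w hw
    rw [← hinner w (hWK hw)]
    refine (C.memE _ ?_).1 (x7n w (hWK hw))
    obtain ⟨c, hc, rfl⟩ := W_le_E h hw
    have hD := Code.listD_ok
    simp only [Bool.and_eq_true, List.all_eq_true, List.contains_iff_mem] at hD
    exact ⟨_, hD.2 7 (by decide) c hc, by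
      rw [← cjEq h, F.emb_conj (by norm_num) (Frame.listE_lt hc), hxi]⟩
  have hkW : (k : G) ∈ W h := by
    have hki : (k : G)⁻¹ = k := inv_eq_of_mul_eq_one_right (congrArg Subtype.val hk2)
    have hnorm : Subgroup.zpowers (k : G) ≤ Subgroup.normalizer ((W h : Subgroup G) : Set G) := by
      refine Subgroup.zpowers_le.2 (Subgroup.mem_normalizer_iff.2 fun w => ⟨hnW w, fun hw => ?_⟩)
      have h3 := hnW _ hw
      have : (k : G) * ((k : G) * w * (k : G)⁻¹) * (k : G)⁻¹ = w := by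
        rw [hki]; simp only [mul_assoc]
        rw [show (k : G) * k = 1 from congrArg Subtype.val hk2, mul_one, ← mul_assoc,
          show (k : G) * k = 1 from congrArg Subtype.val hk2, one_mul]
      rwa [this] at h3
    have hp : IsPGroup 2 (Subgroup.zpowers (k : G)) := by
      have : orderOf (k : G) ∣ 2 ^ 1 := orderOf_dvd_of_pow_eq_one (by
        rw [pow_one, pow_two]; exact congrArg Subtype.val hk2)
      obtain ⟨i, -, hi⟩ := (Nat.dvd_prime_pow Nat.prime_two).1 this
      exact IsPGroup.of_card (n := i) (by rw [Nat.card_zpowers, hi])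
    have hWp : IsPGroup 2 (W h) := IsPGroup.of_card (n := 2) (by rw [card_W h]; norm_num)
    have hsup := hp.to_sup_of_normal_right' hWp hnorm
    have heq : W h = Subgroup.zpowers (k : G) ⊔ W h := Subgroup.eq_of_le_of_card_ge le_sup_right (by
      rw [card_W h]
      exact Nat.le_of_dvd (by norm_num) (C.dvd4 _ hsup (sup_le (Subgroup.zpowers_le.2 k.2) hWK)))
    rw [heq]
    exact Subgroup.mem_sup_left (Subgroup.mem_zpowers _)
  have h117 : F.emb 117 ∈ W h := ⟨117, by decide, rfl⟩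
  have e7 := hinner _ (hWK h117)
  rw [(Frame.E_comm h.1 h.2.1 (W_le_E h hkW) (W_le_E h h117)).eq, mul_inv_cancel_right] at e7
  have hc : Commute (F.emb 7) (F.emb 117) := by
    calc F.emb 7 * F.emb 117 = F.emb 7 * F.emb 117 * F.emb 7 * F.emb 7 := by
          rw [mul_assoc _ _ (F.emb 7), h2, mul_one]
      _ = F.emb 117 * F.emb 7 := by rw [e7]
  rw [F.commute_iff (by norm_num) (by norm_num), mEq h] at hc
  exact Code.table_alt.2.2.2.2.2.2.2.2.2.2.2.2.2 hc

end AltT

end Cfsg.Agent.Lib.Cent192x61
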