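import Cfsg.Agent.Lib.Cent192x61.AltTFrame
import Cfsg.Agent.Lib.Cent192x61.AltTCountData
import Cfsg.Agent.Lib.M12Cent22.Count

/-!
# The centraliser of the code `14`: the count of pairs of involutions

Owner: helper22.
-/

set_option autoImplicit false

namespace Cfsg.Agent.Lib.Cent192x61

open Code

universe u

variable {G : Type u} [Group G] [Finite G] {F : Frame G}

namespace AltT

variable {h : F.CaseAlt} {C : Core h} {e : C.K ≃* alternatingGroup (Fin 5)} (P : Coord h C e)

theorem pow_sixty : ∀ π : Equiv.Perm (Fin 5), π ^ 60 = 1 := by decide +kernel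

theorem mem_alt_iff {π : Equiv.Perm (Fin 5)} : odd5 π = false ↔ π ∈ alternatingGroup (Fin 5) := by
  rw [Equiv.Perm.mem_alternatingGroup]
  rcases Int.units_eq_one_or (Equiv.Perm.sign π) with hs | hs <;> simp [odd5, hs]

theorem mul_σ_even {π : Equiv.Perm (Fin 5)} (hπ : odd5 π = true) :
    π * P.σ ∈ alternatingGroup (Fin 5) := mem_alt_iff.1 (by rw [odd5_mul, hπ, P.σodd]; rfl)

/-- The copy of `S₅` in `C(14)`. -/
noncomputable def g5 (π : Equiv.Perm (Fin 5)) : G :=
  if hπ : odd5 π = false then (e.symm ⟨π, mem_alt_iff.1 hπ⟩ : C.K)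
  else (e.symm ⟨π * P.σ, mul_σ_even P (by simpa using hπ)⟩ : C.K) * F.emb 7

theorem g5_even {π : Equiv.Perm (Fin 5)} (hπ : odd5 π = false) :
    g5 P π = (e.symm ⟨π, mem_alt_iff.1 hπ⟩ : C.K) := dif_pos hπ

theorem g5_odd {π : Equiv.Perm (Fin 5)} (hπ : odd5 π = true) :
    g5 P π = (e.symm ⟨π * P.σ, mul_σ_even P hπ⟩ : C.K) * F.emb 7 := dif_neg (by simp [hπ])

/-- An element of `K` by its permutation. -/
theorem symm_val_mul (a b : alternatingGroup (Fin 5)) (c : alternatingGroup (Fin 5))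
    (hc : (c : Equiv.Perm (Fin 5)) = a * b) :
    ((e.symm a : C.K) : G) * (e.symm b : C.K) = (e.symm c : C.K) := by
  rw [← Subgroup.coe_mul, ← map_mul, show a * b = c from Subtype.ext hc.symm]

theorem seven_symm (a c : alternatingGroup (Fin 5))
    (hc : (c : Equiv.Perm (Fin 5)) = P.σ * a * P.σ⁻¹) :
    F.emb 7 * ((e.symm a : C.K) : G) = (e.symm c : C.K) * F.emb 7 := by
  have h1 : (⟨F.emb 7 * (e.symm a : C.K) * F.emb 7, P.x7n _ (e.symm a).2⟩ : C.K) = e.symm c := by
    refine e.injective (Subtype.ext ?_)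
    rw [P.act _ (e.symm a).2]
    simp [hc]
  rw [← congrArg Subtype.val h1]
  simp only [mul_assoc, seven_sq h, mul_one]

theorem g5_mul (π τ : Equiv.Perm (Fin 5)) : g5 P π * g5 P τ = g5 P (π * τ) := by
  have σi : P.σ⁻¹ = P.σ := inv_eq_of_mul_eq_one_right P.σsq
  cases hπ : odd5 π <;> cases hτ : odd5 τ
  · rw [g5_even P hπ, g5_even P hτ, g5_even P (by rw [odd5_mul, hπ, hτ]; rfl)]
    exact symm_val_mul _ _ _ rfl
  · rw [g5_even P hπ, g5_odd P hτ, g5_odd P (by rw [odd5_mul, hπ, hτ]; rfl), ← mul_assoc]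
    rw [symm_val_mul _ _ (⟨π * τ * P.σ, mul_σ_even P (by rw [odd5_mul, hπ, hτ]; rfl)⟩)
      (by simp [mul_assoc])]
  · rw [g5_odd P hπ, g5_even P hτ, g5_odd P (by rw [odd5_mul, hπ, hτ]; rfl), mul_assoc]
    rw [seven_symm P _ ⟨P.σ * τ * P.σ⁻¹, mem_alt_iff.1 (by
      rw [odd5_mul, odd5_mul, σi, hτ, P.σodd]; rfl)⟩ rfl, ← mul_assoc]
    rw [symm_val_mul _ _ (⟨π * τ * P.σ, mul_σ_even P (by rw [odd5_mul, hπ, hτ]; rfl)⟩)
      (by simp only [σi]; calc π * τ * P.σ = π * ((P.σ * P.σ) * τ) * P.σ := by rw [P.σsq, one_mul]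
            _ = _ := by simp only [mul_assoc])]
  · rw [g5_odd P hπ, g5_odd P hτ, g5_even P (by rw [odd5_mul, hπ, hτ]; rfl)]
    rw [mul_assoc, ← mul_assoc (F.emb 7),
      seven_symm P _ ⟨P.σ * (τ * P.σ) * P.σ⁻¹, mem_alt_iff.1 (by
        rw [odd5_mul, odd5_mul, odd5_mul, σi, hτ, P.σodd]; rfl)⟩ rfl,
      mul_assoc _ (F.emb 7), seven_sq h, mul_one]
    exact symm_val_mul _ _ _ (by
      simp only [σi]
      calc π * τ = π * ((P.σ * P.σ) * (τ * (P.σ * P.σ))) := by rw [P.σsq, mul_one, one_mul]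
        _ = _ := by simp only [mul_assoc])

theorem g5_one : g5 P 1 = 1 := by
  rw [g5_even P odd5_one, show (⟨1, mem_alt_iff.1 odd5_one⟩ : alternatingGroup (Fin 5)) = 1 from rfl,
    map_one, Subgroup.coe_one]

/-- The code of an element of the four-group. -/
def vcode (p q : Bool) : ℕ := bif q then (bif p then 126 else 112) else (bif p then 14 else 0)

theorem vcode_mem : ∀ p q, vcode p q ∈ Code.listV := by decide

theorem vcode_mul : ∀ p q p' q', Code.mul true false (vcode p q) (vcode p' q') =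
    vcode (p ^^ p') (q ^^ q') := by decide +kernel

theorem vcode_swap : ∀ p q, Code.conj true false 7 (vcode p q) = vcode (p ^^ q) q := by decide +kernel

theorem vcode_lt (p q : Bool) : vcode p q < 192 :=
  (show ∀ v ∈ Code.listV, v < 192 by decide) _ (vcode_mem p q)

/-- The point with given coordinates. -/
noncomputable def pt (x : M5) : G := F.emb (vcode x.1 x.2.1) * g5 P x.2.2

variable {ρ : G} (hρ : Rho h ρ)
include hρ

theorem g5_move (π : Equiv.Perm (Fin 5)) (p q : Bool) :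
    g5 P π * F.emb (vcode p q) = F.emb (vcode (p ^^ (q && odd5 π)) q) * g5 P π := by
  have hcK : ∀ p q (k : C.K), Commute (F.emb (vcode p q)) (k : G) := fun p q k =>
    commute_V hρ C e (vcode_mem p q) k.2
  cases hπ : odd5 π
  · rw [g5_even P hπ, Bool.and_false, Bool.xor_false]
    exact ((hcK p q _).eq).symm
  · rw [g5_odd P hπ, Bool.and_true, mul_assoc]
    have h7 : F.emb 7 * F.emb (vcode p q) = F.emb (vcode (p ^^ q) q) * F.emb 7 := by
      rw [← vcode_swap p q, ← cjEq h, F.emb_conj (by norm_num) (vcode_lt p q), inv_mul_cancel_right]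
    rw [h7, ← mul_assoc, ← (hcK _ q _).eq, mul_assoc]

theorem pt_mm (x y : M5) : pt P (mm x y) = pt P x * pt P y := by
  obtain ⟨p, q, π⟩ := x
  obtain ⟨p', q', τ⟩ := y
  show F.emb (vcode (p ^^ (p' ^^ (q' && odd5 π))) (q ^^ q')) * g5 P (π * τ) = _
  rw [← vcode_mul, ← emb_mul' h (vcode_lt _ _) (vcode_lt _ _) rfl, ← g5_mul P π τ]
  show _ = F.emb (vcode p q) * g5 P π * (F.emb (vcode p' q') * g5 P τ)
  rw [show F.emb (vcode p q) * g5 P π * (F.emb (vcode p' q') * g5 P τ) =
    F.emb (vcode p q) * (g5 P π * F.emb (vcode p' q')) * g5 P τ by simp only [mul_assoc],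
    g5_move P hρ π p' q']
  simp only [mul_assoc]

omit hρ in
theorem pt_one : pt P one5 = 1 := by
  show F.emb (vcode false false) * g5 P 1 = 1
  rw [g5_one, mul_one]; exact F.emb_zero

omit hρ in
theorem pt_cen : pt P cen5 = F.emb 14 := by
  show F.emb (vcode true false) * g5 P 1 = _
  rw [g5_one, mul_one]; rfl

omit hρ in
theorem g5_mem_Y0 {π : Equiv.Perm (Fin 5)} : g5 P π ∈ F.Yt ∧ (g5 P π ∈ C.Y0 ↔ odd5 π = false) := by
  have h7 : F.emb 7 ∉ C.Y0 := fun e => by
    obtain ⟨c, hc, hce⟩ := (C.memD _ ⟨7, by decide, rfl⟩).1 e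
    rw [F.emb_eq_iff (Frame.listE_lt hc) (by norm_num)] at hce
    subst hce
    exact absurd hc (by decide)
  cases hπ : odd5 π
  · rw [g5_even P hπ]
    exact ⟨C.Y0le (C.Kle (Subtype.prop _)), iff_of_true (C.Kle (Subtype.prop _)) rfl⟩
  · rw [g5_odd P hπ]
    refine ⟨mul_mem (C.Y0le (C.Kle (Subtype.prop _))) (D_le h ⟨7, by decide, rfl⟩), ?_⟩
    rw [Subgroup.mul_mem_cancel_left _ (C.Kle (Subtype.prop _))]
    exact iff_of_false h7 (by simp)

omit hρ in
theorem pt_mem (x : M5) : pt P x ∈ F.Yt ∧ (pt P x ∈ C.Y0 ↔ odd5 x.2.2 = false) := by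
  have hv : F.emb (vcode x.1 x.2.1) ∈ E h := emb_mem_E h
    ((show ∀ v ∈ Code.listV, v ∈ Code.listE by decide) _ (vcode_mem _ _))
  refine ⟨mul_mem (E_le_Yt h hv) (g5_mem_Y0 P).1, ?_⟩
  unfold pt
  rw [Subgroup.mul_mem_cancel_left _ (C.E_le hv)]
  exact (g5_mem_Y0 P).2

theorem mm_one_iff {x y : M5} : pt P x = pt P y → x = y := by
  intro hxy
  obtain ⟨p, q, π⟩ := x
  obtain ⟨p', q', τ⟩ := y
  have hpar : odd5 π = odd5 τ := by
    have e1 := (pt_mem P (p, q, π)).2
    have e2 := (pt_mem P (p', q', τ)).2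
    rw [hxy, e2] at e1
    revert e1
    cases odd5 π <;> cases odd5 τ <;> simp
  -- `π τ⁻¹` is even and its image lies in the four-group
  have hd : odd5 (π * τ⁻¹) = false := by
    have : (odd5 (π * τ⁻¹) ^^ odd5 τ) = odd5 π := by rw [← odd5_mul, inv_mul_cancel_right]
    rw [hpar] at this
    revert this
    cases odd5 (π * τ⁻¹) <;> cases odd5 τ <;> simp
  have hmul : g5 P (π * τ⁻¹) * g5 P τ = g5 P π := by rw [g5_mul, inv_mul_cancel_right]
  have hK : g5 P (π * τ⁻¹) = F.emb (vcode (p ^^ p') (q ^^ q')) := by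
    have hxy' : F.emb (vcode p q) * g5 P π = F.emb (vcode p' q') * g5 P τ := hxy
    rw [← hmul, ← mul_assoc] at hxy'
    have h1 := mul_right_cancel hxy'
    rw [← vcode_mul, ← emb_mul' h (vcode_lt _ _) (vcode_lt _ _) rfl, ← h1, ← mul_assoc,
      Frame.E_sq h.1 h.2.1 (emb_mem_E h
        ((show ∀ v ∈ Code.listV, v ∈ Code.listE by decide) _ (vcode_mem _ _))), one_mul]
  rw [g5_even P hd] at hK
  have hmem : F.emb (vcode (p ^^ p') (q ^^ q')) ∈ W h := by
    refine (C.memE _ (emb_mem_E h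
      ((show ∀ v ∈ Code.listV, v ∈ Code.listE by decide) _ (vcode_mem _ _)))).1 ?_
    rw [← hK]; exact Subtype.prop _
  obtain ⟨c, hc, hce⟩ := hmem
  rw [F.emb_eq_iff (listW_lt hc) (vcode_lt _ _)] at hce
  subst hce
  obtain ⟨hp, hq⟩ := (show ∀ a b, vcode a b ∈ Code.listW → a = false ∧ b = false by decide) _ _ hc
  rw [hp, hq, show F.emb (vcode false false) = 1 from F.emb_zero] at hK
  have h1 := congrArg e (Subtype.ext (hK.trans (Subgroup.coe_one C.K).symm) :
    e.symm ⟨π * τ⁻¹, mem_alt_iff.1 hd⟩ = 1)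
  rw [e.apply_symm_apply, map_one] at h1
  have h2 : π = τ := mul_inv_eq_one.1 (congrArg Subtype.val h1)
  revert hp hq
  subst h2
  cases p <;> cases p' <;> cases q <;> cases q' <;> simp

include P in
theorem exists_pt (hY : Nat.card F.Yt = 480) {y : G} (hy : y ∈ F.Yt) : ∃ x : M5, pt P x = y := by
  let f : M5 → F.Yt := fun x => ⟨pt P x, (pt_mem P x).1⟩
  have hinj : Function.Injective f := fun a b e' => mm_one_iff P hρ (congrArg Subtype.val e')
  have hb : Function.Bijective f := (Nat.bijective_iff_injective_and_card _).2 ⟨hinj, by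
    rw [hY, Nat.card_eq_fintype_card]
    simp only [M5, Fintype.card_prod, Fintype.card_bool, Fintype.card_perm, Fintype.card_fin]
    rfl⟩
  obtain ⟨x, hx⟩ := hb.2 ⟨y, hy⟩
  exact ⟨x, congrArg Subtype.val hx⟩

/-- The classes of the involutions of `C(14)`. -/
theorem pt_class (x : M5) (hx : x ≠ one5) (hxx : mm x x = one5) :
    if isF x = true then IsConj F.s (pt P x) else IsConj (F.emb 14) (pt P x) := by
  have h2 : pt P x * pt P x = 1 := by rw [← pt_mm P hρ, hxx, pt_one]
  have hne : pt P x ≠ 1 := fun e' => hx (mm_one_iff P hρ (e'.trans (pt_one P).symm))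
  obtain ⟨p, q, π⟩ := x
  have hvV := vcode_mem p q
  have hvE : vcode p q ∈ Code.listE := (show ∀ v ∈ Code.listV, v ∈ Code.listE by decide) _ hvV
  cases hπ : odd5 π
  · -- inside `Y0`
    rcases eq_or_ne π 1 with rfl | hπ1
    · have hf : isF (p, q, (1 : Equiv.Perm (Fin 5))) = false := by simp [isF]
      rw [hf, if_neg (by simp)]
      have hv0 : vcode p q ≠ 0 := fun e' => hne (by
        show F.emb (vcode p q) * g5 P 1 = 1
        rw [e', F.emb_zero, g5_one, mul_one])
      have e' := class_E h hvE hv0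
      rw [if_pos ((show ∀ v ∈ Code.listV, v ≠ 0 → v ∈ Code.listT by decide) _ hvV hv0)] at e'
      show IsConj _ (F.emb (vcode p q) * g5 P 1)
      rwa [g5_one, mul_one]
    · have hπ2 : π * π = 1 := congrArg (fun m : M5 => m.2.2) hxx
      have h30E : F.emb 30 ∈ E h := emb_mem_E h (by decide)
      have h30 : F.emb 30 ∈ C.K := C.W_le ⟨30, by decide, rfl⟩
      have hk : e.symm ⟨π, mem_alt_iff.1 hπ⟩ * e.symm ⟨π, mem_alt_iff.1 hπ⟩ = 1 := by
        rw [← map_mul, show (⟨π, mem_alt_iff.1 hπ⟩ * ⟨π, mem_alt_iff.1 hπ⟩ :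
          alternatingGroup (Fin 5)) = 1 from Subtype.ext hπ2, map_one]
      obtain ⟨k, hkc⟩ := isConj_iff.1 (HallJanko.invol_conj_alt e (x := (⟨F.emb 30, h30⟩ : C.K))
        (y := e.symm ⟨π, mem_alt_iff.1 hπ⟩) (Subtype.ext (Frame.E_sq h.1 h.2.1 h30E))
        (fun e' => absurd ((F.emb_eq_one (by norm_num)).1 (congrArg Subtype.val e')) (by norm_num))
        hk (fun e' => hπ1 (by
          have := congrArg e e'
          rw [e.apply_symm_apply, map_one] at this
          exact congrArg Subtype.val this)))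
      have hkc' : (k : G) * F.emb 30 * (k : G)⁻¹ = g5 P π := by
        rw [g5_even P hπ, ← hkc]; rfl
      have hconj : IsConj (F.emb (Code.mul true false (vcode p q) 30)) (pt P (p, q, π)) := by
        refine isConj_iff.2 ⟨k, ?_⟩
        show _ = F.emb (vcode p q) * g5 P π
        rw [← emb_mul' h (vcode_lt p q) (by norm_num) rfl, ← hkc',
          ← mul_assoc (k : G), ← (commute_V hρ C e hvV k.2).eq]
        simp only [mul_assoc]
      obtain ⟨hmE, hm0, hmT⟩ := (show ∀ p q, Code.mul true false (vcode p q) 30 ∈ Code.listE ∧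
        Code.mul true false (vcode p q) 30 ≠ 0 ∧
          (Code.mul true false (vcode p q) 30 ∈ Code.listT ↔ (p || q) = false) by decide +kernel) p q
      have e' := class_E h hmE hm0
      by_cases hf : (p || q) = true
      · rw [if_neg (fun hm => by rw [hmT, hf] at hm; exact absurd hm (by simp))] at e'
        rw [if_pos (by simp [isF, hπ, hπ1, hπ2, hf])]
        exact e'.trans hconj
      · rw [if_pos (hmT.2 (by simpa using hf))] at e'
        rw [if_neg (by simp [isF, hf])]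
        exact e'.trans hconj
  · -- outside `Y0`: conjugate to an involution of `D` outside `E`
    rw [if_neg (by simp [isF, hπ])]
    have hYt := (pt_mem P (p, q, π)).1
    have hnY0 : pt P (p, q, π) ∉ C.Y0 := fun e' => by
      have := (pt_mem P (p, q, π)).2.1 e'
      simp [hπ] at this
    have hz : IsPGroup 2 (Subgroup.zpowers (pt P (p, q, π))) := IsPGroup.of_card (n := 1) (by
      rw [Nat.card_zpowers, Involutions.Basic.invol_iff.2 ⟨h2, hne⟩, pow_one])
    obtain ⟨g, hg, hgD⟩ := exists_conj_D h hz (Subgroup.zpowers_le.2 hYt)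
    obtain ⟨c, hc, hce⟩ := hgD _ (Subgroup.mem_zpowers _)
    have hc0 : F.m c c = 0 := by
      rw [← F.emb_eq_one (F.lt_m (listD_lt hc) (listD_lt hc)), F.emb_m (listD_lt hc) (listD_lt hc), hce]
      calc g * pt P (p, q, π) * g⁻¹ * (g * pt P (p, q, π) * g⁻¹)
          = g * (pt P (p, q, π) * pt P (p, q, π)) * g⁻¹ := by group
        _ = 1 := by rw [h2]; group
    rcases (D_facts h).2.2.2.2 c hc with hcE | hcn | hc7
    · exfalso
      apply hnY0
      have := C.Y0n _ (inv_mem hg) _ (C.E_le (emb_mem_E h hcE))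
      rw [hce] at this
      simpa [mul_assoc] using this
    · exact absurd hc0 hcn
    · have hcl : cls true false 7 c = true :=
        (show ∀ c ∈ [7, 9, 23, 25], cls true false 7 c = true by decide +kernel) c hc7
      refine ((t_conj_seven h).trans (Frame.isConj_cls (by norm_num) (listD_lt hc)
        (by rw [h.1, h.2.1]; exact hcl))).trans ?_
      exact isConj_iff.2 ⟨g⁻¹, by rw [hce]; group⟩

theorem conj_s_iff (x : M5) : IsConj F.s (pt P x) ↔ isF x = true := by
  constructor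
  · intro hc
    have ho : orderOf (pt P x) = 2 := M12Cent22.orderOf_of_isConj F.orderOf_s hc
    obtain ⟨h2, hne⟩ := Involutions.Basic.invol_iff.1 ho
    have hxx : mm x x = one5 := mm_one_iff P hρ (by rw [pt_mm P hρ, h2, pt_one])
    have hx1 : x ≠ one5 := fun e' => hne (e' ▸ pt_one P)
    have := pt_class P hρ x hx1 hxx
    split_ifs at this with hf
    · exact hf
    · exact (not_both h hc this).elim
  · intro hf
    obtain ⟨p, q, π⟩ := x
    have hf' := hf
    simp only [isF, Bool.and_eq_true, Bool.not_eq_true', decide_eq_true_eq] at hf'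
    obtain ⟨⟨⟨hodd, hπ1⟩, hπ2⟩, -⟩ := hf'
    have hxx : mm (p, q, π) (p, q, π) = one5 := by
      simp [mm, one5, hodd, hπ2]
    have := pt_class P hρ _ (fun e' => hπ1 (congrArg (fun m : M5 => m.2.2) e')) hxx
    rwa [if_pos hf] at this

theorem conj_t_iff (x : M5) : IsConj (F.emb 14) (pt P x) ↔ isT x = true := by
  constructor
  · intro hc
    obtain ⟨h2, hne⟩ := Involutions.Basic.invol_iff.1 (M12Cent22.orderOf_of_isConj (orderOf_t h) hc)
    have hxx : mm x x = one5 := mm_one_iff P hρ (by rw [pt_mm P hρ, h2, pt_one])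
    have hx1 : x ≠ one5 := fun e' => hne (e' ▸ pt_one P)
    have hf : isF x = false := Bool.eq_false_iff.2 fun hf =>
      not_both h ((conj_s_iff P hρ x).2 hf) hc
    simp [isT, hx1, hxx, hf]
  · intro hT
    simp only [isT, Bool.and_eq_true, Bool.not_eq_true', decide_eq_true_eq] at hT
    obtain ⟨⟨hx1, hxx⟩, hf⟩ := hT
    have := pt_class P hρ x hx1 hxx
    rwa [if_neg (by rw [hf]; simp)] at this

set_option maxHeartbeats 1000000 in
theorem hasCen_iff (hY : Nat.card F.Yt = 480) (w : M5) :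
    F.emb 14 ∈ Subgroup.zpowers (pt P w) ↔ hasCen w = true := by
  have h15 : pt P (pow15 w) = pt P w ^ 15 := by
    simp only [pow15, pt_mm P hρ]
    simp [pow_succ, mul_assoc]
  constructor
  · intro hm
    obtain ⟨n, hn⟩ := Subgroup.mem_zpowers_iff.1 hm
    -- the order divides `60`
    have h60 : pt P w ^ 60 = 1 := by
      obtain ⟨p, q, π⟩ := w
      have hπ : π ^ 60 = 1 := pow_sixty π
      have hm60 : mm (pow15 (p, q, π)) (pow15 (p, q, π)) =
          (q && odd5 π, false, π ^ 30) := by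
        rw [pow15_eq]
        have ho : odd5 (π ^ 15) = odd5 π := by
          rw [show π ^ 15 = π * π * (π * π) * (π * π * (π * π)) * (π * π * (π * π)) * (π * π) * π by
            simp [pow_succ, mul_assoc]]
          simp only [odd5_mul]
          cases odd5 π <;> rfl
        cases hq : q <;> cases hp : p <;> cases h' : odd5 π <;> simp [mm, ho, h', ← pow_add]
      have h30 : pt P (p, q, π) ^ 30 = pt P (q && odd5 π, false, π ^ 30) := by
        rw [← hm60, pt_mm P hρ, h15, ← pow_add]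
      have hev : odd5 (π ^ 30) = false := by
        rw [show (30 : ℕ) = 15 + 15 from rfl, pow_add, odd5_mul, Bool.xor_self]
      rw [show (60 : ℕ) = 30 + 30 from rfl, pow_add, h30, ← pt_mm P hρ, ← pt_one P]
      congr 1
      simp [mm, one5, hev, ← pow_add, hπ]
    have hord : orderOf (pt P w) ∣ 4 * 15 := orderOf_dvd_of_pow_eq_one h60
    set a := pt P w ^ 15 with ha
    have ha4 : a ^ 4 = 1 := by rw [ha, ← pow_mul]; exact h60
    have htn : F.emb 14 = a ^ n := by
      have h2t : F.emb 14 * F.emb 14 = 1 := Involutions.Basic.invol_mul_self (orderOf_t h)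
      calc F.emb 14 = F.emb 14 ^ 15 := by
            rw [show (15 : ℕ) = 2 * 7 + 1 from rfl, pow_succ, pow_mul, pow_two, h2t, one_pow, one_mul]
        _ = (pt P w ^ n) ^ (15 : ℤ) := by rw [hn]; norm_cast
        _ = a ^ n := by rw [ha, ← zpow_natCast (pt P w) 15, ← zpow_mul, ← zpow_mul, mul_comm]; norm_cast
    have hmod : a ^ n = a ^ (n % 4) := (zpow_eq_zpow_emod' n (by simpa using ha4)).trans (by norm_cast)
    have htne : F.emb 14 ≠ 1 := Involutions.Basic.invol_ne_one (orderOf_t h)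
    have hor : a = F.emb 14 ∨ a * a = F.emb 14 := by
      have hb : 0 ≤ n % 4 ∧ n % 4 < 4 := ⟨Int.emod_nonneg _ (by norm_num), Int.emod_lt_of_pos _ (by norm_num)⟩
      rw [hmod] at htn
      obtain ⟨hb1, hb2⟩ := hb
      interval_cases hk : n % 4
      · rw [zpow_zero] at htn; exact absurd htn htne
      · left; rw [zpow_one] at htn; exact htn.symm
      · right; rw [show a * a = a ^ (2 : ℤ) by rw [zpow_two]]; exact htn.symm
      · left
        have h2t : F.emb 14 * F.emb 14 = 1 := Involutions.Basic.invol_mul_self (orderOf_t h)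
        have : a * F.emb 14 = 1 := by rw [htn, ← zpow_one_add]; exact_mod_cast ha4
        rw [eq_inv_of_mul_eq_one_left this, inv_eq_of_mul_eq_one_right h2t]
    have hinj : ∀ z, pt P z = F.emb 14 → z = cen5 := fun z hz => mm_one_iff P hρ (hz.trans (pt_cen P).symm)
    simp only [hasCen, Bool.or_eq_true, decide_eq_true_eq]
    rcases hor with e' | e'
    · exact Or.inl (hinj _ (h15.trans e'))
    · exact Or.inr (hinj _ (by rw [pt_mm P hρ, h15]; exact e'))
  · intro hc
    simp only [hasCen, Bool.or_eq_true, decide_eq_true_eq] at hc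
    rcases hc with e' | e'
    · rw [← pt_cen P, ← e', h15]; exact Subgroup.pow_mem _ (Subgroup.mem_zpowers _) _
    · rw [← pt_cen P, ← e', pt_mm P hρ, h15, ← pow_add]
      exact Subgroup.pow_mem _ (Subgroup.mem_zpowers _) _

include P in
theorem pairs_card (hY : Nat.card F.Yt = 480) :
    Nat.card {p : G × G // IsConj F.s p.1 ∧ IsConj (F.emb 14) p.2 ∧
      F.emb 14 ∈ Subgroup.zpowers (p.1 * p.2)} = 555 := by
  classical
  rw [← card_pairs, ← Nat.card_eq_fintype_card]
  refine (Nat.card_congr (Equiv.ofBijective (fun m : {p : {x : M5 // isF x = true} × {x : M5 // isT x = true} //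
      hasCen' p.1.1 p.2.1 = true} =>
    (⟨(pt P m.1.1.1, pt P m.1.2.1), (conj_s_iff P hρ _).2 m.1.1.2, (conj_t_iff P hρ _).2 m.1.2.2, by
      rw [← pt_mm P hρ, hasCen_iff P hρ hY, hasCen_eq]; exact m.2⟩ :
      {p : G × G // IsConj F.s p.1 ∧ IsConj (F.emb 14) p.2 ∧ F.emb 14 ∈ Subgroup.zpowers (p.1 * p.2)}))
    ⟨?_, ?_⟩)).symm
  · intro a b e'
    have e1 := mm_one_iff P hρ (congrArg (fun z => z.1.1) e')
    have e2 := mm_one_iff P hρ (congrArg (fun z => z.1.2) e')
    exact Subtype.ext (Prod.ext (Subtype.ext e1) (Subtype.ext e2))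
  · rintro ⟨⟨a, b⟩, ha, hb, hm⟩
    obtain ⟨hca, hcb⟩ := M12Cent22.commute_of_mem_zpowers (M12Cent22.orderOf_of_isConj F.orderOf_s ha)
      (M12Cent22.orderOf_of_isConj (orderOf_t h) hb) (orderOf_t h) hm
    obtain ⟨x, hxe⟩ := exists_pt P hρ hY (AltT.mem_Yt.2 hca)
    obtain ⟨y, hye⟩ := exists_pt P hρ hY (AltT.mem_Yt.2 hcb)
    subst hxe; subst hye
    refine ⟨⟨(⟨x, (conj_s_iff P hρ x).1 ha⟩, ⟨y, (conj_t_iff P hρ y).1 hb⟩), ?_⟩, rfl⟩
    show hasCen' x y = true
    rw [← hasCen_eq, ← hasCen_iff P hρ hY, pt_mm P hρ]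
    exact hm

end AltT

/-- The centraliser of the code `14` in the pattern of `A₈` and `A₉`. -/
theorem Frame.card_centralizer_alt (h : F.CaseAlt) (ρ : G) (hρ3 : ρ ^ 3 = 1) (hρ1 : ρ ≠ 1)
    (hρt : Commute ρ (F.emb 14))
    (hρE : ∀ c ∈ Code.listE, ∃ d ∈ Code.listE, ρ * F.emb c * ρ⁻¹ = F.emb d) :
    Nat.card (Subgroup.centralizer ({F.emb 14} : Set G)) = 96 ∨
      (Nat.card (Subgroup.centralizer ({F.emb 14} : Set G)) = 480 ∧
        Nat.card {p : G × G // IsConj F.s p.1 ∧ IsConj (F.emb 14) p.2 ∧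
          F.emb 14 ∈ Subgroup.zpowers (p.1 * p.2)} = 555) := by
  have hρ := AltT.rho_of h hρ3 hρ1 hρt hρE
  obtain ⟨C⟩ := AltT.exists_core h
  have hY : Nat.card F.Yt = Nat.card C.K * 8 := by rw [← C.cardY0, ← C.cardK]; ring
  rcases AltT.Core.card_or hρ C with h12 | ⟨⟨e⟩⟩
  · left; show Nat.card F.Yt = 96; rw [hY, h12]
  · right
    have h480 : Nat.card F.Yt = 480 := by
      rw [hY, Nat.card_congr e.toEquiv, Nat.card_eq_fintype_card]; rfl
    obtain ⟨P⟩ := AltT.exists_coord C e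
    exact ⟨h480, AltT.pairs_card P hρ h480⟩

end Cfsg.Agent.Lib.Cent192x61
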