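import Cfsg.Agent.Lib.Cent192x61.AltTCore

/-!
# The centraliser of the code `14`: order `96` or a product with `A₅`

Owner: helper22.
-/

set_option autoImplicit false

namespace Cfsg.Agent.Lib.Cent192x61

open Code

universe u

variable {G : Type u} [Group G] [Finite G] {F : Frame G}

namespace AltT

/-- An element of order three in `C(14)` normalising `E`. -/
structure Rho (h : F.CaseAlt) (ρ : G) : Prop where
  cube : ρ ^ 3 = 1
  ne : ρ ≠ 1
  comm : Commute ρ (F.emb 14)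
  norm : ∀ x ∈ E h, ρ * x * ρ⁻¹ ∈ E h

theorem rho_of (h : F.CaseAlt) {ρ : G} (hρ3 : ρ ^ 3 = 1) (hρ1 : ρ ≠ 1) (hρt : Commute ρ (F.emb 14))
    (hρE : ∀ c ∈ Code.listE, ∃ d ∈ Code.listE, ρ * F.emb c * ρ⁻¹ = F.emb d) : Rho h ρ :=
  ⟨hρ3, hρ1, hρt, by
    rintro _ ⟨c, hc, rfl⟩
    obtain ⟨d, hd, e⟩ := hρE c hc
    exact ⟨d, hd, e.symm⟩⟩

variable {h : F.CaseAlt} {ρ : G} (hρ : Rho h ρ) (C : Core h)

include hρ

theorem Rho.orderOf_eq : orderOf ρ = 3 := by
  have : Fact (Nat.Prime 3) := ⟨Nat.prime_three⟩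
  exact orderOf_eq_prime hρ.cube hρ.ne

theorem Rho.odd : Odd (orderOf ρ) := by rw [hρ.orderOf_eq]; decide

theorem Rho.mem_Yt : ρ ∈ F.Yt := AltT.mem_Yt.2 hρ.comm

theorem Rho.mem_K : ρ ∈ C.K := C.oddK _ (C.oddY0 _ hρ.mem_Yt hρ.odd) hρ.odd

theorem Rho.moves {w : ℕ} (hw : w ∈ Code.listW) (hw0 : w ≠ 0) : ¬ Commute ρ (F.emb w) := fun e => by
  obtain ⟨h1, h2⟩ := (show ∀ w ∈ Code.listW, w ≠ 0 → w ∈ Code.listE ∧ w ∉ Code.listV by decide) w hw hw0
  exact hρ.ne (no_odd h h1 h2 hρ.mem_Yt e hρ.odd)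

omit hρ

theorem Core.E_le : E h ≤ C.Y0 := fun x hx => (C.memD x (E_le_D h hx)).2 hx

theorem Core.W_le : W h ≤ C.K := fun x hx => (C.memE x (W_le_E h hx)).2 hx

theorem Core.cent_E (C : Core h) {a : ℕ} (ha : a ∈ Code.listE) (haV : a ∉ Code.listV) {x : G}
    (hx : x ∈ C.Y0) (hc : Commute x (F.emb a)) : x ∈ E h := by
  have : Fact (Nat.Prime 2) := ⟨Nat.prime_two⟩
  set H := C.Y0 ⊓ Subgroup.centralizer ({F.emb a} : Set G) with hH
  have hle : E h ≤ H := fun y hy => ⟨C.E_le hy, Subgroup.mem_centralizer_singleton_iff.2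
    (Frame.E_comm h.1 h.2.1 hy (emb_mem_E h ha)).eq⟩
  have hp : IsPGroup 2 H := by
    rintro ⟨y, hy1, hy2⟩
    obtain ⟨k, r, hr, hkr⟩ := Nat.exists_eq_pow_mul_and_not_dvd (orderOf_pos y).ne' 2 (by norm_num)
    refine ⟨k, Subtype.ext ?_⟩
    rw [Subgroup.coe_pow, Subgroup.coe_one]
    refine no_odd h ha haV (pow_mem (C.Y0le hy1) _)
      ((show Commute y (F.emb a) from Subgroup.mem_centralizer_singleton_iff.1 hy2).pow_left _) ?_
    rw [orderOf_pow' _ (pow_ne_zero _ (by norm_num)), hkr,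
      Nat.gcd_eq_right (Dvd.intro _ rfl), Nat.mul_div_cancel_left _ (by positivity)]
    exact Nat.odd_iff.2 (Nat.two_dvd_ne_zero.1 hr)
  have heq : E h = H := Subgroup.eq_of_le_of_card_ge hle (by
    rw [card_E h]; exact Nat.le_of_dvd (by norm_num) (C.dvd16 H hp inf_le_left))
  exact heq.ge ⟨hx, Subgroup.mem_centralizer_singleton_iff.2 hc.eq⟩

theorem Core.cent_W (C : Core h) {w : ℕ} (hw : w ∈ Code.listW) (hw0 : w ≠ 0) {x : G}
    (hx : x ∈ C.K) (hc : Commute x (F.emb w)) : x ∈ W h := by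
  obtain ⟨h1, h2⟩ := (show ∀ w ∈ Code.listW, w ≠ 0 → w ∈ Code.listE ∧ w ∉ Code.listV by decide) w hw hw0
  exact (C.memE x (C.cent_E h1 h2 (C.Kle hx) hc)).1 hx

include hρ

theorem Core.card_or : Nat.card C.K = 12 ∨ Nonempty (C.K ≃* alternatingGroup (Fin 5)) := by
  have : Fact (Nat.Prime 2) := ⟨Nat.prime_two⟩
  have hWK := C.W_le
  have hWp : IsPGroup 2 ((W h).subgroupOf C.K) :=
    (IsPGroup.of_card (G := W h) (n := 2) (by rw [card_W h]; norm_num)).of_equiv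
      (Subgroup.subgroupOfEquivOfLe hWK).symm
  obtain ⟨P, hP⟩ := hWp.exists_le_sylow
  have hPW : (P : Subgroup C.K) = (W h).subgroupOf C.K := (Subgroup.eq_of_le_of_card_ge hP (by
    rw [Nat.card_congr (Subgroup.subgroupOfEquivOfLe hWK).toEquiv, card_W h,
      ← Subgroup.card_map_of_injective C.K.subtype_injective]
    exact Nat.le_of_dvd (by norm_num) (C.dvd4 _ (P.2.map _) (Subgroup.map_subtype_le _)))).symm
  have hP4 : Nat.card (P : Subgroup C.K) = 4 := by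
    rw [hPW, Nat.card_congr (Subgroup.subgroupOfEquivOfLe hWK).toEquiv, card_W h]
  have : Nontrivial (P : Subgroup C.K) := Finite.one_lt_card_iff_nontrivial.1 (by rw [hP4]; norm_num)
  have hPK : IsKleinFour (P : Subgroup C.K) := by
    refine ⟨hP4, Monoid.exponent_eq_prime_iff Nat.prime_two |>.2 fun g hg => ?_⟩
    exact Involutions.Basic.invol_iff.2 ⟨Subtype.ext (Subtype.ext
      (Frame.E_sq h.1 h.2.1 (W_le_E h (Subgroup.mem_subgroupOf.1 (hPW.le g.2))))), hg⟩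
  have h30 : F.emb 30 ∈ C.K := hWK ⟨30, by decide, rfl⟩
  have h117 : F.emb 117 ∈ C.K := hWK ⟨117, by decide, rfl⟩
  have hne : ∀ {c}, c < 192 → c ≠ 0 → F.emb c ≠ 1 := fun hc hc0 e => hc0 ((F.emb_eq_one hc).1 e)
  have hzord : orderOf (⟨F.emb 30, h30⟩ : C.K) = 2 := by
    rw [← Subgroup.orderOf_coe]
    exact Involutions.Basic.invol_iff.2
      ⟨Frame.E_sq h.1 h.2.1 (emb_mem_E h (by decide)), hne (by norm_num) (by norm_num)⟩
  have hC : Subgroup.centralizer ({(⟨F.emb 30, h30⟩ : C.K)} : Set C.K) = (P : Subgroup C.K) := by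
    ext x
    rw [hPW, Subgroup.mem_subgroupOf, Subgroup.mem_centralizer_singleton_iff]
    constructor
    · intro hx
      exact C.cent_W (by decide) (by decide) x.2 (congrArg Subtype.val hx : (x : G) * _ = _ * _)
    · intro hx
      exact Subtype.ext (Frame.E_comm h.1 h.2.1 (W_le_E h hx) (emb_mem_E h (by decide))).eq
  have hO : ∀ N : Subgroup C.K, N.Normal → Odd (Nat.card N) → N = ⊥ := by
    intro N hN hodd
    rw [← Subgroup.map_eq_bot_iff_of_injective _ C.K.subtype_injective]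
    have hn : ∀ {c : ℕ}, c ∈ Code.listW → ∀ x ∈ N.map C.K.subtype,
        F.emb c * x * F.emb c ∈ N.map C.K.subtype := by
      rintro c hc _ ⟨k, hk, rfl⟩
      have hi : (F.emb c)⁻¹ = F.emb c :=
        inv_eq_of_mul_eq_one_right (Frame.E_sq h.1 h.2.1 (W_le_E h ⟨c, hc, rfl⟩))
      refine ⟨⟨F.emb c, hWK ⟨c, hc, rfl⟩⟩ * k * ⟨F.emb c, hWK ⟨c, hc, rfl⟩⟩⁻¹, hN.conj_mem k hk _, ?_⟩
      show F.emb c * (k : G) * (F.emb c)⁻¹ = _
      rw [hi]; rfl
    have hf : ∀ {c : ℕ}, c ∈ Code.listW → c ≠ 0 → ∀ x ∈ N.map C.K.subtype,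
        Commute (F.emb c) x → x = 1 := by
      rintro c hc hc0 _ ⟨k, hk, rfl⟩ hcomm
      have hW := C.cent_W hc hc0 k.2 hcomm.symm
      have h2 : orderOf (k : G) ∣ 2 :=
        orderOf_dvd_of_pow_eq_one (by rw [pow_two]; exact Frame.E_sq h.1 h.2.1 (W_le_E h hW))
      have h1 := Subgroup.orderOf_dvd_natCard N hk
      rw [← Subgroup.orderOf_coe] at h1
      exact orderOf_eq_one_iff.1 (Nat.dvd_one.1
        ((Nat.coprime_two_right.2 hodd).gcd_eq_one ▸ Nat.dvd_gcd h1 h2))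
    have e3 : F.emb 30 * F.emb 117 = F.emb 123 :=
      emb_mul' h (by norm_num) (by norm_num) Code.table_alt.2.2.2.2.2.2.2.1
    exact bot_of_four_fpf (Frame.E_sq h.1 h.2.1 (emb_mem_E h (by decide)))
      (Frame.E_sq h.1 h.2.1 (emb_mem_E h (by decide)))
      (Frame.E_comm h.1 h.2.1 (emb_mem_E h (by decide)) (emb_mem_E h (by decide)))
      (hn (c := 30) (by decide)) (hn (c := 117) (by decide)) (hf (by decide) (by decide))
      (hf (by decide) (by decide)) (e3 ▸ hf (c := 123) (by decide) (by decide))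
  rcases DihedralCentralizer.Klein.cases P hPK hzord hC hO with hnc | hnorm | hiso
  · exfalso
    obtain ⟨P', N, hN, hcomp⟩ := hnc
    have hPc : Nat.card (P' : Subgroup C.K) = 4 := by
      rw [Sylow.card_eq_multiplicity, ← P.card_eq_multiplicity, hP4]
    have hodd : Odd (Nat.card N) := by
      have h1 := P'.not_dvd_index
      rw [hcomp.index_eq_card] at h1
      exact Nat.odd_iff.2 (Nat.two_dvd_ne_zero.1 h1)
    have hcard : Nat.card C.K = 4 := by
      rw [← hcomp.card_mul, hO N hN hodd, Subgroup.card_bot, one_mul, hPc]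
    have h1 := Subgroup.orderOf_dvd_natCard C.K (hρ.mem_K C)
    rw [hρ.orderOf_eq, hcard] at h1
    norm_num at h1
  · left
    classical
    have horb : Nat.card {x : G // ∃ k ∈ C.K, k * F.emb 30 * k⁻¹ = x} = 3 := by
      have hmem : ∀ k ∈ C.K, ∃ w ∈ Code.listW, w ≠ 0 ∧ k * F.emb 30 * k⁻¹ = F.emb w := by
        intro k hk
        have h1 := hnorm.conj_mem (⟨F.emb 30, h30⟩ : C.K) (hPW.ge (Subgroup.mem_subgroupOf.2 ⟨30, by decide, rfl⟩)) ⟨k, hk⟩
        obtain ⟨w, hw, hwe⟩ := Subgroup.mem_subgroupOf.1 (hPW.le h1)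
        refine ⟨w, hw, ?_, hwe.symm⟩
        rintro rfl
        rw [F.emb_zero] at hwe
        exact hne (by norm_num : 30 < 192) (by norm_num) (conj_eq_one_iff.1 hwe.symm)
      have hρK := hρ.mem_K C
      obtain ⟨a, ha, ha0, e1⟩ := hmem ρ hρK
      obtain ⟨b, hb, hb0, e2⟩ := hmem (ρ * ρ) (mul_mem hρK hρK)
      have e3 : ρ * F.emb a * ρ⁻¹ = F.emb b := by rw [← e1, ← e2]; group
      have hmv : ∀ w ∈ Code.listW, w ≠ 0 → ρ * F.emb w * ρ⁻¹ ≠ F.emb w :=
        fun w hw hw0 e => hρ.moves hw hw0 (mul_inv_eq_iff_eq_mul.1 e)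
      have ha30 : a ≠ 30 := fun e => hmv 30 (by decide) (by decide) (by rw [e1, e])
      have hab : a ≠ b := fun e => hmv a ha ha0 (by rw [e3, e])
      have hb30 : b ≠ 30 := fun e => hmv 30 (by decide) (by decide) (by
        calc ρ * F.emb 30 * ρ⁻¹ = ρ * (ρ * ρ * F.emb 30 * (ρ * ρ)⁻¹) * ρ⁻¹ := by rw [e2, e]
          _ = ρ ^ 3 * F.emb 30 * (ρ ^ 3)⁻¹ := by rw [pow_three]; group
          _ = F.emb 30 := by rw [hρ.cube]; group)
      have hcov : ∀ w ∈ Code.listW, w ≠ 0 → w = 30 ∨ w = a ∨ w = b := by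
        have key : ∀ a ∈ Code.listW, ∀ b ∈ Code.listW, a ≠ 0 → b ≠ 0 → a ≠ 30 → b ≠ 30 → a ≠ b →
            ∀ w ∈ Code.listW, w ≠ 0 → w = 30 ∨ w = a ∨ w = b := by decide
        exact key a ha b hb ha0 hb0 ha30 hb30 hab
      have hiff : ∀ x : G, (∃ k ∈ C.K, k * F.emb 30 * k⁻¹ = x) ↔
          x ∈ ({F.emb 30, F.emb a, F.emb b} : Finset G) := by
        intro x
        simp only [Finset.mem_insert, Finset.mem_singleton]
        constructor
        · rintro ⟨k, hk, rfl⟩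
          obtain ⟨w, hw, hw0, e⟩ := hmem k hk
          rcases hcov w hw hw0 with rfl | rfl | rfl
          exacts [Or.inl e, Or.inr (Or.inl e), Or.inr (Or.inr e)]
        · rintro (rfl | rfl | rfl)
          exacts [⟨1, one_mem _, by group⟩, ⟨ρ, hρK, e1⟩, ⟨ρ * ρ, mul_mem hρK hρK, e2⟩]
      rw [Nat.card_congr (Equiv.subtypeEquivRight hiff), Nat.card_eq_fintype_card, Fintype.card_coe]
      refine Finset.card_eq_three.2 ⟨_, _, _, ?_, ?_, ?_, rfl⟩
      · exact fun e => ha30 (F.emb_inj _ (listW_lt ha) 30 (by norm_num) e.symm)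
      · exact fun e => hb30 (F.emb_inj _ (listW_lt hb) 30 (by norm_num) e.symm)
      · exact fun e => hab (F.emb_inj _ (listW_lt ha) _ (listW_lt hb) e)
    have hst : C.K ⊓ Subgroup.centralizer ({F.emb 30} : Set G) = W h := by
      ext x
      rw [Subgroup.mem_inf, Subgroup.mem_centralizer_singleton_iff]
      exact ⟨fun hx => C.cent_W (by decide) (by decide) hx.1 hx.2, fun hx => ⟨hWK hx,
        (Frame.E_comm h.1 h.2.1 (W_le_E h hx) (emb_mem_E h (by decide))).eq⟩⟩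
    rw [card_eq_orbit_mul C.K (F.emb 30), horb, hst, card_W h]
  · exact Or.inr hiso

end AltT

end Cfsg.Agent.Lib.Cent192x61
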