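import Cfsg.Agent.Lib.Cent192x61.Setup
import Cfsg.Agent.Lib.Involutions.StronglyEmbedded

/-!
# Computing inside the centraliser; the Sylow `2`-subgroups
-/

set_option autoImplicit false

namespace Cfsg.Agent.Lib.Cent192x61

open Code

/-- A subgroup given by codes. -/
def Code.isSub (typ sq : Bool) (l : List ℕ) : Bool :=
  l.all (· < 192) && l.contains 0 &&
    l.all fun a => l.contains (inv typ sq a) && l.all fun b => l.contains (mul typ sq a b)

/-- The powers `c^k` reach `1` for `k = 8`. -/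
def Code.powEight (typ sq : Bool) (a : ℕ) : ℕ :=
  let b := mul typ sq a a
  let c := mul typ sq b b
  mul typ sq c c

theorem Code.core : ∀ typ sq : Bool, (elems.all fun a =>
    mul typ sq 0 a == a && mul typ sq a 0 == a && mul typ sq a 16 == mul typ sq 16 a &&
      conj typ sq a 16 == 16) = true := by decide +kernel

theorem Code.syl_isSub : ∀ typ sq : Bool, isSub typ sq syl = true := by decide +kernel

theorem Code.syl_center : ∀ typ sq : Bool, (syl.all fun a => a == 0 || a == 16 ||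
    syl.any fun b => mul typ sq a b != mul typ sq b a) = true := by decide +kernel

theorem Code.three_fixes : ∀ typ sq : Bool, (elems.all fun c =>
    mul typ sq c (mul typ sq c c) != 0 || c == 0 ||
      (invols typ sq).all fun x => mul typ sq c x != mul typ sq x c || x == 16) = true := by
  decide +kernel

variable {G : Type*} [Group G]

namespace Frame

variable (F : Frame G)

/-- The central involution. -/
def s : G := F.emb 16

/-- The product of the model. -/
abbrev m (a b : ℕ) : ℕ := Code.mul F.typ F.sq a b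

/-- The inverse of the model. -/
abbrev i (a : ℕ) : ℕ := Code.inv F.typ F.sq a

theorem core' {a : ℕ} (ha : a < 192) :
    F.m 0 a = a ∧ F.m a 0 = a ∧ F.m a 16 = F.m 16 a ∧ Code.conj F.typ F.sq a 16 = 16 := by
  have h := Code.core F.typ F.sq
  simp only [List.all_eq_true, elems, List.mem_range, Bool.and_eq_true, beq_iff_eq] at h
  obtain ⟨⟨⟨h1, h2⟩, h3⟩, h4⟩ := h a ha
  exact ⟨h1, h2, h3, h4⟩

theorem lt_m {a b : ℕ} (ha : a < 192) (hb : b < 192) : F.m a b < 192 := by
  have h := Code.mul_lt F.typ F.sq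
  simp only [List.all_eq_true, elems, List.mem_range, decide_eq_true_eq] at h
  exact h a ha b hb

theorem i_spec {a : ℕ} (ha : a < 192) : F.i a < 192 ∧ F.m a (F.i a) = 0 ∧ F.m (F.i a) a = 0 := by
  have h := Code.inv_spec F.typ F.sq
  simp only [List.all_eq_true, elems, List.mem_range, Bool.and_eq_true, decide_eq_true_eq,
    beq_iff_eq] at h
  obtain ⟨⟨h1, h2⟩, h3⟩ := h a ha
  exact ⟨h1, h2, h3⟩

theorem emb_zero : F.emb 0 = 1 := by
  have h := F.emb_mul 0 (by norm_num) 0 (by norm_num)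
  rw [show Code.mul F.typ F.sq 0 0 = 0 from (F.core' (by norm_num)).1] at h
  exact mul_eq_right.1 h

theorem emb_m {a b : ℕ} (ha : a < 192) (hb : b < 192) : F.emb (F.m a b) = F.emb a * F.emb b :=
  (F.emb_mul a ha b hb).symm

theorem emb_inv {a : ℕ} (ha : a < 192) : F.emb (F.i a) = (F.emb a)⁻¹ := by
  refine (inv_eq_of_mul_eq_one_right ?_).symm
  rw [← F.emb_m ha (F.i_spec ha).1, (F.i_spec ha).2.1, F.emb_zero]

theorem conj_lt {g a : ℕ} (hg : g < 192) (ha : a < 192) : Code.conj F.typ F.sq g a < 192 :=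
  F.lt_m (F.lt_m hg ha) (F.i_spec hg).1

theorem emb_conj {g a : ℕ} (hg : g < 192) (ha : a < 192) :
    F.emb (Code.conj F.typ F.sq g a) = F.emb g * F.emb a * (F.emb g)⁻¹ := by
  unfold Code.conj
  rw [F.emb_m (F.lt_m hg ha) (F.i_spec hg).1, F.emb_m hg ha, F.emb_inv hg]

theorem emb_eq_iff {a b : ℕ} (ha : a < 192) (hb : b < 192) : F.emb a = F.emb b ↔ a = b :=
  ⟨F.emb_inj a ha b hb, fun h => h ▸ rfl⟩

theorem emb_eq_one {a : ℕ} (ha : a < 192) : F.emb a = 1 ↔ a = 0 := by
  rw [← F.emb_zero, F.emb_eq_iff ha (by norm_num)]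

theorem commute_iff {a b : ℕ} (ha : a < 192) (hb : b < 192) :
    Commute (F.emb a) (F.emb b) ↔ F.m a b = F.m b a := by
  show F.emb a * F.emb b = F.emb b * F.emb a ↔ _
  rw [← F.emb_m ha hb, ← F.emb_m hb ha, F.emb_eq_iff (F.lt_m ha hb) (F.lt_m hb ha)]

theorem invol_iff {a : ℕ} (ha : a < 192) :
    orderOf (F.emb a) = 2 ↔ a ∈ Code.invols F.typ F.sq := by
  rw [Involutions.Basic.invol_iff, ← F.emb_m ha ha, F.emb_eq_one (F.lt_m ha ha), ne_eq, F.emb_eq_one ha]
  simp [Code.invols, elems, ha]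

theorem orderOf_s : orderOf F.s = 2 := by
  refine (F.invol_iff (by norm_num)).2 ?_
  cases F.typ <;> cases F.sq <;> decide +kernel

theorem commute_s (a : ℕ) (ha : a < 192) : Commute (F.emb a) F.s :=
  (F.commute_iff ha (by norm_num)).2 (F.core' ha).2.2.1

theorem exists_code {g : G} (h : Commute g F.s) : ∃ c < 192, F.emb c = g := (F.mem_iff g).1 h

/-- The centraliser of `s`. -/
abbrev L : Subgroup G := Subgroup.centralizer ({F.s} : Set G)

theorem mem_L {g : G} : g ∈ F.L ↔ Commute g F.s :=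
  Subgroup.mem_centralizer_singleton_iff

theorem emb_mem_L {a : ℕ} (ha : a < 192) : F.emb a ∈ F.L := F.mem_L.2 (F.commute_s a ha)

theorem card_L : Nat.card F.L = 192 := by
  have hb : Function.Bijective (fun c : Fin 192 => (⟨F.emb c, F.emb_mem_L c.2⟩ : F.L)) :=
    ⟨fun a b h => Fin.ext (F.emb_inj a a.2 b b.2 (congrArg Subtype.val h)), fun g => by
      obtain ⟨c, hc, h⟩ := F.exists_code (F.mem_L.1 g.2)
      exact ⟨⟨c, hc⟩, Subtype.ext h⟩⟩
  rw [← Nat.card_eq_of_bijective _ hb, Nat.card_fin]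

/-- The subgroup with given codes. -/
def subg (l : List ℕ) (h : Code.isSub F.typ F.sq l = true) : Subgroup G where
  carrier := {g | ∃ c ∈ l, F.emb c = g}
  one_mem' := by
    simp only [Code.isSub, Bool.and_eq_true, List.contains_iff_mem] at h
    exact ⟨0, h.1.2, F.emb_zero⟩
  mul_mem' := by
    rintro _ _ ⟨a, ha, rfl⟩ ⟨b, hb, rfl⟩
    simp only [Code.isSub, Bool.and_eq_true, List.contains_iff_mem, List.all_eq_true,
      decide_eq_true_eq] at h
    exact ⟨F.m a b, (h.2 a ha).2 b hb, F.emb_m (h.1.1 a ha) (h.1.1 b hb)⟩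
  inv_mem' := by
    rintro _ ⟨a, ha, rfl⟩
    simp only [Code.isSub, Bool.and_eq_true, List.contains_iff_mem, List.all_eq_true,
      decide_eq_true_eq] at h
    exact ⟨F.i a, (h.2 a ha).1, F.emb_inv (h.1.1 a ha)⟩

theorem isSub_lt {l : List ℕ} (h : Code.isSub F.typ F.sq l = true) {c : ℕ} (hc : c ∈ l) : c < 192 := by
  simp only [Code.isSub, Bool.and_eq_true, List.all_eq_true, decide_eq_true_eq] at h
  exact h.1.1 c hc

theorem mem_subg {l : List ℕ} (h : Code.isSub F.typ F.sq l = true) {c : ℕ} (hc : c < 192) :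
    F.emb c ∈ F.subg l h ↔ c ∈ l := by
  constructor
  · rintro ⟨d, hd, e⟩
    rwa [← F.emb_inj d (F.isSub_lt h hd) c hc e]
  · exact fun hcl => ⟨c, hcl, rfl⟩

theorem subg_le_L {l : List ℕ} (h : Code.isSub F.typ F.sq l = true) : F.subg l h ≤ F.L := by
  rintro _ ⟨c, hc, rfl⟩
  exact F.emb_mem_L (F.isSub_lt h hc)

theorem card_subg {l : List ℕ} (h : Code.isSub F.typ F.sq l = true) (hn : l.Nodup) :
    Nat.card (F.subg l h) = l.length := by
  have hb : Function.Bijective
      (fun c : Fin l.length => (⟨F.emb l[c], l[c], List.getElem_mem c.2, rfl⟩ : F.subg l h)) := by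
    refine ⟨fun a b hab => ?_, fun g => ?_⟩
    · have e := F.emb_inj _ (F.isSub_lt h (List.getElem_mem a.2)) _
        (F.isSub_lt h (List.getElem_mem b.2)) (congrArg Subtype.val hab)
      exact Fin.ext ((List.Nodup.getElem_inj_iff hn).1 e)
    · obtain ⟨g, c, hc, rfl⟩ := g
      obtain ⟨n, hn', rfl⟩ := List.getElem_of_mem hc
      exact ⟨⟨n, hn'⟩, rfl⟩
  rw [← Nat.card_eq_of_bijective _ hb, Nat.card_fin]

/-- A Sylow `2`-subgroup of `G` inside `C(s)`. -/
def S : Subgroup G := F.subg Code.syl (Code.syl_isSub _ _)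

theorem card_S : Nat.card F.S = 64 := F.card_subg _ (by decide +kernel)

theorem S_le_L : F.S ≤ F.L := F.subg_le_L _

theorem s_mem_S : F.s ∈ F.S := ⟨16, by decide, rfl⟩

theorem center_S {g : G} (hg : g ∈ F.S) (h : ∀ x ∈ F.S, Commute g x) : g = 1 ∨ g = F.s := by
  obtain ⟨c, hc, rfl⟩ := hg
  have hc' := F.isSub_lt (Code.syl_isSub _ _) hc
  have e := Code.syl_center F.typ F.sq
  simp only [List.all_eq_true, List.any_eq_true, Bool.or_eq_true, beq_iff_eq, bne_iff_ne] at e
  rcases e c hc with (e0 | e0) | ⟨b, hb, hne⟩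
  · exact Or.inl (e0 ▸ F.emb_zero)
  · exact Or.inr (e0 ▸ rfl)
  · exact absurd ((F.commute_iff hc' (F.isSub_lt (Code.syl_isSub _ _) hb)).1 (h _ ⟨b, hb, rfl⟩)) hne

theorem isPGroup_S : IsPGroup 2 F.S := IsPGroup.of_card (n := 6) (by rw [F.card_S]; norm_num)

/-- A `2`-subgroup containing `S` equals it. -/
theorem eq_S [Finite G] {P : Subgroup G} (hP : IsPGroup 2 P) (hle : F.S ≤ P) : P = F.S := by
  haveI : Fact (Nat.Prime 2) := ⟨Nat.prime_two⟩
  by_contra hne
  haveI := hP.isNilpotent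
  have hlt := Involutions.StronglyEmbedded.lt_inf_normalizer (lt_of_le_of_ne hle (Ne.symm hne))
  obtain ⟨n, hn, hnS⟩ := SetLike.exists_of_lt hlt
  have hns : n * F.s * n⁻¹ = F.s := by
    have hmem := (Subgroup.mem_normalizer_iff.1 hn.2 F.s).1 F.s_mem_S
    refine (F.center_S hmem fun x hx => ?_).resolve_left fun h => ?_
    · have hx' : n⁻¹ * x * n ∈ F.S := (Subgroup.mem_normalizer_iff.1 hn.2 _).2 (by group; exact hx)
      have h := (F.mem_L.1 (F.S_le_L hx')).symm.map (MulAut.conj n)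
      simpa [MulAut.conj_apply, mul_assoc] using h
    · exact Involutions.Basic.invol_ne_one F.orderOf_s (conj_eq_one_iff.1 h)
  have hnL : n ∈ F.L := F.mem_L.2 (mul_inv_eq_iff_eq_mul.1 hns)
  have hle' : F.S ≤ P ⊓ F.L := le_inf hle F.S_le_L
  obtain ⟨k, hk⟩ := (hP.to_le (inf_le_left : P ⊓ F.L ≤ P)).exists_card_eq
  have h1 : Nat.card ↥(P ⊓ F.L) ∣ 192 := F.card_L ▸ Subgroup.card_dvd_of_le inf_le_right
  rw [hk] at h1
  have hk6 : 2 ^ k ∣ 2 ^ 6 := by
    refine (Nat.Coprime.pow_left k (by norm_num : Nat.Coprime 2 3)).dvd_of_dvd_mul_left ?_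
    norm_num
    exact h1
  have heq : F.S = P ⊓ F.L := Subgroup.eq_of_le_of_card_ge hle' (by
    rw [hk, F.card_S]; exact Nat.le_of_dvd (by norm_num) hk6)
  exact hnS (heq ▸ ⟨hn.1, hnL⟩)

/-- `S` as a Sylow subgroup. -/
noncomputable def sylow [Finite G] : Sylow 2 G where
  toSubgroup := F.S
  isPGroup' := F.isPGroup_S
  is_maximal' := fun {_} hQ hle => F.eq_S hQ hle

theorem coe_sylow [Finite G] : (F.sylow : Subgroup G) = F.S := rfl

theorem exists_conj_le_S [Finite G] {R : Subgroup G} (hR : IsPGroup 2 R) :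
    ∃ g : G, ∀ x ∈ R, g * x * g⁻¹ ∈ F.S := by
  haveI : Fact (Nat.Prime 2) := ⟨Nat.prime_two⟩
  obtain ⟨P, hP⟩ := hR.exists_le_sylow
  obtain ⟨g, hg⟩ := MulAction.exists_smul_eq G P F.sylow
  refine ⟨g, fun x hx => ?_⟩
  rw [← F.coe_sylow, ← hg, Sylow.coe_subgroup_smul]
  exact ⟨x, hP hx, rfl⟩

include F in
theorem card_two_group [Finite G] {R : Subgroup G} (hR : IsPGroup 2 R) : Nat.card R ∣ 64 := by
  obtain ⟨g, hg⟩ := F.exists_conj_le_S hR
  rw [← F.card_S, Nat.card_congr (Subgroup.equivMapOfInjective R (MulAut.conj g).toMonoidHom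
    (MulAut.conj g).injective).toEquiv]
  exact Subgroup.card_dvd_of_le (by rintro _ ⟨x, hx, rfl⟩; exact hg x hx)

/-- An involution not conjugate to `s` is not central in a Sylow `2`-subgroup. -/
theorem card_le_32 [Finite G] {t : G} (ht : orderOf t = 2) (hts : ¬ IsConj F.s t) {R : Subgroup G}
    (hR : IsPGroup 2 R) (htR : t ∈ R) (hc : ∀ x ∈ R, Commute t x) : Nat.card R ∣ 32 := by
  have h64 := F.card_two_group hR
  obtain ⟨k, hk, hcard⟩ := (Nat.dvd_prime_pow Nat.prime_two).1 (show Nat.card R ∣ 2 ^ 6 by norm_num; exact h64)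
  rw [hcard]
  refine pow_dvd_pow 2 (m := k) (n := 5) ?_
  by_contra hlt
  obtain ⟨g, hg⟩ := F.exists_conj_le_S hR
  have heq : R.map (MulAut.conj g).toMonoidHom = F.S := by
    refine Subgroup.eq_of_le_of_card_ge (by rintro _ ⟨x, hx, rfl⟩; exact hg x hx) ?_
    rw [F.card_S, ← Nat.card_congr (Subgroup.equivMapOfInjective R (MulAut.conj g).toMonoidHom
      (MulAut.conj g).injective).toEquiv, hcard, show k = 6 by omega]
    norm_num
  have hz : g * t * g⁻¹ = F.s := by
    refine (F.center_S (hg t htR) fun x hx => ?_).resolve_left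
      fun h => Involutions.Basic.invol_ne_one ht (conj_eq_one_iff.1 h)
    rw [← heq] at hx
    obtain ⟨y, hy, rfl⟩ := hx
    exact (hc y hy).map (MulAut.conj g)
  exact hts ((isConj_iff.2 ⟨g, hz⟩).symm)

theorem isConj_emb {a b : ℕ} (ha : a < 192) (hb : b < 192)
    (h : (Code.elems.any fun g => Code.conj F.typ F.sq g a == b) = true) :
    IsConj (F.emb a) (F.emb b) := by
  simp only [List.any_eq_true, elems, List.mem_range, beq_iff_eq] at h
  obtain ⟨g, hg, rfl⟩ := h
  exact isConj_iff.2 ⟨F.emb g, (F.emb_conj hg ha).symm⟩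

/-- An element of order three in the centraliser of a conjugate `d` of `s` centralises only one
involution of it. -/
theorem eq_of_three {d x τ : G} (hd : IsConj F.s d) (hτ : τ ^ 3 = 1) (hτ1 : τ ≠ 1) (hτd : Commute τ d)
    (hx : orderOf x = 2) (hxd : Commute x d) (hxτ : Commute x τ) : x = d := by
  obtain ⟨g, rfl⟩ := isConj_iff.1 hd
  set f := (MulAut.conj g).symm
  have hfs : f (g * F.s * g⁻¹) = F.s := by
    rw [show g * F.s * g⁻¹ = MulAut.conj g F.s from rfl, MulEquiv.symm_apply_apply]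
  obtain ⟨c, hc, hce⟩ := F.exists_code (g := f τ) (by have := hτd.map f; rwa [hfs] at this)
  obtain ⟨a, ha, hae⟩ := F.exists_code (g := f x) (by have := hxd.map f; rwa [hfs] at this)
  have e := Code.three_fixes F.typ F.sq
  simp only [List.all_eq_true, elems, List.mem_range, Bool.or_eq_true, bne_iff_ne, beq_iff_eq] at e
  have h1 : F.m c (F.m c c) = 0 := by
    rw [← F.emb_eq_one (F.lt_m hc (F.lt_m hc hc)), F.emb_m hc (F.lt_m hc hc), F.emb_m hc hc, hce,
      ← map_mul, ← map_mul, ← mul_assoc, ← pow_three', hτ, map_one]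
  have h0 : c ≠ 0 := by
    intro h; subst h; rw [F.emb_zero] at hce
    exact hτ1 (f.injective (by rw [← hce, map_one]))
  have hai : a ∈ Code.invols F.typ F.sq :=
    (F.invol_iff ha).1 (by rw [hae, MulEquiv.orderOf_eq f, hx])
  have hcomm : F.m c a = F.m a c := (F.commute_iff hc ha).1 (by rw [hce, hae]; exact hxτ.symm.map f)
  rcases e c hc with (h | h) | h
  · exact absurd h1 h
  · exact absurd h h0
  · rcases h a hai with h' | h'
    · exact absurd hcomm h'
    · apply f.injective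
      rw [hfs, ← hae, h']
      rfl

end Frame

end Cfsg.Agent.Lib.Cent192x61
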