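import Cfsg.Agent.Lib.Cent192x61.Basic

/-!
# Two renumberings of the exchanged model
-/

set_option autoImplicit false

namespace Cfsg.Agent.Lib.Cent192x61

open Code

/-- Cycle the second factor and replace `τ` by `ξτ`. -/
def Code.turn (sq : Bool) (c : ℕ) : ℕ :=
  mul true sq (qm (qm (16 * (c % 32 / 16)) (4 * (c / 4 % 4))) (rot (c % 4)))
    (mul true sq (32 * (c / 32 % 3)) (bif c / 96 == 0 then 0 else mul true sq 32 96))

/-- Replace `τ` by `sτ`. -/
def Code.flip (sq : Bool) (c : ℕ) : ℕ := bif c / 96 == 0 then c else mul true sq 16 c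

theorem Code.turn_ok : ∀ sq : Bool, (elems.all fun a => turn sq a < 192 && elems.all fun b =>
    turn sq (mul true sq a b) == mul true sq (turn sq a) (turn sq b) &&
      (a == b || turn sq a != turn sq b)) = true := by decide +kernel

theorem Code.flip_ok : ∀ sq : Bool, (elems.all fun a => flip sq a < 192 && elems.all fun b =>
    flip sq (mul true sq a b) == mul true sq (flip sq a) (flip sq b) &&
      (a == b || flip sq a != flip sq b)) = true := by decide +kernel

theorem Code.turn_flip_16 : ∀ sq : Bool, turn sq 16 = 16 ∧ flip sq 16 = 16 := by decide +kernel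

variable {G : Type*} [Group G]

namespace Frame

variable (F : Frame G)

/-- Renumbering by an automorphism of the model fixing `16`. -/
noncomputable def reindex (π : ℕ → ℕ) (hlt : ∀ a < 192, π a < 192)
    (hmul : ∀ a < 192, ∀ b < 192, π (Code.mul F.typ F.sq a b) = Code.mul F.typ F.sq (π a) (π b))
    (hinj : ∀ a < 192, ∀ b < 192, π a = π b → a = b) (h16 : π 16 = 16) : Frame G where
  typ := F.typ
  sq := F.sq
  emb c := F.emb (π c)
  emb_mul a ha b hb := by rw [F.emb_mul _ (hlt a ha) _ (hlt b hb), hmul a ha b hb]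
  emb_inj a ha b hb h := hinj a ha b hb (F.emb_inj _ (hlt a ha) _ (hlt b hb) h)
  mem_iff g := by
    rw [h16]
    have hb : Function.Bijective (fun a : Fin 192 => (⟨π a, hlt a a.2⟩ : Fin 192)) :=
      Finite.injective_iff_bijective.1 fun a b h => Fin.ext (hinj a a.2 b b.2 (congrArg Fin.val h))
    refine (F.mem_iff g).trans ⟨fun ⟨c, hc, e⟩ => ?_, fun ⟨a, ha, e⟩ => ⟨π a, hlt a ha, e⟩⟩
    obtain ⟨a, ha⟩ := hb.2 ⟨c, hc⟩
    exact ⟨a, a.2, by rw [← e]; exact congrArg F.emb (congrArg Fin.val ha)⟩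

theorem reindex_s {π : ℕ → ℕ} {hlt hmul hinj} (h16 : π 16 = 16) :
    (F.reindex π hlt hmul hinj h16).s = F.s := by
  show F.emb (π 16) = F.emb 16
  rw [h16]

/-- The turned frame. -/
theorem exists_turn (ht : F.typ = true) : ∃ F' : Frame G, F'.typ = true ∧ F'.sq = F.sq ∧ F'.s = F.s ∧
    (∀ c, F'.emb c = F.emb (Code.turn F.sq c)) := by
  have h := Code.turn_ok F.sq
  simp only [List.all_eq_true, elems, List.mem_range, Bool.and_eq_true, decide_eq_true_eq, beq_iff_eq,
    Bool.or_eq_true, bne_iff_ne] at h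
  refine ⟨F.reindex (Code.turn F.sq) (fun a ha => (h a ha).1)
    (fun a ha b hb => by rw [ht]; exact ((h a ha).2 b hb).1)
    (fun a ha b hb e => ((h a ha).2 b hb).2.resolve_right fun n => n e)
    (Code.turn_flip_16 _).1, ht, rfl, F.reindex_s _, fun _ => rfl⟩

/-- The flipped frame. -/
theorem exists_flip (ht : F.typ = true) : ∃ F' : Frame G, F'.typ = true ∧ F'.sq = F.sq ∧ F'.s = F.s ∧
    (∀ c, F'.emb c = F.emb (Code.flip F.sq c)) := by
  have h := Code.flip_ok F.sq
  simp only [List.all_eq_true, elems, List.mem_range, Bool.and_eq_true, decide_eq_true_eq, beq_iff_eq,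
    Bool.or_eq_true, bne_iff_ne] at h
  refine ⟨F.reindex (Code.flip F.sq) (fun a ha => (h a ha).1)
    (fun a ha b hb => by rw [ht]; exact ((h a ha).2 b hb).1)
    (fun a ha b hb e => ((h a ha).2 b hb).2.resolve_right fun n => n e)
    (Code.turn_flip_16 _).2, ht, rfl, F.reindex_s _, fun _ => rfl⟩

end Frame

end Cfsg.Agent.Lib.Cent192x61
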