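import Cfsg.Agent.Lib.Cent192x61.FusionData
import Cfsg.Agent.Lib.Cent192x61.Reindex

/-!
# Fusion of involutions
-/

set_option autoImplicit false

namespace Cfsg.Agent.Lib.Cent192x61

open Code

variable {G : Type*} [Group G] [Finite G]

namespace Frame

variable {F : Frame G} {q : ℕ}

theorem isConj_cls {a b : ℕ} (ha : a < 192) (hb : b < 192) (h : Code.cls F.typ F.sq a b = true) :
    IsConj (F.emb a) (F.emb b) := F.isConj_emb ha hb h

theorem coset_lt (hq : q < 192) {r c : ℕ} (hr : r < 192) (hc : c ∈ Code.coset F.typ F.sq q r) :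
    c < 192 ∧ ∃ p, F.InFour q p ∧ F.emb c = F.emb r * p := by
  obtain ⟨p, hp, rfl⟩ := List.mem_map.1 hc
  have hp' : p < 192 := by
    simp only [Code.four, List.mem_cons, List.not_mem_nil, or_false] at hp
    rcases hp with rfl | rfl | rfl | rfl
    · norm_num
    · norm_num
    · exact hq
    · exact F.lt_m hq (by norm_num)
  exact ⟨F.lt_m hr hp', F.emb p, (inFour_iff hq hp').2 hp, F.emb_m hr hp'⟩

theorem exists_coset (hq : q < 192) {r : ℕ} (hr : r < 192) {p : G} (hp : F.InFour q p) :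
    ∃ c ∈ Code.coset F.typ F.sq q r, c < 192 ∧ F.emb c = F.emb r * p := by
  obtain ⟨a, ha, ha', rfl⟩ := exists_four hq hp
  exact ⟨F.m r a, List.mem_map.2 ⟨a, ha, rfl⟩, F.lt_m hr ha', F.emb_m hr ha'⟩

theorem inFour_mul (hq : q < 192) (hqi : orderOf (F.emb q) = 2) {a b : G} (ha : F.InFour q a)
    (hb : F.InFour q b) : F.InFour q (a * b) := by
  have q2 := Involutions.Basic.invol_mul_self hqi
  have s2 := Involutions.Basic.invol_mul_self F.orderOf_s
  have hc := (F.commute_s q hq).eq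
  have e1 : F.emb q * (F.emb q * F.s) = F.s := by rw [← mul_assoc, q2, one_mul]
  have e2 : F.emb q * F.s * F.emb q = F.s := by rw [hc, mul_assoc, q2, mul_one]
  have e3 : F.emb q * F.s * F.s = F.emb q := by rw [mul_assoc, s2, mul_one]
  have e4 : F.s * (F.emb q * F.s) = F.emb q := by rw [hc, ← mul_assoc, s2, one_mul]
  have e5 : F.emb q * F.s * (F.emb q * F.s) = 1 := by rw [← mul_assoc, e2, s2]
  rcases ha with rfl | rfl | rfl | rfl <;> rcases hb with rfl | rfl | rfl | rfl <;>
    simp [InFour, q2, s2, e1, e2, e3, e4, e5, ← hc]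

theorem inFour_inv (hqi : orderOf (F.emb q) = 2) (hq : q < 192) {a : G} (ha : F.InFour q a) : a⁻¹ = a := by
  rcases ha with rfl | rfl | rfl | rfl
  · exact inv_one
  · exact Involutions.Basic.invol_inv F.orderOf_s
  · exact Involutions.Basic.invol_inv hqi
  · rw [mul_inv_rev, Involutions.Basic.invol_inv F.orderOf_s, Involutions.Basic.invol_inv hqi,
      (F.commute_s q hq).eq]

/-- The permutation of the cosets, with its properties. -/
structure Perm (T : F.Tau q) {n : ℕ} (rep : Fin n → ℕ) where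
  σ : Fin n → Fin n
  cube : ∀ k, σ (σ (σ k)) = k
  lt : ∀ k, rep k < 192
  inD : ∀ k, F.InD q (F.emb (rep k))
  maps : ∀ k p, F.InFour q p → ∃ p', F.InFour q p' ∧ T.c (F.emb (rep k) * p) = F.emb (rep (σ k)) * p'
  distinct : ∀ k l p, F.InFour q p → F.emb (rep k) * p = F.emb (rep l) → k = l
  sq : ∀ k, F.emb (rep k) * F.emb (rep k) = 1
  out : ∀ k, ¬ F.InFour q (F.emb (rep k))

theorem exists_perm (hok : Code.pivotOk F.typ F.sq q = true) (T : F.Tau q) {n : ℕ} (rep : Fin n → ℕ)
    (hrep : Function.Injective rep)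
    (h : Code.repsOk F.typ F.sq q (List.ofFn rep) = true) : Nonempty (Perm T rep) := by
  have hok' := hok
  simp only [Code.pivotOk, Bool.and_eq_true, List.contains_iff_mem] at hok'
  have hq : q < 192 := List.mem_range.1 (List.mem_filter.1 hok'.1.1.1.1.1.1).1
  have hqo : orderOf (F.emb q) = 2 := (F.invol_iff hq).2 hok'.1.1.1.1.1.1
  simp only [Code.repsOk, Bool.and_eq_true, List.all_eq_true, List.mem_ofFn, Bool.or_eq_true,
    Bool.not_eq_true', List.any_eq_true, forall_exists_index, forall_apply_eq_imp_iff,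
    List.contains_iff_mem, beq_iff_eq, elems, List.mem_range, exists_exists_eq_and] at h
  obtain ⟨⟨hc, hcov⟩, hdist⟩ := h
  have hlt : ∀ k, rep k < 192 := fun k => by
    have := hc k
    simp only [Code.isCand, Bool.and_eq_true, List.contains_iff_mem] at this
    exact List.mem_range.1 (List.mem_filter.1 this.1.1.1).1
  have hcand : ∀ k, F.IsCand q (F.emb (rep k)) := fun k => (isCand_emb hq (hlt k)).2 (hc k)
  have hdist' : ∀ k l p, F.InFour q p → F.emb (rep k) * p = F.emb (rep l) → k = l := by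
    intro k l p hp e
    rcases hdist k l with h' | h'
    · exact hrep h'
    · obtain ⟨c, hcm, hc', hce⟩ := exists_coset hq (hlt k) hp
      rw [e] at hce
      have := F.emb_inj _ hc' _ (hlt l) hce
      rw [this] at hcm
      rw [List.contains_eq_mem] at h'
      simp only [decide_eq_false_iff_not] at h'
      exact absurd hcm h'
  have hex : ∀ k, ∃ l p, F.InFour q p ∧ T.c (F.emb (rep k)) = F.emb (rep l) * p := by
    intro k
    have hk := T.isCand (hcand k)
    obtain ⟨c, -, hc', hce⟩ := exists_cent hq hk.1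
    rw [← hce] at hk
    rcases hcov c hc' with h' | ⟨l, h'⟩
    · rw [(isCand_emb hq hc').1 hk] at h'; exact absurd h' Bool.noConfusion
    · obtain ⟨-, p, hp, e⟩ := coset_lt hq (hlt l) h'
      exact ⟨l, p, hp, hce ▸ e⟩
  choose σ p hp he using hex
  refine ⟨⟨σ, fun k => ?_, hlt, fun k => (hcand k).1, fun k p' hp' => ?_, hdist', fun k => (hcand k).2.1, fun k => (hcand k).2.2.1⟩⟩
  · set p1 := p k
    set p2 := p (σ k)
    set p3 := p (σ (σ k))
    refine hdist' _ k (p3 * (T.c p2 * T.c (T.c p1))) ?_ ?_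
    · exact inFour_mul hq hqo (hp _) (inFour_mul hq hqo (T.inFour (hp _)) (T.inFour (T.inFour (hp _))))
    · conv_rhs => rw [← T.c3 (F.emb (rep k)), he, map_mul, map_mul, he, map_mul, he]
      simp only [mul_assoc]
      rfl
  · exact ⟨p k * T.c p', inFour_mul hq hqo (hp k) (T.inFour hp'), by rw [map_mul, he, mul_assoc]⟩

namespace Perm

variable {T : F.Tau q} {n : ℕ} {rep : Fin n → ℕ} (P : Perm T rep)

theorem exists_fixed (hq : q < 192) (hqi : orderOf (F.emb q) = 2) {k : Fin n} (hk : P.σ k = k) :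
    ∃ p, F.InFour q p ∧ T.c (F.emb (rep k) * p) = F.emb (rep k) * p := by
  obtain ⟨p', hp', he⟩ := P.maps k 1 (Or.inl rfl)
  rw [mul_one, hk] at he
  exact Tau.exists_fixed T (P.inD k) hp' hqi (F.commute_s q hq) he

include P in
theorem inD_coset (hq : q < 192) (k : Fin n) {p : G} (hp : F.InFour q p) :
    F.InD q (F.emb (rep k) * p) ∧ (F.emb (rep k) * p) * (F.emb (rep k) * p) = p * p := by
  have hpc : Commute p F.s ∧ Commute p (F.emb q) ∧ Commute (F.emb (rep k)) p := by
    have hqs := F.commute_s q hq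
    have hr := P.inD k
    rcases hp with rfl | rfl | rfl | rfl
    · exact ⟨Commute.one_left _, Commute.one_left _, Commute.one_right _⟩
    · exact ⟨Commute.refl _, hqs.symm, hr.1⟩
    · exact ⟨hqs, Commute.refl _, hr.2⟩
    · exact ⟨hqs.mul_left (Commute.refl _), (Commute.refl _).mul_left hqs.symm, hr.2.mul_right hr.1⟩
  refine ⟨⟨(P.inD k).1.mul_left hpc.1, (P.inD k).2.mul_left hpc.2.1⟩, ?_⟩
  rw [mul_assoc, ← mul_assoc p, ← hpc.2.2.eq, mul_assoc, ← mul_assoc, P.sq k, one_mul]

/-- Only one coset is fixed if one of them consists of conjugates of `s`. -/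
theorem fixed_unique (hok : Code.pivotOk F.typ F.sq q = true) (hq : q < 192)
    (hqi : orderOf (F.emb q) = 2) {k l : Fin n} (hk : P.σ k = k) (hl : P.σ l = l)
    (hall : ∀ p, F.InFour q p → IsConj F.s (F.emb (rep k) * p)) : k = l := by
  obtain ⟨p, hp, he⟩ := P.exists_fixed hq hqi hk
  obtain ⟨p', hp', he'⟩ := P.exists_fixed hq hqi hl
  by_contra hne
  have sqp : ∀ {x}, F.InFour q x → x * x = 1 := fun {x} hx => by
    calc x * x = x⁻¹ * x := by rw [inFour_inv hqi hq hx]
      _ = 1 := inv_mul_cancel x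
  obtain ⟨hdD, hd2⟩ := P.inD_coset hq k hp
  obtain ⟨hxD, hx2⟩ := P.inD_coset hq l hp'
  rw [sqp hp] at hd2
  rw [sqp hp'] at hx2
  have hd1 : F.emb (rep k) * p ≠ 1 := by
    intro h
    have := hall p hp
    rw [h, isConj_one_left] at this
    exact Involutions.Basic.invol_ne_one F.orderOf_s this
  have hx1 : F.emb (rep l) * p' ≠ 1 := fun h => P.out l (by
    rw [eq_inv_of_mul_eq_one_left h, inFour_inv hqi hq hp']; exact hp')
  have e := T.eq_of_fixed hok hq hdD hxD hd2 hd1 hx2 hx1 he he' (hall p hp)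
  refine hne (P.distinct k l (p * p') (inFour_mul hq hqi hp hp') ?_)
  rw [← mul_assoc, ← e, mul_assoc, sqp hp', mul_one]

/-- Elements of two cosets moved by `τ` are conjugate. -/
theorem isConj_of_moved {k l : Fin n} (h : P.σ k = l ∨ P.σ (P.σ k) = l) {p : G} (hp : F.InFour q p) :
    ∃ p', F.InFour q p' ∧ IsConj (F.emb (rep k) * p) (F.emb (rep l) * p') := by
  obtain ⟨p1, hp1, he⟩ := P.maps k p hp
  have c1 : IsConj (F.emb (rep k) * p) (F.emb (rep (P.σ k)) * p1) :=
    isConj_iff.2 ⟨T.τ, he⟩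
  rcases h with rfl | rfl
  · exact ⟨p1, hp1, c1⟩
  · obtain ⟨p2, hp2, he2⟩ := P.maps (P.σ k) p1 hp1
    exact ⟨p2, hp2, c1.trans (isConj_iff.2 ⟨T.τ, he2⟩)⟩

end Perm

end Frame

end Cfsg.Agent.Lib.Cent192x61
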