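import Cfsg.Agent.Lib.Cent192x61.CasesData
import Cfsg.Agent.Lib.Cent192x61.Fusion

/-!
# The possible fusion patterns
-/

set_option autoImplicit false
set_option maxHeartbeats 400000

namespace Cfsg.Agent.Lib.Cent192x61

open Code

variable {G : Type*} [Group G] [Finite G]

namespace Frame

variable (F : Frame G)

/-- `τ` normalises the group of order eight over `q` at `r`. -/
def Tau.Stab {F : Frame G} {q : ℕ} (T : F.Tau q) (r : ℕ) : Prop :=
  ∀ p, F.InFour q p → ∃ p', F.InFour q p' ∧ T.c (F.emb r * p) = F.emb r * p'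

/-- The conjugates of `s` in its centraliser form an elementary group of order eight. -/
def CaseU : Prop :=
  F.sq = false ∧ (∃ T : F.Tau 5, T.Stab 10) ∧
    ∀ c ∈ Code.invols F.typ F.sq, IsConj F.s (F.emb c) → c ∈ Code.eight F.typ F.sq 5 10

/-- The pattern of `M₁₂`. -/
def CaseTwelve : Prop :=
  F.typ = false ∧ F.sq = false ∧ IsConj F.s (F.emb 5) ∧ IsConj F.s (F.emb 96) ∧
    ¬ IsConj F.s (F.emb 6) ∧
    ∃ (T : F.Tau 5) (d : ℕ), d ∈ Code.coset F.typ F.sq 5 11 ∧ T.c (F.emb d) = F.emb d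

/-- The pattern of `A₈` and `A₉`. -/
def CaseAlt : Prop :=
  F.typ = true ∧ F.sq = false ∧ IsConj F.s (F.emb 5) ∧ IsConj F.s (F.emb 6) ∧ IsConj F.s (F.emb 96) ∧
    ¬ IsConj F.s (F.emb 7) ∧ IsConj (F.emb 7) (F.emb 112) ∧
    (∃ T : F.Tau 5, T.Stab 10) ∧ ∃ T : F.Tau 6, T.Stab 11

/-- All involutions are conjugate. -/
def CaseOne : Prop :=
  F.typ = true ∧ F.sq = false ∧ ∀ c ∈ Code.invols F.typ F.sq, IsConj F.s (F.emb c)

variable {F}

theorem pivot_five : Code.pivotOk F.typ F.sq 5 = true := by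
  have h := Code.pivot_ok F.typ F.sq
  simp only [Bool.and_eq_true] at h
  exact h.1

theorem pivot_six : Code.pivotOk F.typ F.sq 6 = true := by
  have h := Code.pivot_ok F.typ F.sq
  simp only [Bool.and_eq_true] at h
  exact h.2

theorem orderOf_pivot {q : ℕ} (hq : q < 192) (h : Code.pivotOk F.typ F.sq q = true) :
    orderOf (F.emb q) = 2 := by
  simp only [Code.pivotOk, Bool.and_eq_true, List.contains_iff_mem] at h
  exact (F.invol_iff hq).2 h.1.1.1.1.1.1

theorem conj_of_cls {a b : ℕ} (ha : a < 192) (hb : b < 192) (h : Code.cls F.typ F.sq a b = true)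
    (hs : IsConj F.s (F.emb a)) : IsConj F.s (F.emb b) := hs.trans (isConj_cls ha hb h)

theorem conj_of_cls' {a b : ℕ} (ha : a < 192) (hb : b < 192) (h : Code.cls F.typ F.sq a b = true)
    (hs : IsConj F.s (F.emb b)) : IsConj F.s (F.emb a) := hs.trans (isConj_cls ha hb h).symm

/-- All elements of the first coset are conjugates of `s`. -/
theorem coset_U_conj (h5 : IsConj F.s (F.emb 5)) {p : G} (hp : F.InFour 5 p) :
    IsConj F.s (F.emb 10 * p) := by
  obtain ⟨c, hc, hc', e⟩ := exists_coset (F := F) (q := 5) (r := 10) (by norm_num) (by norm_num) hp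
  have h := Code.coset_U F.typ F.sq
  simp only [List.all_eq_true] at h
  rw [← e]
  exact conj_of_cls (by norm_num) hc' (h c hc) h5

theorem not_six (ht : F.typ = false) : ¬ IsConj F.s (F.emb 6) := by
  intro h6
  have hok : Code.pivotOk F.typ F.sq 6 = true := pivot_six
  obtain ⟨T⟩ := exists_tau hok h6
  have hrep : Code.repsOk F.typ F.sq 6 (List.ofFn Code.repsSix) = true := by
    rw [ht]; exact Code.reps_six F.sq
  obtain ⟨P⟩ := exists_perm hok T Code.repsSix (by decide) hrep
  have hqi := orderOf_pivot (F := F) (by norm_num) hok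
  obtain ⟨p, hp, hfix⟩ := P.exists_fixed (by norm_num) hqi (k := 1) (three_two P.σ P.cube 1)
  have hrep1 : Code.repsSix 1 = 11 := rfl
  rw [hrep1] at hfix
  have himg := Code.six_image F.sq
  simp only [Bool.and_eq_true, List.all_eq_true, List.any_eq_true, Bool.or_eq_true, beq_iff_eq,
    ← ht] at himg
  obtain ⟨hall, e, he, hee⟩ := himg
  have h6' : (6 : ℕ) < 192 := by norm_num
  have he' : e < 192 := List.mem_range.1 (List.mem_filter.1 he).1
  have hpc : ∀ g, F.InD 6 g → g * p * g⁻¹ = p := fun g hg => by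
    have hc : Commute g p := by
      rcases hp with rfl | rfl | rfl | rfl
      · exact Commute.one_right _
      · exact hg.1
      · exact hg.2
      · exact hg.2.mul_right hg.1
    rw [hc.eq, mul_inv_cancel_right]
  have hmul : ∀ g, g * (F.emb 11 * p) * g⁻¹ = g * F.emb 11 * g⁻¹ * (g * p * g⁻¹) := fun g => by group
  have hsp : Commute F.s p := by
    rcases hp with rfl | rfl | rfl | rfl
    · exact Commute.one_right _
    · exact Commute.refl _
    · exact (F.commute_s 6 h6').symm
    · exact ((F.commute_s 6 h6').symm).mul_right (Commute.refl _)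
  set d := F.emb 11 * p with hd
  have e1 : F.emb e * d * (F.emb e)⁻¹ = d * F.s := by
    have hg : F.InD 6 (F.emb e) := (inD_emb h6' he').2 he
    rw [hmul, hpc _ hg, ← F.emb_conj he' (by norm_num), hee, F.emb_m (by norm_num) (by norm_num)]
    show F.emb 11 * F.s * p = _
    rw [mul_assoc, hsp.eq, ← mul_assoc]
  set g := T.c (F.emb e) with hg
  have e2 : g * d * g⁻¹ = d * (F.emb 6 * F.s) := by
    calc g * d * g⁻¹ = T.c (F.emb e * d * (F.emb e)⁻¹) := by rw [map_mul, map_mul, map_inv, hfix]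
      _ = _ := by rw [e1, map_mul, hfix]; exact congrArg _ T.τs
  have hgD : F.InD 6 g := T.inD ((inD_emb h6' he').2 he)
  obtain ⟨c, hc, hc', hce⟩ := exists_cent h6' hgD
  rw [← hce, hmul, hpc _ (hce ▸ hgD), ← F.emb_conj hc' (by norm_num)] at e2
  have hq1 : F.emb 6 * F.s ≠ 1 := fun h => by
    have := eq_inv_of_mul_eq_one_left h
    rw [Involutions.Basic.invol_inv F.orderOf_s] at this
    exact absurd (F.emb_inj 6 h6' 16 (by norm_num) this) (by norm_num)
  rcases hall c hc with h' | h' <;> rw [h'] at e2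
  · exact hq1 (mul_eq_left.1 e2.symm)
  · rw [F.emb_m (by norm_num) (by norm_num)] at e2
    have e3 : d * F.s = d * (F.emb 6 * F.s) := by
      rw [← e2]; show F.emb 11 * p * F.s = F.emb 11 * F.s * p
      rw [mul_assoc, ← hsp.eq, ← mul_assoc]
    have := mul_left_cancel e3
    exact Involutions.Basic.invol_ne_one (orderOf_pivot (F := F) h6' hok) (mul_eq_right.1 this.symm)

/-- The case `sq` cannot occur once `5` is conjugate to `s`. -/
theorem sq_false (h5 : IsConj F.s (F.emb 5)) : F.sq = false := by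
  by_contra hsq
  rw [Bool.not_eq_false] at hsq
  have hok : Code.pivotOk F.typ F.sq 5 = true := pivot_five
  obtain ⟨T⟩ := exists_tau hok h5
  have hrep : Code.repsOk F.typ F.sq 5 (List.ofFn Code.repsSq) = true := by
    rw [hsq]; exact Code.reps_sq F.typ
  obtain ⟨P⟩ := exists_perm hok T Code.repsSq (by decide) hrep
  exact absurd (P.fixed_unique hok (by norm_num) (orderOf_pivot (by norm_num) hok)
    (three_two P.σ P.cube 0) (three_two P.σ P.cube 1) fun p hp => coset_U_conj h5 hp) (by decide)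

theorem unique_fixed {T : F.Tau 5} {rep : Fin 4 → ℕ} (P : Perm T rep) (h0 : rep 0 = 10)
    (h5 : IsConj F.s (F.emb 5)) : ∃ m, P.σ m = m ∧ ∀ k, P.σ k = k → k = m := by
  obtain ⟨m, hm⟩ := (three_cycle P.σ P.cube).1
  rcases three_unique P.σ P.cube with hid | huniq
  · exact absurd (P.fixed_unique pivot_five (by norm_num) (orderOf_pivot (by norm_num) pivot_five)
      (hid 0) (hid 1) fun p hp => h0 ▸ coset_U_conj h5 hp) (by decide)
  · exact ⟨m, hm, fun k hk => huniq k m hk hm⟩

theorem coset_conj {T : F.Tau 5} {rep : Fin 4 → ℕ} (P : Perm T rep) {m k l : Fin 4}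
    (hu : ∀ i, P.σ i = i → i = m) (hk : k ≠ m) (hl : l ≠ m) {c : ℕ}
    (hc : c ∈ Code.coset F.typ F.sq 5 (rep k)) :
    c < 192 ∧ ∃ c' ∈ Code.coset F.typ F.sq 5 (rep l), c' < 192 ∧ IsConj (F.emb c) (F.emb c') := by
  obtain ⟨hc', p, hp, e⟩ := coset_lt (F := F) (q := 5) (by norm_num) (P.lt k) hc
  refine ⟨hc', ?_⟩
  rcases eq_or_ne k l with rfl | hne
  · exact ⟨c, hc, hc', IsConj.refl _⟩
  · obtain ⟨p', hp', h⟩ := P.isConj_of_moved
      (((three_cycle P.σ P.cube).2 m hu k l hk hl).resolve_left hne) hp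
    obtain ⟨c', hc1, hc2, e'⟩ := exists_coset (F := F) (q := 5) (by norm_num) (P.lt l) hp'
    exact ⟨c', hc1, hc2, by rw [e, e']; exact h⟩

theorem self_mem_coset {typ sq : Bool} {q r : ℕ} (h : Code.mul typ sq r 0 = r) :
    r ∈ Code.coset typ sq q r := List.mem_map.2 ⟨0, by simp [Code.four], h⟩

theorem mem_eight_of_cls (hs : F.sq = false) {c : ℕ} (hc : c < 192)
    (h : Code.cls F.typ F.sq c 5 = true ∨ c = 16) : c ∈ Code.eight F.typ F.sq 5 10 := by
  have h' : (elems.all fun c => !(Code.cls F.typ F.sq c 5 || c == 16) ||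
      (Code.eight F.typ F.sq 5 10).contains c) = true := by rw [hs]; exact Code.eight_closed F.typ
  simp only [List.all_eq_true, elems, List.mem_range] at h'
  have h'' := h' c hc
  rw [show (Code.cls F.typ F.sq c 5 || c == 16) = true by
    rcases h with h | h <;> simp [h]] at h''
  simpa using h''

theorem cases_one (ht : F.typ = false) (hpiv : IsConj F.s (F.emb 5)) :
    F.CaseU ∨ F.CaseTwelve := by
  have hs := sq_false hpiv
  have h6 := not_six ht
  have hok : Code.pivotOk F.typ F.sq 5 = true := pivot_five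
  obtain ⟨T⟩ := exists_tau hok hpiv
  have hrep : Code.repsOk F.typ F.sq 5 (List.ofFn Code.repsI) = true := by
    rw [ht, hs]; exact Code.reps_I
  obtain ⟨P⟩ := exists_perm hok T Code.repsI (by decide) hrep
  obtain ⟨m, hm, hu⟩ := unique_fixed P rfl hpiv
  have hU := Code.coset_U F.typ F.sq
  simp only [List.all_eq_true] at hU
  have hW : ∀ c ∈ Code.coset F.typ F.sq 5 11, Code.cls F.typ F.sq 6 c = true := by
    rw [ht, hs]; exact List.all_eq_true.1 Code.coset_W
  have h11 : (11 : ℕ) ∈ Code.coset F.typ F.sq 5 11 :=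
    self_mem_coset (F.core' (by norm_num)).2.1
  have h96 : (96 : ℕ) ∈ Code.coset F.typ F.sq 5 96 :=
    self_mem_coset (F.core' (by norm_num)).2.1
  fin_cases m
  · -- `U` is normalised
    refine Or.inl ⟨hs, ⟨T, fun p hp => ?_⟩, ?_⟩
    · obtain ⟨p', hp', e⟩ := P.maps 0 p hp
      rw [show P.σ 0 = 0 from hm] at e
      exact ⟨p', hp', e⟩
    · obtain ⟨-, c', hc', hc'', hconj⟩ := coset_conj P hu (k := 2) (l := 1) (by decide) (by decide) h96
      have h96' : ¬ IsConj F.s (F.emb 96) := fun h =>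
        h6 (conj_of_cls' (by norm_num) hc'' (hW c' hc') (h.trans hconj))
      intro c hc hcs
      have hc' : c < 192 := List.mem_range.1 (List.mem_filter.1 hc).1
      refine mem_eight_of_cls hs hc' ?_
      have hcl : ((Code.invols F.typ F.sq).all fun c =>
          [16, 5, 6, 96].any fun r => Code.cls F.typ F.sq c r) = true := by
        rw [ht, hs]; exact Code.classes_I
      simp only [List.all_eq_true, List.any_eq_true, List.mem_cons, List.not_mem_nil, or_false] at hcl
      obtain ⟨r, hr, hcr⟩ := hcl c hc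
      rcases hr with rfl | rfl | rfl | rfl
      · right
        simp only [Code.cls, List.any_eq_true, elems, List.mem_range, beq_iff_eq] at hcr
        obtain ⟨g, hg, hge⟩ := hcr
        refine F.emb_inj _ hc' _ (by norm_num) ?_
        have e := F.emb_conj hg hc'
        rw [hge] at e
        calc F.emb c = (F.emb g)⁻¹ * F.emb 16 * F.emb g := by rw [e]; group
          _ = F.emb 16 := by
            rw [mul_assoc, show F.emb 16 = F.s from rfl, ← (F.commute_s g hg).eq, inv_mul_cancel_left]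
      · exact Or.inl hcr
      · exact absurd (conj_of_cls hc' (by norm_num) hcr hcs) h6
      · exact absurd (conj_of_cls hc' (by norm_num) hcr hcs) h96'
  · -- `W` is normalised
    obtain ⟨-, c', hc', hc'', hconj⟩ := coset_conj P hu (k := 2) (l := 0) (by decide) (by decide) h96
    have h96' : IsConj F.s (F.emb 96) :=
      (conj_of_cls (by norm_num) hc'' (hU c' hc') hpiv).trans hconj.symm
    obtain ⟨p, hp, hfix⟩ := P.exists_fixed (by norm_num) (orderOf_pivot (by norm_num) hok) hm
    obtain ⟨d, hd, hd', hde⟩ := exists_coset (F := F) (q := 5) (r := 11) (by norm_num) (by norm_num) hp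
    exact Or.inr ⟨ht, hs, hpiv, h96', h6, T, d, hd, by rw [hde]; exact hfix⟩
  all_goals
    exfalso
    obtain ⟨-, c', hc', hc'', hconj⟩ := coset_conj P hu (k := 1) (l := 0) (by decide) (by decide) h11
    exact h6 (conj_of_cls' (by norm_num) (by norm_num) (hW 11 h11)
      ((conj_of_cls (by norm_num) hc'' (hU c' hc') hpiv).trans hconj.symm))

theorem eight_of_II (ht : F.typ = true) (h5 : IsConj F.s (F.emb 5)) :
    F.sq = false ∧ (∃ T : F.Tau 5, T.Stab 10) ∧
      ((IsConj (F.emb 6) (F.emb 96) ∨ IsConj (F.emb 6) (F.emb 112)) ∧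
        (IsConj (F.emb 7) (F.emb 96) ∨ IsConj (F.emb 7) (F.emb 112)) ∧
        (IsConj (F.emb 96) (F.emb 6) ∨ IsConj (F.emb 96) (F.emb 7)) ∧
        (IsConj (F.emb 112) (F.emb 6) ∨ IsConj (F.emb 112) (F.emb 7))) := by
  have hs := sq_false h5
  refine ⟨hs, ?_⟩
  have hok : Code.pivotOk F.typ F.sq 5 = true := pivot_five
  obtain ⟨T⟩ := exists_tau hok h5
  have hrep : Code.repsOk F.typ F.sq 5 (List.ofFn Code.repsII) = true := by
    rw [ht, hs]; exact Code.reps_II
  obtain ⟨P⟩ := exists_perm hok T Code.repsII (by decide) hrep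
  obtain ⟨m, hm, hu⟩ := unique_fixed P rfl h5
  have hcab : (([11, 96, 107].all fun r => (Code.coset F.typ F.sq 5 r).all fun c =>
        (Code.cent F.typ F.sq 5).any fun e => Code.mul F.typ F.sq e c == Code.mul F.typ F.sq c e &&
          !(Code.eight F.typ F.sq 5 c).contains e) &&
      (Code.cent F.typ F.sq 5).all fun e => Code.mul F.typ F.sq e 10 != Code.mul F.typ F.sq 10 e ||
        (Code.eight F.typ F.sq 5 10).contains e) = true := by
    rw [ht, hs]; exact Code.cabl_II
  simp only [Bool.and_eq_true, List.all_eq_true, List.any_eq_true, beq_iff_eq, Bool.not_eq_true',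
    Bool.or_eq_true, bne_iff_ne, List.contains_iff_mem] at hcab
  obtain ⟨hcab, hcab0⟩ := hcab
  have h5' : (5 : ℕ) < 192 := by norm_num
  -- `10` is the only coset without a centralising element outside
  have hm0 : m = 0 := by
    by_contra hne
    have hl : P.σ 0 ≠ 0 := fun h => hne (hu 0 h).symm
    obtain ⟨p', hp', e⟩ := P.maps 0 1 (Or.inl rfl)
    rw [mul_one] at e
    obtain ⟨c, hc, hc', hce⟩ := exists_coset (F := F) (q := 5) h5' (P.lt (P.σ 0)) hp'
    rw [← hce] at e
    have hr : Code.repsII (P.σ 0) ∈ [11, 96, 107] := by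
      generalize P.σ 0 = l at hl
      fin_cases l
      · exact absurd rfl hl
      all_goals simp [Code.repsII]
    obtain ⟨w, hw, hwc, hwout⟩ := hcab _ hr c hc
    have hw' : w < 192 := List.mem_range.1 (List.mem_filter.1 hw).1
    -- move the witness back
    have hcab' : F.Cabl 5 (F.emb c) := by
      refine ⟨F.emb w, (inD_emb h5' hw').2 hw, (F.commute_iff hw' hc').2 hwc, fun h => ?_, fun p hp h => ?_⟩
      · have := (inFour_iff h5' hw').1 h
        simp [Code.eight, this] at hwout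
      · obtain ⟨c2, hc2, hc2', e2⟩ := exists_coset (F := F) (q := 5) h5' hc' hp
        rw [← e2] at h
        rw [← F.emb_inj w hw' c2 hc2' h] at hc2
        simp [Code.eight, hc2] at hwout
    have hback : T.c (T.c (F.emb c)) = F.emb 10 := by rw [← e]; exact T.c3 _
    obtain ⟨x, hxD, hxc, hxo, hxp⟩ := hback ▸ T.cabl (T.cabl hcab')
    obtain ⟨b, hb, hb', rfl⟩ := exists_cent h5' hxD
    rcases hcab0 b hb with h | h
    · exact h ((F.commute_iff hb' (by norm_num)).1 hxc)
    · rcases List.mem_append.1 h with h | h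
      · exact hxo ((inFour_iff h5' hb').2 h)
      · obtain ⟨-, p, hp, e'⟩ := coset_lt (F := F) (q := 5) h5' (by norm_num) h
        exact hxp p hp e'
  subst hm0
  refine ⟨⟨T, fun p hp => ?_⟩, ?_⟩
  · obtain ⟨p', hp', e⟩ := P.maps 0 p hp
    rw [hm] at e
    exact ⟨p', hp', e⟩
  · have hc := (show ((Code.coset F.typ F.sq 5 11).all (fun c => Code.cls F.typ F.sq 6 c || Code.cls F.typ F.sq 7 c) &&
      (Code.coset F.typ F.sq 5 11).contains 11 &&
      (Code.coset F.typ F.sq 5 11).any (fun c => Code.cls F.typ F.sq 6 c) &&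
      (Code.coset F.typ F.sq 5 11).any (fun c => Code.cls F.typ F.sq 7 c) &&
      (Code.coset F.typ F.sq 5 96).all (fun c => Code.cls F.typ F.sq 96 c || Code.cls F.typ F.sq 112 c) &&
      (Code.coset F.typ F.sq 5 96).any (fun c => Code.cls F.typ F.sq 96 c) &&
      (Code.coset F.typ F.sq 5 96).any (fun c => Code.cls F.typ F.sq 112 c)) = true by
        rw [ht, hs]; exact Code.coset_II)
    simp only [Bool.and_eq_true, List.all_eq_true, List.any_eq_true, Bool.or_eq_true] at hc
    obtain ⟨⟨⟨⟨⟨⟨hW, -⟩, ⟨a6, ha6, h6⟩⟩, ⟨a7, ha7, h7⟩⟩, hB⟩, ⟨b96, hb96, h96⟩⟩, ⟨b112, hb112, h112⟩⟩ := hc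
    have fwd : ∀ {r a}, r < 192 → a ∈ Code.coset F.typ F.sq 5 11 → Code.cls F.typ F.sq r a = true →
        IsConj (F.emb r) (F.emb 96) ∨ IsConj (F.emb r) (F.emb 112) := by
      intro r a hr ha hra
      obtain ⟨ha', c', hc', hc'', hconj⟩ := coset_conj P hu (k := 1) (l := 2) (by decide) (by decide) ha
      have h1 := (isConj_cls hr ha' hra).trans hconj
      rcases hB c' hc' with h | h
      · exact Or.inl (h1.trans (isConj_cls (by norm_num) hc'' h).symm)
      · exact Or.inr (h1.trans (isConj_cls (by norm_num) hc'' h).symm)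
    have bwd : ∀ {r a}, r < 192 → a ∈ Code.coset F.typ F.sq 5 96 → Code.cls F.typ F.sq r a = true →
        IsConj (F.emb r) (F.emb 6) ∨ IsConj (F.emb r) (F.emb 7) := by
      intro r a hr ha hra
      obtain ⟨ha', c', hc', hc'', hconj⟩ := coset_conj P hu (k := 2) (l := 1) (by decide) (by decide) ha
      have h1 := (isConj_cls hr ha' hra).trans hconj
      rcases hW c' hc' with h | h
      · exact Or.inl (h1.trans (isConj_cls (by norm_num) hc'' h).symm)
      · exact Or.inr (h1.trans (isConj_cls (by norm_num) hc'' h).symm)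
    exact ⟨fwd (by norm_num) ha6 h6, fwd (by norm_num) ha7 h7, bwd (by norm_num) hb96 h96,
      bwd (by norm_num) hb112 h112⟩

/-- The pattern for `5`, `6` once the first is conjugate to `s`. -/
theorem cases_two (ht : F.typ = true) (h5 : IsConj F.s (F.emb 5)) :
    F.CaseOne ∨ (∀ c ∈ Code.invols F.typ F.sq, IsConj F.s (F.emb c) → c ∈ Code.eight F.typ F.sq 5 10) ∧
        F.sq = false ∧ (∃ T : F.Tau 5, T.Stab 10) ∨
      ∃ F' : Frame G, F'.typ = true ∧ F'.sq = false ∧ F'.s = F.s ∧ IsConj F'.s (F'.emb 5) ∧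
        IsConj F'.s (F'.emb 6) ∧ ¬ IsConj F'.s (F'.emb 7) := by
  obtain ⟨hs, hT, r1, r2, r3, r4⟩ := eight_of_II ht h5
  have hcl : ((Code.invols F.typ F.sq).all fun c =>
      [16, 5, 6, 7, 96, 112].any fun r => Code.cls F.typ F.sq c r) = true := by
    rw [ht, hs]; exact Code.classes_II
  simp only [List.all_eq_true, List.any_eq_true, List.mem_cons, List.not_mem_nil, or_false] at hcl
  by_cases h6 : IsConj F.s (F.emb 6) <;> by_cases h7 : IsConj F.s (F.emb 7)
  · refine Or.inl ⟨ht, hs, fun c hc => ?_⟩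
    have hc' : c < 192 := List.mem_range.1 (List.mem_filter.1 hc).1
    obtain ⟨r, hr, hcr⟩ := hcl c hc
    rcases hr with rfl | rfl | rfl | rfl | rfl | rfl
    · exact (IsConj.refl F.s).trans (isConj_cls hc' (by norm_num) hcr).symm
    · exact conj_of_cls' hc' (by norm_num) hcr h5
    · exact conj_of_cls' hc' (by norm_num) hcr h6
    · exact conj_of_cls' hc' (by norm_num) hcr h7
    · exact conj_of_cls' hc' (by norm_num) hcr (r3.elim (fun h => h6.trans h.symm) fun h => h7.trans h.symm)
    · exact conj_of_cls' hc' (by norm_num) hcr (r4.elim (fun h => h6.trans h.symm) fun h => h7.trans h.symm)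
  · exact Or.inr (Or.inr ⟨F, ht, hs, rfl, h5, h6, h7⟩)
  · -- turn twice
    obtain ⟨v16, v5, -, v67, v75, v96, v112⟩ := Code.turn_values
    obtain ⟨F₁, t1, s1, e1, m1⟩ := F.exists_turn ht
    obtain ⟨F₂, t2, s2, e2, m2⟩ := F₁.exists_turn t1
    have hs1 : F₁.sq = false := s1.trans hs
    have hlt : ∀ a < 192, Code.turn false a < 192 := by
      have h := Code.turn_ok false
      simp only [List.all_eq_true, elems, List.mem_range, Bool.and_eq_true, decide_eq_true_eq] at h
      exact fun a ha => (h a ha).1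
    rw [hs] at m1
    rw [hs1] at m2
    have hE : ∀ {a b}, a < 192 → b < 192 → Code.cls true false (Code.turn false a) b = true →
        IsConj (F₁.emb a) (F.emb b) := by
      intro a b ha hb h
      rw [m1]
      exact isConj_cls (hlt a ha) hb (by rw [ht, hs]; exact h)
    have f5 : F₁.emb 5 = F.emb 6 := by rw [m1, v5]
    have f7 : IsConj F₁.s (F₁.emb 7) := by
      rw [e1]; exact h5.trans (hE (by norm_num) (by norm_num) v75).symm
    have f6 : IsConj F₁.s (F₁.emb 6) := by
      rw [e1]; exact h7.trans (hE (by norm_num) (by norm_num) v67).symm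
    refine Or.inr (Or.inr ⟨F₂, t2, s2.trans hs1, e2.trans e1, ?_, ?_, ?_⟩)
    · rw [e2, m2, v5]; exact f6
    · rw [e2, m2]
      exact f7.trans (isConj_cls (hlt 6 (by norm_num)) (by norm_num) (by rw [t1, hs1]; exact v67)).symm
    · rw [e2, m2, e1]
      intro h
      refine h6 ?_
      rw [← f5]
      exact h.trans (isConj_cls (hlt 7 (by norm_num)) (by norm_num) (by rw [t1, hs1]; exact v75))
  · refine Or.inr (Or.inl ⟨fun c hc hcs => ?_, hs, hT⟩)
    have h96 : ¬ IsConj F.s (F.emb 96) := fun h => r3.elim (fun e => h6 (h.trans e)) fun e => h7 (h.trans e)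
    have h112 : ¬ IsConj F.s (F.emb 112) := fun h => r4.elim (fun e => h6 (h.trans e)) fun e => h7 (h.trans e)
    have hc' : c < 192 := List.mem_range.1 (List.mem_filter.1 hc).1
    refine mem_eight_of_cls hs hc' ?_
    obtain ⟨r, hr, hcr⟩ := hcl c hc
    rcases hr with rfl | rfl | rfl | rfl | rfl | rfl
    · right
      simp only [Code.cls, List.any_eq_true, elems, List.mem_range, beq_iff_eq] at hcr
      obtain ⟨g, hg, hge⟩ := hcr
      refine F.emb_inj _ hc' _ (by norm_num) ?_
      have e := F.emb_conj hg hc'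
      rw [hge] at e
      calc F.emb c = (F.emb g)⁻¹ * F.emb 16 * F.emb g := by rw [e]; group
        _ = F.emb 16 := by
          rw [mul_assoc, show F.emb 16 = F.s from rfl, ← (F.commute_s g hg).eq, inv_mul_cancel_left]
    · exact Or.inl hcr
    · exact absurd (conj_of_cls hc' (by norm_num) hcr hcs) h6
    · exact absurd (conj_of_cls hc' (by norm_num) hcr hcs) h7
    · exact absurd (conj_of_cls hc' (by norm_num) hcr hcs) h96
    · exact absurd (conj_of_cls hc' (by norm_num) hcr hcs) h112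

/-- The frame of the pattern of `A₈` and `A₉`. -/
theorem exists_alt (ht : F.typ = true) (hs : F.sq = false) (h5 : IsConj F.s (F.emb 5))
    (h6 : IsConj F.s (F.emb 6)) (h7 : ¬ IsConj F.s (F.emb 7)) :
    ∃ F' : Frame G, F'.s = F.s ∧ F'.CaseAlt := by
  have key : ∀ F₀ : Frame G, F₀.typ = true → F₀.sq = false → IsConj F₀.s (F₀.emb 5) →
      IsConj F₀.s (F₀.emb 6) → ¬ IsConj F₀.s (F₀.emb 7) → IsConj F₀.s (F₀.emb 96) → F₀.CaseAlt := by
    intro F₀ ht hs h5 h6 h7 h96
    obtain ⟨-, hT, -, r2, -, -⟩ := eight_of_II ht h5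
    obtain ⟨v16, v5, v10, -⟩ := Code.turn_values
    obtain ⟨F₁, t1, -, e1, m1⟩ := F₀.exists_turn ht
    rw [hs] at m1
    have f5 : F₁.emb 5 = F₀.emb 6 := by rw [m1, v5]
    have f10 : F₁.emb 10 = F₀.emb 11 := by rw [m1, v10]
    obtain ⟨-, ⟨T, hTs⟩, -⟩ := eight_of_II t1 (by rw [e1, f5]; exact h6)
    refine ⟨ht, hs, h5, h6, h96, h7, r2.resolve_left fun h => h7 (h96.trans h.symm), hT,
      ⟨⟨T.τ, T.τ3, ?_, ?_, ?_⟩, ?_⟩⟩
    · rw [← f5, ← e1]; exact T.τs
    · rw [← f5, ← e1]; exact T.τqs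
    · rw [← f5, ← e1]; exact T.τq
    · intro p hp
      obtain ⟨p', hp', e⟩ := hTs p (by unfold InFour at hp ⊢; rw [f5, e1]; exact hp)
      refine ⟨p', by unfold InFour at hp' ⊢; rw [f5, e1] at hp'; exact hp', ?_⟩
      rw [f10] at e
      exact e
  obtain ⟨-, -, r1, -, -, -⟩ := eight_of_II ht h5
  rcases r1 with h | h
  · exact ⟨F, rfl, key F ht hs h5 h6 h7 (h6.trans h)⟩
  · obtain ⟨w5, w6, w7, w96, -⟩ := Code.flip_values
    obtain ⟨F₁, t1, s1, e1, m1⟩ := F.exists_flip ht
    rw [hs] at m1 s1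
    refine ⟨F₁, e1, key F₁ t1 s1 ?_ ?_ ?_ ?_⟩
    · rw [e1, m1, w5]; exact h5
    · rw [e1, m1, w6]; exact h6
    · rw [e1, m1, w7]; exact h7
    · rw [e1, m1]
      have hlt : Code.flip false 96 < 192 := by decide +kernel
      exact (h6.trans h).trans (isConj_cls hlt (by norm_num) (by rw [ht, hs]; exact w96)).symm

/-- The division into cases. -/
theorem exists_case (hnwc : ∃ c < 32, c ≠ 16 ∧ c ∈ Code.invols F.typ F.sq ∧ IsConj F.s (F.emb c)) :
    ∃ F' : Frame G, F'.s = F.s ∧ (F'.CaseU ∨ F'.CaseTwelve ∨ F'.CaseAlt ∨ F'.CaseOne) := by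
  obtain ⟨c, hc, hc16, hci, hconj⟩ := hnwc
  have hcl := Code.q_class F.typ F.sq
  simp only [List.all_eq_true, List.mem_range, Bool.or_eq_true, Bool.not_eq_true',
    List.contains_eq_mem, decide_eq_false_iff_not, beq_iff_eq, List.any_eq_true] at hcl
  obtain ⟨r, hr, hcr⟩ := (hcl c hc).resolve_left (fun h => h.elim (fun h => h hci) hc16)
  have hc' : c < 192 := by omega
  have hr' : r < 192 := by
    cases h : F.typ <;> simp [h] at hr <;> rcases hr with rfl | rfl | rfl <;> norm_num
  have hrs : IsConj F.s (F.emb r) := conj_of_cls hc' hr' hcr hconj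
  cases ht : F.typ with
  | false =>
    have h5 : IsConj F.s (F.emb 5) := by
      simp [ht] at hr
      rcases hr with rfl | rfl
      · exact hrs
      · exact absurd hrs (not_six ht)
    rcases cases_one ht h5 with h | h
    · exact ⟨F, rfl, Or.inl h⟩
    · exact ⟨F, rfl, Or.inr (Or.inl h)⟩
  | true =>
    have h5 : ∃ F₁ : Frame G, F₁.s = F.s ∧ F₁.typ = true ∧ IsConj F₁.s (F₁.emb 5) := by
      obtain ⟨v16, v5, -, v67, -⟩ := Code.turn_values
      simp [ht] at hr
      rcases hr with rfl | rfl | rfl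
      · exact ⟨F, rfl, ht, hrs⟩
      all_goals
        have hsq : ∀ sq, Code.cls true sq (Code.turn sq 5) 6 = true ∧
            Code.cls true sq (Code.turn sq (Code.turn sq 5)) 7 = true ∧ Code.turn sq 5 < 192 ∧
            Code.turn sq (Code.turn sq 5) < 192 := by decide +kernel
        obtain ⟨q6, q7, l1, l2⟩ := hsq F.sq
        obtain ⟨F₁, t1, s1, e1, m1⟩ := F.exists_turn ht
      · refine ⟨F₁, e1, t1, ?_⟩
        rw [e1, m1]
        exact hrs.trans (isConj_cls l1 (by norm_num) (by rw [ht]; exact q6)).symm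
      · obtain ⟨F₂, t2, -, e2, m2⟩ := F₁.exists_turn t1
        refine ⟨F₂, e2.trans e1, t2, ?_⟩
        rw [e2, e1, m2, s1, m1]
        exact hrs.trans (isConj_cls l2 (by norm_num) (by rw [ht]; exact q7)).symm
    obtain ⟨F₁, e1, t1, h5⟩ := h5
    rcases cases_two t1 h5 with h | ⟨h, hs, hT⟩ | ⟨F₂, t2, s2, e2, g5, g6, g7⟩
    · exact ⟨F₁, e1, Or.inr (Or.inr (Or.inr h))⟩
    · exact ⟨F₁, e1, Or.inl ⟨hs, hT, h⟩⟩
    · obtain ⟨F₃, e3, h⟩ := exists_alt t2 s2 g5 g6 g7
      exact ⟨F₃, e3.trans (e2.trans e1), Or.inr (Or.inr (Or.inl h))⟩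

end Frame

end Cfsg.Agent.Lib.Cent192x61
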