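import Cfsg.Agent.Lib.Cent192x61.FusionData
import Cfsg.Agent.Lib.Cent192x61.Reindex

/-!
# Computed facts for the case division
-/

set_option autoImplicit false

namespace Cfsg.Agent.Lib.Cent192x61

open Code

theorem Code.classes_I : ((invols false false).all fun c =>
    [16, 5, 6, 96].any fun r => cls false false c r) = true := by decide +kernel

theorem Code.classes_II : ((invols true false).all fun c =>
    [16, 5, 6, 7, 96, 112].any fun r => cls true false c r) = true := by decide +kernel

theorem Code.eight_closed : ∀ typ : Bool, (elems.all fun c =>
    !(cls typ false c 5 || c == 16) || (eight typ false 5 10).contains c) = true := by decide +kernel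

theorem Code.turn_values : turn false 16 = 16 ∧ turn false 5 = 6 ∧ turn false 10 = 11 ∧
    cls true false (turn false 6) 7 = true ∧ cls true false (turn false 7) 5 = true ∧
    cls true false (turn false 96) 96 = true ∧ cls true false (turn false 112) 112 = true := by
  decide +kernel

theorem Code.flip_values : flip false 5 = 5 ∧ flip false 6 = 6 ∧ flip false 7 = 7 ∧
    cls true false (flip false 96) 112 = true ∧ cls true false (flip false 112) 96 = true := by
  decide +kernel

theorem three_unique : ∀ σ : Fin 4 → Fin 4, (∀ k, σ (σ (σ k)) = k) →
    (∀ k, σ k = k) ∨ ∀ k l, σ k = k → σ l = l → k = l := by decide +kernel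

end Cfsg.Agent.Lib.Cent192x61
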