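import Mathlib

/-!
# Codes for the four groups `2^(1+4).S₃`

A number `c < 192` stands for `q ξ^i τ^j`, where `c = q + 32 i + 96 j`; a number `q < 32` stands for
the element `s^σ u v` of a central product of two quaternion groups, where `q = 16 σ + 4 x + y` and
`u`, `v` are the units number `x`, `y` of the two factors (`1, i, j, k`). The element `ξ` permutes
`i, j, k` cyclically in both factors. Conjugation by `τ` inverts `i` and maps `j` to `k⁻¹` in each
factor, and exchanges the factors when the parameter `typ` holds; `τ²` is `s` when `sq` holds.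
-/

set_option autoImplicit false

namespace Cfsg.Agent.Lib.Cent192x61.Code

/-- Multiplication of the codes below `32`, five bits an entry. -/
def qmTable : ℕ := 0x653216d7c654be75cf84443a54c74275b637df88072a90f64e36a6f3ee0c2622d2e6ca17aeb1fe14c1135c95d2f09f3f8d90e01b1e8556d1977d9d9ca30bdab45a9287b9ac18820398a4deb38ffbbca54c700653637dfc654b216d784443e75cf4275b2d2e688072eb1fe4e36aa90f60c2626f3eeca17ab1e8514c1177d9dd2f0935c9590e01f3f8d56d19398a49ca30ffbbc5a928bdab4188207b9acdeb384275be75cf00653a54c7c654b637df84443216d7ca17a6f3ee880722d2e64e36aeb1fe0c262a90f656d19f3f8d14c11b1e85d2f0977d9d90e0135c95deb387b9ac9ca30398a45a928ffbbc18820bdab4e75cfc654ba54c784443637df4275b216d7006536f3ee4e36a2d2e60c262eb1feca17aa90f688072f3f8dd2f09b1e8590e0177d9d56d1935c9514c117b9ac5a928398a418820ffbbcdeb38bdab49ca3084443a54c74275b637df00653216d7c654be75cf0c2622d2e6ca17aeb1fe88072a90f64e36a6f3ee90e01b1e8556d1977d9d14c1135c95d2f09f3f8d18820398a4deb38ffbbc9ca30bdab45a9287b9ac216d784443e75cf4275ba54c700653637dfc654ba90f60c2626f3eeca17a2d2e688072eb1fe4e36a35c9590e01f3f8d56d19b1e8514c1177d9dd2f09bdab4188207b9acdeb38398a49ca30ffbbc5a928c654b637df84443216d74275be75cf00653a54c74e36aeb1fe0c262a90f6ca17a6f3ee880722d2e6d2f0977d9d90e0135c9556d19f3f8d14c11b1e855a928ffbbc18820bdab4deb387b9ac9ca30398a4637df4275b216d700653e75cfc654ba54c784443eb1feca17aa90f6880726f3ee4e36a2d2e60c26277d9d56d1935c9514c11f3f8dd2f09b1e8590e01ffbbcdeb38bdab49ca307b9ac5a928398a418820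

/-- The actions of `ξ^i τ^j`, the two factors fixed. -/
def actTableI : ℕ := 0xadae4ceb68efbec08870298f44a9786b9fc8ca60ff7ccbd6c4de748184507b5dc394d45a5589c640d6f28f7facb5ea410c3052d3873dbc31cb494e20d6778b56f4f77fc9467052568314e4735ec10460aded4effdccef588ce5029cc46bdcc4ad4808c40ffbbcdeb38bdab49ca307b9ac5a928398a418820

/-- The actions of `ξ^i τ^j`, the two factors exchanged. -/
def actTableII : ℕ := 0xae7a1b6bc2befe3221902a5b1329d23adf3a6380fdf63ed721f5b426111079d736953171952e5300d7ac2dfee3cf6a143090538d25bcf34b4b1c7280d6778b56f4f77fc9467052568314e4735ec10460aded4effdccef588ce5029cc46bdcc4ad4808c40ffbbcdeb38bdab49ca307b9ac5a928398a418820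

/-- The product of two codes below `32`. -/
def qm (a b : ℕ) : ℕ := (qmTable >>> (5 * (32 * a + b))) % 32

/-- The inverse of a code below `32`. -/
def qi (a : ℕ) : ℕ := qm a (qm a a)

/-- The image of a code below `32` under `ξ^i τ^j`, where `k = i + 3 j`. -/
def act (typ : Bool) (k q : ℕ) : ℕ :=
  ((bif typ then actTableII else actTableI) >>> (5 * (32 * k + q))) % 32

/-- The image of a code below `32` under `ξ`. -/
def rot (q : ℕ) : ℕ := act false 1 q

/-- The part of `τ^j τ^l` in `⟨s⟩`. -/
def sqPart (sq : Bool) (j l : ℕ) : ℕ := bif sq then 16 * (j * l) else 0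

/-- The product. -/
def mul (typ sq : Bool) (a b : ℕ) : ℕ :=
  qm (qm (a % 32) (act typ ((a / 32) % 3 + 3 * (a / 96)) (b % 32))) (sqPart sq (a / 96) (b / 96)) +
    32 * (((a / 32) % 3 + (1 + a / 96) * ((b / 32) % 3)) % 3) + 96 * ((a / 96 + b / 96) % 2)

/-- The inverse. -/
def inv (typ sq : Bool) (a : ℕ) : ℕ :=
  mul typ sq
    (bif a / 96 == 0 then 32 * ((3 - (a / 32) % 3) % 3)
      else sqPart sq 1 1 + 32 * ((a / 32) % 3) + 96)
    (qi (a % 32))

/-- The conjugate. -/
def conj (typ sq : Bool) (g a : ℕ) : ℕ := mul typ sq (mul typ sq g a) (inv typ sq g)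

/-- All codes. -/
def elems : List ℕ := List.range 192

/-- The Sylow `2`-subgroup `Q⟨τ⟩`. -/
def syl : List ℕ := List.range 32 ++ (List.range 32).map (· + 96)

/-- The involutions. -/
def invols (typ sq : Bool) : List ℕ := elems.filter fun a => mul typ sq a a == 0 && a != 0

/-- The centraliser. -/
def cent (typ sq : Bool) (a : ℕ) : List ℕ := elems.filter fun g => mul typ sq g a == mul typ sq a g

theorem mem_range_iff {n a : ℕ} : a ∈ List.range n ↔ a < n := List.mem_range

theorem inv_spec : ∀ typ sq : Bool, elems.all (fun a => inv typ sq a < 192 &&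
    mul typ sq a (inv typ sq a) == 0 && mul typ sq (inv typ sq a) a == 0) = true := by
  decide +kernel

theorem mul_lt : ∀ typ sq : Bool, elems.all (fun a => elems.all fun b => mul typ sq a b < 192) = true := by
  decide +kernel

end Cfsg.Agent.Lib.Cent192x61.Code
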