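import Cfsg.Agent.Lib.Cent192x61.Cases

/-!
# The elementary group of order sixteen
-/

set_option autoImplicit false

namespace Cfsg.Agent.Lib.Cent192x61

open Code

/-- The elementary group of order sixteen in `syl`. -/
def Code.listE : List ℕ := [0, 5, 11, 14, 16, 21, 27, 30, 96, 101, 107, 110, 112, 117, 123, 126]

theorem Code.listE_ok : (isSub true false listE && decide listE.Nodup &&
    (listE.all fun a => syl.contains a && mul true false a a == 0) &&
    (listE.all fun a => syl.all fun g => listE.contains (conj true false g a)) &&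
    (syl.all fun g => listE.contains (mul true false g g)) &&
    (elems.all fun g => listE.contains g || listE.any fun a => mul true false g a != mul true false a g) &&
    (elems.all fun g => syl.contains g || listE.any fun a => !listE.contains (conj true false g a))) = true := by
  decide +kernel

theorem Code.listE_max : (syl.all fun x => listE.contains x || mul true false x x != 0 ||
    decide (((syl.filter fun y => mul true false y y == 0 &&
      mul true false x y == mul true false y x)).length < 16)) = true := by decide +kernel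

/-- Orbit and stabiliser for conjugation. -/
theorem card_eq_orbit_mul {G : Type*} [Group G] [Finite G] (H : Subgroup G) (s : G) :
    Nat.card H = Nat.card {x : G // ∃ h ∈ H, h * s * h⁻¹ = x} *
      Nat.card ↥(H ⊓ Subgroup.centralizer ({s} : Set G)) := by
  classical
  letI : MulAction H G := MulAction.compHom G (ConjAct.toConjAct.toMonoidHom.comp H.subtype)
  have hsmul : ∀ (h : H) (x : G), h • x = h * x * (h : G)⁻¹ := fun h x => ConjAct.smul_def _ _
  have e1 : Nat.card (MulAction.orbit H s) = Nat.card {x : G // ∃ h ∈ H, h * s * h⁻¹ = x} := by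
    refine Nat.card_congr (Equiv.subtypeEquivRight fun x => ?_)
    rw [MulAction.mem_orbit_iff]
    exact ⟨fun ⟨h, e⟩ => ⟨h, h.2, (hsmul h s).symm.trans e⟩,
      fun ⟨h, hh, e⟩ => ⟨⟨h, hh⟩, (hsmul _ s).trans e⟩⟩
  have e2 : Nat.card (MulAction.stabilizer H s) = Nat.card ↥(H ⊓ Subgroup.centralizer ({s} : Set G)) := by
    refine Nat.card_congr ⟨fun h => ⟨h.1.1, h.1.2, ?_⟩, fun h => ⟨⟨h.1, h.2.1⟩, ?_⟩,
      fun h => rfl, fun h => rfl⟩
    · exact Subgroup.mem_centralizer_singleton_iff.2 (mul_inv_eq_iff_eq_mul.1 ((hsmul _ s).symm.trans h.2))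
    · show (⟨h.1, h.2.1⟩ : H) • s = s
      rw [hsmul]
      exact mul_inv_eq_iff_eq_mul.2 (Subgroup.mem_centralizer_singleton_iff.1 h.2.2)
  rw [← e1, ← e2, ← Nat.card_prod,
    Nat.card_congr (MulAction.orbitProdStabilizerEquivGroup H s)]

variable {G : Type*} [Group G]

namespace Frame

variable (F : Frame G)

/-- The elementary group of order sixteen. -/
def E (ht : F.typ = true) (hs : F.sq = false) : Subgroup G :=
  F.subg Code.listE (by
    rw [ht, hs]
    have h := Code.listE_ok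
    simp only [Bool.and_eq_true] at h
    exact h.1.1.1.1.1.1)

variable {F} (ht : F.typ = true) (hs : F.sq = false)

include ht hs in
theorem m_eq : F.m = Code.mul true false := by
  funext a b
  show Code.mul F.typ F.sq a b = _
  rw [ht, hs]

theorem listE_lt {c : ℕ} (hc : c ∈ Code.listE) : c < 192 := by
  revert c; decide +kernel

theorem mem_E {x : G} : x ∈ F.E ht hs ↔ ∃ c ∈ Code.listE, F.emb c = x := Iff.rfl

theorem emb_mem_E {c : ℕ} (hc : c < 192) : F.emb c ∈ F.E ht hs ↔ c ∈ Code.listE := F.mem_subg _ hc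

theorem card_E : Nat.card (F.E ht hs) = 16 := F.card_subg _ (by decide)

include ht hs in
theorem listE_facts : (∀ a ∈ Code.listE, a ∈ Code.syl ∧ F.m a a = 0) ∧
    (∀ a ∈ Code.listE, ∀ g ∈ Code.syl, Code.conj F.typ F.sq g a ∈ Code.listE) ∧
    (∀ g ∈ Code.syl, F.m g g ∈ Code.listE) ∧
    (∀ g < 192, g ∈ Code.listE ∨ ∃ a ∈ Code.listE, F.m g a ≠ F.m a g) ∧
    (∀ g < 192, g ∈ Code.syl ∨ ∃ a ∈ Code.listE, Code.conj F.typ F.sq g a ∉ Code.listE) := by
  have h := Code.listE_ok
  simp only [Bool.and_eq_true, List.all_eq_true, List.any_eq_true, Bool.or_eq_true, beq_iff_eq,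
    bne_iff_ne, List.contains_iff_mem, Bool.not_eq_true', List.contains_eq_mem,
    decide_eq_false_iff_not, decide_eq_true_eq, elems, List.mem_range] at h
  obtain ⟨⟨⟨⟨⟨-, h3⟩, h4⟩, h5⟩, h6⟩, h7⟩ := h
  rw [m_eq ht hs, ht, hs]
  exact ⟨h3, h4, h5, h6, h7⟩

theorem E_le_S : F.E ht hs ≤ F.S := by
  rintro _ ⟨c, hc, rfl⟩
  exact ⟨c, ((listE_facts ht hs).1 c hc).1, rfl⟩

theorem E_sq {x : G} (hx : x ∈ F.E ht hs) : x * x = 1 := by
  obtain ⟨c, hc, rfl⟩ := hx
  rw [← F.emb_m (listE_lt hc) (listE_lt hc), ((listE_facts ht hs).1 c hc).2, F.emb_zero]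

theorem E_comm {x y : G} (hx : x ∈ F.E ht hs) (hy : y ∈ F.E ht hs) : Commute x y := by
  have e : ∀ {z}, z ∈ F.E ht hs → z⁻¹ = z := fun hz => inv_eq_of_mul_eq_one_right (E_sq ht hs hz)
  calc x * y = (x * y)⁻¹ := (e (mul_mem hx hy)).symm
    _ = y * x := by rw [mul_inv_rev, e hx, e hy]

theorem s_mem_E : F.s ∈ F.E ht hs := ⟨16, by decide, rfl⟩

theorem mem_E_of_commute {g : G} (h : ∀ x ∈ F.E ht hs, Commute g x) : g ∈ F.E ht hs := by
  obtain ⟨c, hc, rfl⟩ := F.exists_code (h _ (s_mem_E ht hs))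
  rcases (listE_facts ht hs).2.2.2.1 c hc with h' | ⟨a, ha, hne⟩
  · exact ⟨c, h', rfl⟩
  · exact absurd ((F.commute_iff hc (listE_lt ha)).1 (h _ ⟨a, ha, rfl⟩)) hne

theorem S_normalizes {g x : G} (hg : g ∈ F.S) (hx : x ∈ F.E ht hs) : g * x * g⁻¹ ∈ F.E ht hs := by
  obtain ⟨a, ha, rfl⟩ := hg
  obtain ⟨c, hc, rfl⟩ := hx
  have ha' := F.isSub_lt (Code.syl_isSub _ _) ha
  exact ⟨_, (listE_facts ht hs).2.1 c hc a ha, F.emb_conj ha' (listE_lt hc)⟩

theorem sq_mem_E {g : G} (hg : g ∈ F.S) : g * g ∈ F.E ht hs := by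
  obtain ⟨a, ha, rfl⟩ := hg
  have ha' := F.isSub_lt (Code.syl_isSub _ _) ha
  exact ⟨_, (listE_facts ht hs).2.2.1 a ha, F.emb_m ha' ha'⟩

theorem mem_S_of_normalizes {g : G} (hg : g ∈ F.L)
    (h : ∀ x ∈ F.E ht hs, g * x * g⁻¹ ∈ F.E ht hs) : g ∈ F.S := by
  obtain ⟨a, ha, rfl⟩ := F.exists_code (F.mem_L.1 hg)
  rcases (listE_facts ht hs).2.2.2.2 a ha with h' | ⟨c, hc, hne⟩
  · exact ⟨a, h', rfl⟩
  · refine absurd ((emb_mem_E ht hs (F.conj_lt ha (listE_lt hc))).1 ?_) hne
    rw [F.emb_conj ha (listE_lt hc)]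
    exact h _ ⟨c, hc, rfl⟩

variable [Finite G]

/-- `E` is the only elementary group of its order in `S`. -/
theorem eq_E {A : Subgroup G} (hA : A ≤ F.S) (hA2 : ∀ x ∈ A, x * x = 1) (hc : Nat.card A = 16) :
    A = F.E ht hs := by
  classical
  refine Subgroup.eq_of_le_of_card_ge (fun x hx => ?_) (by rw [hc, card_E])
  obtain ⟨a, ha, rfl⟩ := hA hx
  have ha' := F.isSub_lt (Code.syl_isSub _ _) ha
  by_contra hne
  have h := Code.listE_max
  simp only [List.all_eq_true, Bool.or_eq_true, List.contains_iff_mem, bne_iff_ne,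
    decide_eq_true_eq] at h
  rcases h a ha with (h | h) | h
  · exact hne ⟨a, h, rfl⟩
  · refine h ?_
    have := hA2 _ hx
    rw [← F.emb_m ha' ha', F.emb_eq_one (F.lt_m ha' ha'), m_eq ht hs] at this
    exact this
  · have hcode : ∀ y : A, ∃ c ∈ (Code.syl.filter fun y => Code.mul true false y y == 0 &&
        Code.mul true false a y == Code.mul true false y a), F.emb c = y := by
      intro y
      obtain ⟨c, hc', hce⟩ := hA y.2
      have hc'' := F.isSub_lt (Code.syl_isSub _ _) hc'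
      refine ⟨c, List.mem_filter.2 ⟨hc', ?_⟩, hce⟩
      have e1 := hA2 y y.2
      have hi : ∀ z ∈ A, z⁻¹ = z := fun z hz => inv_eq_of_mul_eq_one_right (hA2 z hz)
      have e2 : Commute (F.emb a) (y : G) :=
        calc F.emb a * (y : G) = (F.emb a * y)⁻¹ := (hi _ (mul_mem hx y.2)).symm
          _ = _ := by rw [mul_inv_rev, hi _ hx, hi _ y.2]
      rw [← hce, ← F.emb_m hc'' hc'', F.emb_eq_one (F.lt_m hc'' hc''), m_eq ht hs] at e1
      rw [← hce, F.commute_iff ha' hc'', m_eq ht hs] at e2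
      simp [e1, e2]
    choose f hf hfe using hcode
    have hinj : Function.Injective fun y : A =>
        (⟨f y, List.mem_toFinset.2 (hf y)⟩ : ↥(Code.syl.filter fun y => Code.mul true false y y == 0 &&
          Code.mul true false a y == Code.mul true false y a).toFinset) := fun y z e =>
      Subtype.ext (by rw [← hfe y, ← hfe z]; exact congrArg F.emb (congrArg Subtype.val e))
    have hle := Nat.card_le_card_of_injective _ hinj
    rw [hc, Nat.card_eq_finsetCard] at hle
    exact absurd (hle.trans (List.toFinset_card_le _)) (by omega)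

theorem map_conj_eq_E {g : G} (h : ∀ x ∈ F.E ht hs, g * x * g⁻¹ ∈ F.S) :
    (F.E ht hs).map (MulAut.conj g).toMonoidHom = F.E ht hs := by
  refine eq_E ht hs (by rintro _ ⟨x, hx, rfl⟩; exact h x hx) ?_ ?_
  · rintro _ ⟨x, hx, rfl⟩
    rw [← map_mul, E_sq ht hs hx, map_one]
  · rw [← Nat.card_congr (Subgroup.equivMapOfInjective _ (MulAut.conj g).toMonoidHom
      (MulAut.conj g).injective).toEquiv, card_E]

theorem S_le_normalizer : F.S ≤ Subgroup.normalizer ((F.E ht hs : Subgroup G) : Set G) := fun g hg =>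
  Subgroup.mem_normalizer_iff.2 fun x => ⟨S_normalizes ht hs hg, fun h => by
    have := S_normalizes ht hs (inv_mem hg) h
    simpa [mul_assoc] using this⟩

/-- `N(E)` controls the fusion in `E`. -/
theorem exists_normalizer_conj {a b : G} (ha : a ∈ F.E ht hs) (hb : b ∈ F.E ht hs) (h : IsConj a b) :
    ∃ n ∈ Subgroup.normalizer ((F.E ht hs : Subgroup G) : Set G), n * a * n⁻¹ = b := by
  haveI : Fact (Nat.Prime 2) := ⟨Nat.prime_two⟩
  obtain ⟨g, rfl⟩ := isConj_iff.1 h
  set E := F.E ht hs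
  set C := Subgroup.centralizer ({g * a * g⁻¹} : Set G) with hC
  have hEp : IsPGroup 2 E := F.isPGroup_S.to_le (E_le_S ht hs)
  have h1 : E ≤ C := fun x hx =>
    Subgroup.mem_centralizer_singleton_iff.2 (E_comm ht hs hx hb).eq
  obtain ⟨P, hP⟩ := (hEp.of_equiv (Subgroup.subgroupOfEquivOfLe h1).symm).exists_le_sylow
  have h2 : E.map (MulAut.conj g).toMonoidHom ≤ C := by
    rintro _ ⟨x, hx, rfl⟩
    exact Subgroup.mem_centralizer_singleton_iff.2 (((E_comm ht hs hx ha).map (MulAut.conj g)).eq)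
  obtain ⟨c, hc, hcP⟩ := Involutions.StronglyEmbedded.exists_conj_le_sylow P (hEp.map _) h2
  rw [Subgroup.map_map] at hcP
  have hPp : IsPGroup 2 ((P : Subgroup C).map C.subtype) := P.isPGroup'.map _
  obtain ⟨k, hk⟩ := F.exists_conj_le_S hPp
  have hEP : E ≤ (P : Subgroup C).map C.subtype := fun x hx => ⟨⟨x, h1 hx⟩, hP hx, rfl⟩
  have e1 := map_conj_eq_E ht hs (g := k) fun x hx => hk x (hEP hx)
  have e2 := map_conj_eq_E ht hs (g := k * (c * g)) fun x hx => by
    have hm : c * (g * x * g⁻¹) * c⁻¹ ∈ (P : Subgroup C).map C.subtype := hcP ⟨x, hx, rfl⟩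
    have := hk _ hm
    rw [show k * (c * g) * x * (k * (c * g))⁻¹ = k * (c * (g * x * g⁻¹) * c⁻¹) * k⁻¹ by group]
    exact this
  refine ⟨c * g, ?_, ?_⟩
  · rw [Subgroup.mem_normalizer_iff_map_conj_eq]
    refine Subgroup.map_injective (f := (MulAut.conj k).toMonoidHom) (MulAut.conj k).injective ?_
    refine Eq.trans ?_ e1.symm
    rw [Subgroup.map_map]
    refine Eq.trans (congrArg (fun f => E.map f) (MonoidHom.ext fun x => ?_)) e2
    simp [MulAut.conj_apply, mul_assoc]
  · calc c * g * a * (c * g)⁻¹ = c * (g * a * g⁻¹) * c⁻¹ := by group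
      _ = g * a * g⁻¹ := by rw [Subgroup.mem_centralizer_singleton_iff.1 hc, mul_inv_cancel_right]

/-- The order of `N(E)` from the number of conjugates of an element of it. -/
theorem card_normalizer_E {a : G} (ha : a ∈ F.E ht hs) :
    Nat.card ↥(Subgroup.normalizer ((F.E ht hs : Subgroup G) : Set G)) =
      Nat.card {x : G // x ∈ F.E ht hs ∧ IsConj a x} *
        Nat.card ↥(Subgroup.normalizer ((F.E ht hs : Subgroup G) : Set G) ⊓
          Subgroup.centralizer ({a} : Set G)) := by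
  rw [card_eq_orbit_mul _ a]
  congr 1
  refine Nat.card_congr (Equiv.subtypeEquivRight fun x => ⟨?_, fun ⟨hx, hc⟩ => exists_normalizer_conj ht hs ha hx hc⟩)
  rintro ⟨n, hn, rfl⟩
  exact ⟨(Subgroup.mem_normalizer_iff.1 hn a).1 ha, isConj_iff.2 ⟨n, rfl⟩⟩

theorem card_stab_s :
    Nat.card ↥(Subgroup.normalizer ((F.E ht hs : Subgroup G) : Set G) ⊓
      Subgroup.centralizer ({F.s} : Set G)) = 64 := by
  rw [← F.card_S]
  refine congrArg (fun H : Subgroup G => Nat.card H) (le_antisymm (fun g hg => ?_) ?_)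
  · exact mem_S_of_normalizes ht hs hg.2 fun x hx => (Subgroup.mem_normalizer_iff.1 hg.1 x).1 hx
  · exact le_inf (S_le_normalizer ht hs) F.S_le_L

/-- The number of elements of `E` with a property given on the codes. -/
theorem card_E_subtype (p : G → Prop) (l : List ℕ) (hl : ∀ c ∈ l, c ∈ Code.listE) (hn : l.Nodup)
    (h : ∀ c ∈ Code.listE, p (F.emb c) ↔ c ∈ l) :
    Nat.card {x : G // x ∈ F.E ht hs ∧ p x} = l.length := by
  have hb : Function.Bijective (fun i : Fin l.length => (⟨F.emb l[i], ⟨l[i], hl _ (List.getElem_mem i.2), rfl⟩,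
      (h _ (hl _ (List.getElem_mem i.2))).2 (List.getElem_mem i.2)⟩ : {x : G // x ∈ F.E ht hs ∧ p x})) := by
    refine ⟨fun i j hij => ?_, ?_⟩
    · exact Fin.ext ((List.Nodup.getElem_inj_iff hn).1 (F.emb_inj _ (listE_lt (hl _ (List.getElem_mem i.2))) _
        (listE_lt (hl _ (List.getElem_mem j.2))) (congrArg Subtype.val hij)))
    · rintro ⟨x, ⟨c, hc, rfl⟩, hp⟩
      obtain ⟨n, hn', rfl⟩ := List.getElem_of_mem ((h c hc).1 hp)
      exact ⟨⟨n, hn'⟩, rfl⟩
  rw [← Nat.card_eq_of_bijective _ hb, Nat.card_fin]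

end Frame

end Cfsg.Agent.Lib.Cent192x61
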