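import Cfsg.Agent.Lib.Cent192x61.Pivot

/-!
# Computed facts for the fusion
-/

set_option autoImplicit false

namespace Cfsg.Agent.Lib.Cent192x61

open Code

/-- The coset of the four-group of `q` at `r`. -/
def Code.coset (typ sq : Bool) (q r : ℕ) : List ℕ := (four typ sq q).map (mul typ sq r)

/-- Conjugacy inside the centraliser. -/
def Code.cls (typ sq : Bool) (a b : ℕ) : Bool := elems.any fun g => conj typ sq g a == b

/-- The elementary group of order eight over the four-group at `r`. -/
def Code.eight (typ sq : Bool) (q r : ℕ) : List ℕ := four typ sq q ++ coset typ sq q r

theorem Code.q_class : ∀ typ sq : Bool, ((List.range 32).all fun c => !(invols typ sq).contains c || c == 16 ||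
    (bif typ then [5, 6, 7] else [5, 6]).any fun r => cls typ sq c r) = true := by decide +kernel

theorem Code.pivot_ok : ∀ typ sq : Bool, (pivotOk typ sq 5 && pivotOk typ sq 6) = true := by
  decide +kernel

/-- The representatives used. -/
def Code.repsI : Fin 4 → ℕ := ![10, 11, 96, 97]
/-- The representatives used. -/
def Code.repsII : Fin 4 → ℕ := ![10, 11, 96, 107]
/-- The representatives used. -/
def Code.repsSix : Fin 2 → ℕ := ![9, 11]
/-- The representatives used. -/
def Code.repsSq : Fin 2 → ℕ := ![10, 11]

theorem Code.reps_six : ∀ sq : Bool, repsOk false sq 6 [9, 11] = true := by decide +kernel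
theorem Code.reps_sq : ∀ typ : Bool, repsOk typ true 5 [10, 11] = true := by decide +kernel
theorem Code.reps_I : repsOk false false 5 [10, 11, 96, 97] = true := by decide +kernel
theorem Code.reps_II : repsOk true false 5 [10, 11, 96, 107] = true := by decide +kernel

theorem Code.six_image : ∀ sq : Bool, ((cent false sq 6).all (fun g => conj false sq g 11 == 11 ||
      conj false sq g 11 == mul false sq 11 16) &&
    (cent false sq 6).any fun g => conj false sq g 11 == mul false sq 11 16) = true := by
  decide +kernel

theorem Code.coset_U : ∀ typ sq : Bool, ((coset typ sq 5 10).all fun c => cls typ sq 5 c) = true := by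
  decide +kernel

theorem Code.coset_W : ((coset false false 5 11).all fun c => cls false false 6 c) = true := by
  decide +kernel

theorem Code.coset_O : ∀ c ∈ [96, 97], ((coset false false 5 c).all fun d => cls false false 96 d) = true := by
  decide +kernel

theorem Code.coset_II : ((coset true false 5 11).all (fun c => cls true false 6 c || cls true false 7 c) &&
    (coset true false 5 11).contains 11 &&
    (coset true false 5 11).any (fun c => cls true false 6 c) &&
    (coset true false 5 11).any (fun c => cls true false 7 c) &&
    (coset true false 5 96).all (fun c => cls true false 96 c || cls true false 112 c) &&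
    (coset true false 5 96).any (fun c => cls true false 96 c) &&
    (coset true false 5 96).any (fun c => cls true false 112 c)) = true := by
  decide +kernel

theorem Code.cabl_II : (([11, 96, 107].all fun r => (coset true false 5 r).all fun c =>
      (cent true false 5).any fun e => mul true false e c == mul true false c e &&
        !(eight true false 5 c).contains e) &&
    (cent true false 5).all fun e => mul true false e 10 != mul true false 10 e ||
      (eight true false 5 10).contains e) = true := by
  decide +kernel

theorem three_cycle : ∀ σ : Fin 4 → Fin 4, (∀ k, σ (σ (σ k)) = k) →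
    (∃ m, σ m = m) ∧ ∀ m, (∀ k, σ k = k → k = m) → ∀ k l, k ≠ m → l ≠ m →
      k = l ∨ σ k = l ∨ σ (σ k) = l := by decide +kernel

theorem three_two : ∀ σ : Fin 2 → Fin 2, (∀ k, σ (σ (σ k)) = k) → ∀ k, σ k = k := by decide

end Cfsg.Agent.Lib.Cent192x61
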