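import Cfsg.Agent.Lib.Cent192x61.Code

/-!
# Generators realising the codes
-/

set_option autoImplicit false
set_option linter.unusedSimpArgs false

namespace Cfsg.Agent.Lib.Cent192x61

open Code

variable {G : Type*} [Group G]

/-- Two commuting quaternion groups `⟨a, a'⟩`, `⟨b, b'⟩` sharing `⟨s⟩`, cycled by `ξ`. -/
structure QGens (G : Type*) [Group G] where
  s : G
  ξ : G
  a : G
  b : G
  hs : orderOf s = 2
  sa : Commute s a
  sb : Commute s b
  sξ : Commute s ξ
  ξ3 : ξ ^ 3 = 1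
  aa : a * a = s
  bb : b * b = s
  quat_a : a * (ξ * a * ξ⁻¹) = ξ * (ξ * a * ξ⁻¹) * ξ⁻¹
  quat_b : b * (ξ * b * ξ⁻¹) = ξ * (ξ * b * ξ⁻¹) * ξ⁻¹
  comm₁ : Commute a b
  comm₂ : Commute a (ξ * b * ξ⁻¹)
  comm₃ : Commute (ξ * a * ξ⁻¹) b

/-- The image of a unit of a quaternion group under a map sending `i` to `p` and inverting `ξ`. -/
def Code.img (p x : ℕ) : ℕ :=
  match x with
  | 0 => 0
  | 1 => p
  | 2 => rot (rot p)
  | _ => rot p

/-- The extension of `i ↦ p`, `i' ↦ r`. -/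
def Code.ext (p r q : ℕ) : ℕ :=
  qm (qm (16 * (q / 16)) (img p (q / 4 % 4))) (img r (q % 4))

/-- The permutation of the units induced by `ξ`. -/
def Code.rot4 (x : ℕ) : ℕ :=
  match x with
  | 0 => 0
  | 1 => 2
  | 2 => 3
  | _ => 1

namespace QGens

theorem quat_rev {s u v w : G} (hu : u * u = s) (hv : v * v = s) (hw : w * w = s) (h : u * v = w)
    (hs : s * s = 1) (hsu : Commute s u) (hsv : Commute s v) : v * u = s * w := by
  have h1 : u * v * (u * v) = s := by rw [h, hw]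
  have h2 : u⁻¹ = s * u := inv_eq_of_mul_eq_one_right (by rw [← mul_assoc, ← hsu.eq, mul_assoc, hu, hs])
  have h3 : v⁻¹ = s * v := inv_eq_of_mul_eq_one_right (by rw [← mul_assoc, ← hsv.eq, mul_assoc, hv, hs])
  calc v * u = u⁻¹ * (u * v * (u * v)) * v⁻¹ := by group
    _ = s * u * s * (s * v) := by rw [h1, h2, h3]
    _ = s * u * v := by
      rw [mul_assoc (s * u) s, ← mul_assoc s s v, hs, one_mul]
    _ = s * w := by rw [mul_assoc, h]

variable (R : QGens G)

theorem ss : R.s * R.s = 1 := by rw [← pow_two, ← R.hs]; exact pow_orderOf_eq_one _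

/-- Conjugation by `ξ`. -/
def c : G ≃* G := MulAut.conj R.ξ

theorem c_apply (g : G) : R.c g = R.ξ * g * R.ξ⁻¹ := rfl

theorem c3 (g : G) : R.c (R.c (R.c g)) = g := by
  have h : R.ξ * R.ξ * R.ξ = 1 := by rw [← pow_three', R.ξ3]
  calc R.c (R.c (R.c g)) = R.ξ * R.ξ * R.ξ * g * (R.ξ * R.ξ * R.ξ)⁻¹ := by
        simp only [c_apply]; group
    _ = g := by rw [h]; group

theorem cs : R.c R.s = R.s := by rw [c_apply, ← R.sξ.eq, mul_inv_cancel_right]

/-- The units of the first factor. -/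
def ua (x : ℕ) : G :=
  match x with
  | 0 => 1
  | 1 => R.a
  | 2 => R.c R.a
  | _ => R.c (R.c R.a)

/-- The units of the second factor. -/
def ub (x : ℕ) : G :=
  match x with
  | 0 => 1
  | 1 => R.b
  | 2 => R.c R.b
  | _ => R.c (R.c R.b)

/-- The element with a given code below `32`. -/
def phi (q : ℕ) : G := R.s ^ (q / 16) * R.ua (q / 4 % 4) * R.ub (q % 4)

theorem s_comm_c {g : G} (h : Commute R.s g) : Commute R.s (R.c g) := by
  have := h.map R.c
  rwa [R.cs] at this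

theorem s_comm_ua (x : ℕ) : Commute R.s (R.ua x) := by
  unfold ua
  split
  · exact Commute.one_right _
  · exact R.sa
  · exact R.s_comm_c R.sa
  · exact R.s_comm_c (R.s_comm_c R.sa)

theorem s_comm_ub (x : ℕ) : Commute R.s (R.ub x) := by
  unfold ub
  split
  · exact Commute.one_right _
  · exact R.sb
  · exact R.s_comm_c R.sb
  · exact R.s_comm_c (R.s_comm_c R.sb)

theorem comm_units (x y : ℕ) : Commute (R.ua x) (R.ub y) := by
  have h00 : Commute R.a R.b := R.comm₁
  have h01 : Commute R.a (R.c R.b) := R.comm₂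
  have h10 : Commute (R.c R.a) R.b := R.comm₃
  have h11 : Commute (R.c R.a) (R.c R.b) := h00.map R.c
  have h12 : Commute (R.c R.a) (R.c (R.c R.b)) := h01.map R.c
  have h21 : Commute (R.c (R.c R.a)) (R.c R.b) := h10.map R.c
  have h22 : Commute (R.c (R.c R.a)) (R.c (R.c R.b)) := h11.map R.c
  have h20 : Commute (R.c (R.c R.a)) R.b := by
    have h := h12.map R.c
    rwa [R.c3] at h
  have h02 : Commute R.a (R.c (R.c R.b)) := by
    have h := h21.map R.c
    rwa [R.c3] at h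
  unfold ua ub
  split <;> split <;>
    first
      | exact Commute.one_left _
      | exact Commute.one_right _
      | assumption

theorem ua_table : ∀ x < 4, ∀ y < 4, R.ua x * R.ua y = R.s ^ (qm (4 * x) (4 * y) / 16) *
    R.ua (qm (4 * x) (4 * y) / 4 % 4) := by
  have s1 := R.sa
  have s2 := R.s_comm_c s1
  have s3 := R.s_comm_c s2
  have q1 : R.a * R.c R.a = R.c (R.c R.a) := R.quat_a
  have q2 : R.c R.a * R.c (R.c R.a) = R.a := by
    rw [← map_mul, q1, R.c3]
  have q3 : R.c (R.c R.a) * R.a = R.c R.a := by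
    have h := congrArg R.c q2
    rwa [map_mul, R.c3] at h
  have a2 : R.c R.a * R.c R.a = R.s := by rw [← map_mul, R.aa, R.cs]
  have a3 : R.c (R.c R.a) * R.c (R.c R.a) = R.s := by rw [← map_mul, a2, R.cs]
  have r1 := quat_rev R.aa a2 a3 q1 R.ss s1 s2
  have r2 := quat_rev a2 a3 R.aa q2 R.ss s2 s3
  have r3 := quat_rev a3 R.aa a2 q3 R.ss s3 s1
  intro x hx y hy
  interval_cases x <;> interval_cases y <;>
    simp [ua, qm, qmTable, R.aa, a2, a3, q1, q2, q3, r1, r2, r3]

theorem ub_table : ∀ x < 4, ∀ y < 4, R.ub x * R.ub y = R.s ^ (qm x y / 16) *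
    R.ub (qm x y % 4) := by
  have s1 := R.sb
  have s2 := R.s_comm_c s1
  have s3 := R.s_comm_c s2
  have q1 : R.b * R.c R.b = R.c (R.c R.b) := R.quat_b
  have q2 : R.c R.b * R.c (R.c R.b) = R.b := by
    rw [← map_mul, q1, R.c3]
  have q3 : R.c (R.c R.b) * R.b = R.c R.b := by
    have h := congrArg R.c q2
    rwa [map_mul, R.c3] at h
  have a2 : R.c R.b * R.c R.b = R.s := by rw [← map_mul, R.bb, R.cs]
  have a3 : R.c (R.c R.b) * R.c (R.c R.b) = R.s := by rw [← map_mul, a2, R.cs]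
  have r1 := quat_rev R.bb a2 a3 q1 R.ss s1 s2
  have r2 := quat_rev a2 a3 R.bb q2 R.ss s2 s3
  have r3 := quat_rev a3 R.bb a2 q3 R.ss s3 s1
  intro x hx y hy
  interval_cases x <;> interval_cases y <;>
    simp [ub, qm, qmTable, R.bb, a2, a3, q1, q2, q3, r1, r2, r3]

theorem s_pow_mod (n : ℕ) : R.s ^ (n % 2) = R.s ^ n := by
  have h := pow_mod_orderOf R.s n
  rwa [R.hs] at h

theorem qm_split : (List.range 32).all (fun q => (List.range 32).all fun r =>
    qm q r / 16 == (q / 16 + r / 16 + qm (4 * (q / 4 % 4)) (4 * (r / 4 % 4)) / 16 +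
        qm (q % 4) (r % 4) / 16) % 2 &&
      qm q r / 4 % 4 == qm (4 * (q / 4 % 4)) (4 * (r / 4 % 4)) / 4 % 4 &&
      qm q r % 4 == qm (q % 4) (r % 4) % 4) = true := by
  decide +kernel

theorem phi_mul {q r : ℕ} (hq : q < 32) (hr : r < 32) : R.phi q * R.phi r = R.phi (qm q r) := by
  have h := qm_split
  simp only [List.all_eq_true, List.mem_range, Bool.and_eq_true, beq_iff_eq] at h
  obtain ⟨⟨h1, h2⟩, h3⟩ := h q hq r hr
  unfold phi
  rw [h1, h2, h3, R.s_pow_mod]
  set x := q / 4 % 4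
  set y := r / 4 % 4
  set z := q % 4
  set w := r % 4
  calc R.s ^ (q / 16) * R.ua x * R.ub z * (R.s ^ (r / 16) * R.ua y * R.ub w)
      = R.s ^ (q / 16) * R.s ^ (r / 16) * (R.ua x * R.ua y) * (R.ub z * R.ub w) := by
        have e1 : Commute (R.ua x * R.ub z) (R.s ^ (r / 16)) :=
          (((R.s_comm_ua x).mul_right (R.s_comm_ub z)).pow_left _).symm
        calc R.s ^ (q / 16) * R.ua x * R.ub z * (R.s ^ (r / 16) * R.ua y * R.ub w)
            = R.s ^ (q / 16) * ((R.ua x * R.ub z) * R.s ^ (r / 16)) * (R.ua y * R.ub w) := by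
              simp only [mul_assoc]
          _ = R.s ^ (q / 16) * R.s ^ (r / 16) * R.ua x * (R.ub z * R.ua y) * R.ub w := by
              rw [e1.eq]; simp only [mul_assoc]
          _ = _ := by rw [← (R.comm_units y z).eq]; simp only [mul_assoc]
    _ = _ := by
      rw [R.ua_table x (Nat.mod_lt _ (by norm_num)) y (Nat.mod_lt _ (by norm_num)),
        R.ub_table z (Nat.mod_lt _ (by norm_num)) w (Nat.mod_lt _ (by norm_num))]
      set e := qm (4 * x) (4 * y) / 16
      set f := qm z w / 16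
      set X := R.ua (qm (4 * x) (4 * y) / 4 % 4)
      have e2 : Commute X (R.s ^ f) := ((R.s_comm_ua _).pow_left f).symm
      calc R.s ^ (q / 16) * R.s ^ (r / 16) * (R.s ^ e * X) * (R.s ^ f * R.ub (qm z w % 4))
          = R.s ^ (q / 16) * R.s ^ (r / 16) * R.s ^ e * (X * R.s ^ f) * R.ub (qm z w % 4) := by
            simp only [mul_assoc]
        _ = _ := by rw [e2.eq]; simp only [pow_add, mul_assoc]

theorem phi_zero : R.phi 0 = 1 := by simp [phi, ua, ub]

theorem phi_s : R.phi 16 = R.s := by simp [phi, ua, ub]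

theorem phi_a : R.phi 4 = R.a := by simp [phi, ua, ub]

theorem phi_b : R.phi 1 = R.b := by simp [phi, ua, ub]

theorem rot_split : (List.range 32).all (fun q => rot q / 16 == q / 16 &&
    rot q / 4 % 4 == rot4 (q / 4 % 4) && rot q % 4 == rot4 (q % 4)) = true := by
  decide +kernel

theorem rot_lt (q : ℕ) : rot q < 32 := Nat.mod_lt _ (by norm_num)

theorem c_phi {q : ℕ} (hq : q < 32) : R.c (R.phi q) = R.phi (rot q) := by
  have h := rot_split
  simp only [List.all_eq_true, List.mem_range, Bool.and_eq_true, beq_iff_eq] at h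
  obtain ⟨⟨h1, h2⟩, h3⟩ := h q hq
  have hua : ∀ x < 4, R.c (R.ua x) = R.ua (rot4 x) := by
    intro x hx; interval_cases x <;> simp [ua, rot4, R.c3]
  have hub : ∀ x < 4, R.c (R.ub x) = R.ub (rot4 x) := by
    intro x hx; interval_cases x <;> simp [ub, rot4, R.c3]
  unfold phi
  rw [map_mul, map_mul, map_pow, R.cs, hua _ (Nat.mod_lt _ (by norm_num)),
    hub _ (Nat.mod_lt _ (by norm_num)), h1, h2, h3]

theorem ext_bound : (List.range 32).all (fun p => (List.range 4).all fun x => img p x < 32) = true := by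
  decide +kernel

/-- An automorphism centralising `s` and inverting `ξ` acts as the extension of its values at `a` and `b`. -/
theorem map_phi (T : G ≃* G) (hT : T R.s = R.s) (hξ : T R.ξ = R.ξ⁻¹) {p r : ℕ} (hp : p < 32)
    (hr : r < 32) (ha : T R.a = R.phi p) (hb : T R.b = R.phi r) {q : ℕ} (hq : q < 32) :
    T (R.phi q) = R.phi (Code.ext p r q) := by
  have hTc : ∀ g, T (R.c g) = R.c (R.c (T g)) := fun g => by
    have e2 : R.ξ⁻¹ = R.ξ * R.ξ :=
      inv_eq_of_mul_eq_one_right (by rw [← mul_assoc, ← pow_three', R.ξ3])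
    have e3 : R.ξ⁻¹ * T g * R.ξ⁻¹⁻¹ = R.ξ * R.ξ * T g * (R.ξ * R.ξ)⁻¹ := by rw [e2]
    rw [c_apply, map_mul, map_mul, map_inv, hξ, c_apply, c_apply, e3]
    group
  have hu : ∀ (u : G) (n : ℕ), n < 32 → T u = R.phi n →
      T (R.c u) = R.phi (rot (rot n)) ∧ T (R.c (R.c u)) = R.phi (rot n) := by
    intro u n hn h
    refine ⟨?_, ?_⟩
    · rw [hTc, h, R.c_phi hn, R.c_phi (rot_lt _)]
    · rw [hTc, hTc, h, ← R.c_phi hn, R.c3]
  have hua : ∀ x < 4, T (R.ua x) = R.phi (img p x) := by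
    intro x hx
    interval_cases x
    · simp [ua, img, R.phi_zero]
    · exact ha
    · exact (hu _ _ hp ha).1
    · exact (hu _ _ hp ha).2
  have hub : ∀ x < 4, T (R.ub x) = R.phi (img r x) := by
    intro x hx
    interval_cases x
    · simp [ub, img, R.phi_zero]
    · exact hb
    · exact (hu _ _ hr hb).1
    · exact (hu _ _ hr hb).2
  have hb' := ext_bound
  simp only [List.all_eq_true, List.mem_range, decide_eq_true_eq] at hb'
  have h16 : R.s ^ (q / 16) = R.phi (16 * (q / 16)) := by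
    have : q / 16 < 2 := by omega
    interval_cases h : q / 16 <;> simp [R.phi_zero, R.phi_s]
  have hlt : 16 * (q / 16) < 32 := by omega
  conv_lhs => unfold phi
  rw [map_mul, map_mul, map_pow, hT, h16, hua _ (Nat.mod_lt _ (by norm_num)),
    hub _ (Nat.mod_lt _ (by norm_num)), R.phi_mul hlt (hb' p hp _ (Nat.mod_lt _ (by norm_num))),
    R.phi_mul (q := qm (16 * (q / 16)) (img p (q / 4 % 4))) (Nat.mod_lt _ (by norm_num)) (hb' r hr _ (Nat.mod_lt _ (by norm_num)))]
  rfl

theorem q_noncentral : (List.range 32).all (fun q => q == 0 || q == 16 ||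
    (List.range 32).any fun r => qm q r == qm 16 (qm r q)) = true := by
  decide +kernel

theorem phi_eq_one {q : ℕ} (hq : q < 32) (h : R.phi q = 1) : q = 0 := by
  have hh := q_noncentral
  simp only [List.all_eq_true, List.any_eq_true, List.mem_range, Bool.or_eq_true, beq_iff_eq] at hh
  have hs1 : R.s ≠ 1 := fun e => by simpa [e] using R.hs
  rcases hh q hq with (h0 | h16) | ⟨r, hr, hqr⟩
  · exact h0
  · exact absurd (by rw [← R.phi_s, ← h16, h]) hs1
  · refine absurd ?_ hs1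
    have e := congrArg R.phi hqr
    rw [← R.phi_mul hq hr, ← R.phi_mul (q := 16) (r := qm r q) (by norm_num) (Nat.mod_lt _ (by norm_num)),
      ← R.phi_mul hr hq, h, R.phi_s, one_mul, mul_one] at e
    exact mul_eq_right.1 e.symm

theorem phi_inj {q r : ℕ} (hq : q < 32) (hr : r < 32) (h : R.phi q = R.phi r) : q = r := by
  have hi : ∀ a < 32, qi a < 32 ∧ qm a (qi a) = 0 := by
    have : (List.range 32).all (fun a => qi a < 32 && qm a (qi a) == 0) = true := by decide +kernel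
    simpa [List.all_eq_true] using this
  have h1 : R.phi (qm q (qi r)) = 1 := by
    rw [← R.phi_mul hq (hi r hr).1, h, R.phi_mul hr (hi r hr).1, (hi r hr).2, R.phi_zero]
  have h2 := R.phi_eq_one (Nat.mod_lt _ (by norm_num)) h1
  have : (List.range 32).all (fun a => (List.range 32).all fun b => qm a (qi b) != 0 || a == b) =
      true := by decide +kernel
  simp only [List.all_eq_true, List.mem_range, Bool.or_eq_true, beq_iff_eq, bne_iff_ne, ne_eq] at this
  exact (this q hq r hr).resolve_left (fun hh => hh h2)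

end QGens

/-- Generators of the whole centraliser, in normal form. -/
structure Gens (G : Type*) [Group G] extends QGens G where
  τ : G
  typ : Bool
  sq : Bool
  sτ : Commute s τ
  τξ : τ * ξ * τ⁻¹ = ξ⁻¹
  τ2 : τ * τ = s ^ (bif sq then 1 else 0)
  τa : τ * a * τ⁻¹ = bif typ then s * b else s * a
  τb : τ * b * τ⁻¹ = bif typ then s * a else s * b

namespace Gens

variable (R : Gens G)

theorem tgt : R.τ * R.a * R.τ⁻¹ = R.phi (bif R.typ then 17 else 20) ∧
    R.τ * R.b * R.τ⁻¹ = R.phi (bif R.typ then 20 else 17) := by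
  rw [R.τa, R.τb]
  cases R.typ <;> simp [QGens.phi, QGens.ua, QGens.ub]

theorem act_ext : ∀ typ : Bool, (List.range 32).all (fun q =>
    Code.ext (bif typ then 17 else 20) (bif typ then 20 else 17) q == act typ 3 q &&
      act typ 0 q == q && act typ 1 q == rot q && act typ 2 q == rot (rot q) &&
      act typ 4 q == rot (act typ 3 q) && act typ 5 q == rot (rot (act typ 3 q))) = true := by
  decide +kernel

theorem conj_phi (i : ℕ) (hi : i < 3) (j : ℕ) (hj : j < 2) {q : ℕ} (hq : q < 32) :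
    R.ξ ^ i * R.τ ^ j * R.phi q * (R.ξ ^ i * R.τ ^ j)⁻¹ = R.phi (act R.typ (i + 3 * j) q) := by
  have h := act_ext R.typ
  simp only [List.all_eq_true, List.mem_range, Bool.and_eq_true, beq_iff_eq] at h
  obtain ⟨⟨⟨⟨⟨e3, e0⟩, e1⟩, e2⟩, e4⟩, e5⟩ := h q hq
  have hT : R.τ * R.phi q * R.τ⁻¹ = R.phi (act R.typ 3 q) := by
    rw [← e3]
    refine R.map_phi (MulAut.conj R.τ) ?_ R.τξ ?_ ?_ R.tgt.1 R.tgt.2 hq
    · show R.τ * R.s * R.τ⁻¹ = R.s
      rw [← R.sτ.eq, mul_inv_cancel_right]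
    · cases R.typ <;> norm_num
    · cases R.typ <;> norm_num
  have hc : ∀ q < 32, R.ξ * R.phi q * R.ξ⁻¹ = R.phi (rot q) := fun q hq => R.c_phi hq
  have hcc : ∀ q < 32, R.ξ ^ 2 * R.phi q * (R.ξ ^ 2)⁻¹ = R.phi (rot (rot q)) := fun q hq => by
    rw [← hc _ (QGens.rot_lt q), ← hc q hq, pow_two]; group
  have h3 : act R.typ 3 q < 32 := Nat.mod_lt _ (by norm_num)
  interval_cases j <;> interval_cases i
  · simp [e0]
  · simp [e1, hc q hq]
  · simp [e2, hcc q hq]
  · simp [hT]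
  · rw [pow_one, pow_one, e4, ← hc _ h3, ← hT]; group
  · rw [pow_one, e5, ← hcc _ h3, ← hT]; group

theorem τ_pow_ξ (j : ℕ) (hj : j < 2) (k : ℕ) :
    R.τ ^ j * R.ξ ^ k = R.ξ ^ ((1 + j) * k) * R.τ ^ j := by
  interval_cases j
  · simp
  · have h : R.τ * R.ξ ^ k * R.τ⁻¹ = (R.ξ⁻¹) ^ k := by
      rw [← R.τξ, conj_pow]
    have e2 : R.ξ⁻¹ = R.ξ ^ 2 := inv_eq_of_mul_eq_one_right (by rw [← pow_succ']; exact R.ξ3)
    rw [e2, ← pow_mul] at h
    rw [pow_one, ← h]
    group

theorem τ_pow_pow (j : ℕ) (hj : j < 2) (l : ℕ) (hl : l < 2) :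
    R.τ ^ j * R.τ ^ l = R.phi (sqPart R.sq j l) * R.τ ^ ((j + l) % 2) := by
  interval_cases j <;> interval_cases l <;> simp [sqPart, QGens.phi_zero]
  rw [R.τ2]
  cases R.sq <;> simp [QGens.phi_zero, QGens.phi_s]

theorem ξ_phi_sq (i j l : ℕ) (hj : j < 2) (hl : l < 2) :
    Commute (R.ξ ^ i) (R.phi (sqPart R.sq j l)) := by
  have : sqPart R.sq j l = 0 ∨ sqPart R.sq j l = 16 := by
    interval_cases j <;> interval_cases l <;> cases R.sq <;> simp [sqPart]
  rcases this with h | h <;> rw [h]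
  · rw [R.phi_zero]; exact Commute.one_right _
  · rw [R.phi_s]; exact (R.sξ.symm).pow_left _

/-- The element with a given code. -/
def emb (c : ℕ) : G := R.phi (c % 32) * R.ξ ^ (c / 32 % 3) * R.τ ^ (c / 96)

theorem emb_code {p n m : ℕ} (hp : p < 32) (hn : n < 3) :
    R.emb (p + 32 * n + 96 * m) = R.phi p * R.ξ ^ n * R.τ ^ m := by
  unfold emb
  have e1 : (p + 32 * n + 96 * m) % 32 = p := by omega
  have e2 : (p + 32 * n + 96 * m) / 32 % 3 = n := by omega
  have e3 : (p + 32 * n + 96 * m) / 96 = m := by omega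
  rw [e1, e2, e3]

theorem sqPart_lt : ∀ sq : Bool, ∀ j < 2, ∀ l < 2, sqPart sq j l < 32 := by decide

theorem emb_mul {a b : ℕ} (ha : a < 192) (hb : b < 192) :
    R.emb a * R.emb b = R.emb (mul R.typ R.sq a b) := by
  set q := a % 32
  set i := a / 32 % 3
  set j := a / 96
  set r := b % 32
  set k := b / 32 % 3
  set l := b / 96
  have hq : q < 32 := Nat.mod_lt _ (by norm_num)
  have hr : r < 32 := Nat.mod_lt _ (by norm_num)
  have hi : i < 3 := Nat.mod_lt _ (by norm_num)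
  have hj : j < 2 := by omega
  have hl : l < 2 := by omega
  have hact : act R.typ (i + 3 * j) r < 32 := Nat.mod_lt _ (by norm_num)
  have hqm : ∀ x y, qm x y < 32 := fun x y => Nat.mod_lt _ (by norm_num)
  have hs := sqPart_lt R.sq j hj l hl
  show R.emb a * R.emb b = R.emb (qm (qm q (act R.typ (i + 3 * j) r)) (sqPart R.sq j l) +
    32 * ((i + (1 + j) * k) % 3) + 96 * ((j + l) % 2))
  rw [emb_code R (hqm _ _) (Nat.mod_lt _ (by norm_num)), ← R.phi_mul (hqm _ _) hs,
    ← R.phi_mul hq hact, ← R.conj_phi i hi j hj hr]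
  have hξ : R.ξ ^ ((i + (1 + j) * k) % 3) = R.ξ ^ (i + (1 + j) * k) := by
    rw [← pow_mod_orderOf, ← pow_mod_orderOf R.ξ (i + (1 + j) * k), Nat.mod_mod_of_dvd]
    exact orderOf_dvd_of_pow_eq_one R.ξ3
  rw [hξ]
  show R.phi q * R.ξ ^ i * R.τ ^ j * (R.phi r * R.ξ ^ k * R.τ ^ l) = _
  calc R.phi q * R.ξ ^ i * R.τ ^ j * (R.phi r * R.ξ ^ k * R.τ ^ l)
      = R.phi q * (R.ξ ^ i * R.τ ^ j * R.phi r * (R.ξ ^ i * R.τ ^ j)⁻¹) *
          (R.ξ ^ i * (R.τ ^ j * R.ξ ^ k) * R.τ ^ l) := by group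
    _ = R.phi q * (R.ξ ^ i * R.τ ^ j * R.phi r * (R.ξ ^ i * R.τ ^ j)⁻¹) *
          (R.ξ ^ (i + (1 + j) * k) * (R.τ ^ j * R.τ ^ l)) := by
        rw [R.τ_pow_ξ j hj k, pow_add]; simp only [mul_assoc]
    _ = R.phi q * (R.ξ ^ i * R.τ ^ j * R.phi r * (R.ξ ^ i * R.τ ^ j)⁻¹) *
          (R.ξ ^ (i + (1 + j) * k) * R.phi (sqPart R.sq j l) * R.τ ^ ((j + l) % 2)) := by
        rw [R.τ_pow_pow j hj l hl]; simp only [mul_assoc]
    _ = _ := by
        rw [(R.ξ_phi_sq _ j l hj hl).eq]; simp only [mul_assoc]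

end Gens

end Cfsg.Agent.Lib.Cent192x61
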