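import Cfsg.Agent.Lib.Cent192x61.Setup
import Cfsg.Agent.Lib.Cores.Basic

/-!
# The hypotheses give a frame
-/

set_option autoImplicit false

namespace Cfsg.Agent.Lib.Cent192x61.Setup

theorem perm_out : ∀ x y : Equiv.Perm (Fin 3), x ^ 3 = 1 → y ^ 2 = 1 → y ≠ 1 →
    y * x ≠ 1 ∧ y * x⁻¹ ≠ 1 := by decide

open scoped commutatorElement

variable {G : Type*} [Group G] [Finite G]

theorem exists_raw (s : G) (hs : orderOf s = 2) (L : Subgroup G)
    (hL : L = Subgroup.centralizer ({s} : Set G))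
    (Q : Subgroup G) (hQ : Q = (Cfsg.pCore 2 L).map L.subtype)
    (hQex : Cfsg.IsExtraspecial 2 Q) (hQcard : Nat.card Q = 32)
    (e : L ⧸ Cfsg.pCore 2 L ≃* Equiv.Perm (Fin 3))
    (X : Sylow 3 L) (hCQX : Q ⊓ Subgroup.centralizer
      (((X : Subgroup L).map L.subtype : Subgroup G) : Set G) = Subgroup.zpowers s) :
    ∃ R : Raw G, R.s = s ∧ R.Q = Q := by
  classical
  haveI : Fact (Nat.Prime 2) := ⟨Nat.prime_two⟩
  haveI : Fact (Nat.Prime 3) := ⟨Nat.prime_three⟩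
  set P := Cfsg.pCore 2 L with hP
  haveI hPn : P.Normal := LargeExtra.Basic.pCore_normal' L
  have hPQ : ∀ x : L, x ∈ P ↔ (x : G) ∈ Q := fun x => by
    rw [hQ]; constructor
    · exact fun h => ⟨x, h, rfl⟩
    · rintro ⟨y, hy, hyx⟩; rwa [← Subtype.ext (hyx : (y : G) = x)]
  have hQL : ∀ x, x ∈ Q → x ∈ L := by
    rw [hQ]; rintro x ⟨y, -, rfl⟩; exact y.2
  have hmemL : ∀ x, x ∈ L ↔ Commute s x := fun x => by
    rw [hL, Subgroup.mem_centralizer_singleton_iff]; exact eq_comm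
  have hsL : s ∈ L := (hmemL s).2 (Commute.refl s)
  have hcent : (⟨s, hsL⟩ : L) ∈ Subgroup.center L :=
    Subgroup.mem_center_iff.2 fun g => Subtype.ext ((hmemL g).1 g.2).symm.eq
  have hsQ : s ∈ Q := by
    refine (hPQ ⟨s, hsL⟩).1 ?_
    haveI hn : (Subgroup.zpowers (⟨s, hsL⟩ : L)).Normal :=
      ⟨fun x hx g => by
        have hxc : x ∈ Subgroup.center L := (Subgroup.zpowers_le.2 hcent) hx
        rw [Subgroup.mem_center_iff.1 hxc g, mul_inv_cancel_right]; exact hx⟩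
    refine Cores.le_pCore (IsPGroup.of_card (n := 1) ?_) (Subgroup.mem_zpowers _)
    rw [Nat.card_zpowers, pow_one, Subgroup.orderOf_mk, hs]
  have hcardP : Nat.card P = 32 := by
    rw [← hQcard, hQ]
    exact Nat.card_congr (Subgroup.equivMapOfInjective _ _ L.subtype_injective).toEquiv
  have hquot : Nat.card (L ⧸ P) = 6 := by
    rw [Nat.card_congr e.toEquiv, Nat.card_perm, Nat.card_fin]; rfl
  have hcardL : Nat.card L = 192 := by
    rw [Subgroup.card_eq_card_quotient_mul_card_subgroup P, hcardP, hquot]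
  -- the centre of `Q`
  have hcenter : ∀ z ∈ Q, (∀ q ∈ Q, Commute z q) → z = 1 ∨ z = s := by
    intro z hz hzc
    obtain ⟨w, hw, hwz⟩ := LargeExtra.Basic.exists_z hQex
    have hm : ∀ x ∈ Q, (∀ q ∈ Q, Commute x q) → x = 1 ∨ x = w := fun x hx hxc => by
      refine LargeExtra.Basic.eq_one_or_eq hw ?_
      rw [← hwz]; exact LargeExtra.Basic.mem_centerMap.2 ⟨hx, fun y hy => (hxc y hy).eq.symm⟩
    have hsw : s = w := (hm s hsQ fun q hq => (hmemL q).1 (hQL q hq)).resolve_left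
      (fun h => by simp [h] at hs)
    rcases hm z hz hzc with h | h
    · exact Or.inl h
    · exact Or.inr (h.trans hsw.symm)
  have hZ : ∀ x : Q, x ∈ Subgroup.center Q → (x : G) = 1 ∨ (x : G) = s := fun x hx =>
    hcenter x x.2 fun q hq => (congrArg Subtype.val (Subgroup.mem_center_iff.1 hx ⟨q, hq⟩)).symm
  -- the element of order three
  have hX3 : Nat.card (X : Subgroup L) = 3 := by
    obtain ⟨k, hk⟩ := X.isPGroup'.exists_card_eq
    have hci := Subgroup.card_mul_index (X : Subgroup L)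
    rw [hk, hcardL] at hci
    have hnd : ¬ 3 ∣ (X : Subgroup L).index := X.not_dvd_index
    rw [hk]
    rcases k with _ | _ | k
    · exfalso; apply hnd; simp at hci; omega
    · norm_num
    · exfalso
      have h9 : 3 ^ 2 ∣ 192 := Dvd.intro (3 ^ k * (X : Subgroup L).index) (by rw [← hci]; ring)
      norm_num at h9
  obtain ⟨⟨ξL, hξX⟩, hξne⟩ : ∃ x : (X : Subgroup L), x ≠ 1 := by
    haveI : Nontrivial (X : Subgroup L) := Finite.one_lt_card_iff_nontrivial.1 (by rw [hX3]; norm_num)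
    exact exists_ne 1
  have hξo : orderOf ξL = 3 := by
    have h := orderOf_dvd_natCard (⟨ξL, hξX⟩ : (X : Subgroup L))
    rw [hX3, Subgroup.orderOf_mk] at h
    exact ((Nat.dvd_prime Nat.prime_three).1 h).resolve_left
      (fun h1 => hξne (Subtype.ext (orderOf_eq_one_iff.1 h1)))
  have hξ3 : ξL ^ 3 = 1 := by rw [← hξo]; exact pow_orderOf_eq_one _
  have hXeq : (X : Subgroup L) = Subgroup.zpowers ξL :=
    (Subgroup.eq_of_le_of_card_ge (Subgroup.zpowers_le.2 hξX)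
      (by rw [hX3, Nat.card_zpowers, hξo])).symm
  have hξP : ξL ∉ P := fun h => by
    have h1 := orderOf_dvd_natCard (⟨ξL, h⟩ : P)
    rw [hcardP, Subgroup.orderOf_mk, hξo] at h1
    omega
  have hfix : ∀ q ∈ Q, (ξL : G) * q * (ξL : G)⁻¹ = q → q = 1 ∨ q = s := by
    intro q hq h
    refine LargeExtra.Basic.eq_one_or_eq hs ?_
    rw [← hCQX]
    refine ⟨hq, Subgroup.mem_centralizer_iff.2 ?_⟩
    rintro x ⟨y, hy, rfl⟩
    rw [SetLike.mem_coe, hXeq] at hy
    obtain ⟨n, rfl⟩ := Subgroup.mem_zpowers_iff.1 hy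
    show ((ξL ^ n : L) : G) * q = q * ((ξL ^ n : L) : G)
    rw [Subgroup.coe_zpow]
    exact (Commute.zpow_left (mul_inv_eq_iff_eq_mul.1 h) n).eq
  -- the element outside
  obtain ⟨g₀, hg₀⟩ := QuotientGroup.mk'_surjective P (e.symm (Equiv.swap 0 1))
  set y := e (QuotientGroup.mk' P g₀) with hy
  set x := e (QuotientGroup.mk' P ξL) with hx
  have hyv : y = Equiv.swap 0 1 := by rw [hy, hg₀, MulEquiv.apply_symm_apply]
  have hy2 : y ^ 2 = 1 := by rw [hyv]; decide
  have hy1 : y ≠ 1 := by rw [hyv]; decide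
  have hx3 : x ^ 3 = 1 := by rw [hx, ← map_pow, ← map_pow, hξ3, map_one, map_one]
  have hmem : ∀ g : L, g ∈ P ↔ e (QuotientGroup.mk' P g) = 1 := fun g => by
    rw [EmbeddingLike.map_eq_one_iff, QuotientGroup.mk'_apply, QuotientGroup.eq_one_iff]
  have hout : ∀ g : L, e (QuotientGroup.mk' P g) ≠ 1 → (g : G) ∉ Q := fun g h hg =>
    h ((hmem g).1 ((hPQ g).2 hg))
  refine ⟨{ s := s, ξ := ξL, Q := Q, g₀ := g₀, hs := hs, sQ := hsQ, cardQ := hQcard
            cardL := by rw [← hL]; exact hcardL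
            Qs := fun q hq => (hmemL q).1 (hQL q hq), center := hcenter
            squares := ?_, comms := ?_, sξ := (hmemL _).1 ξL.2, ξ3 := ?_
            ξQ := fun h => hξP ((hPQ ξL).2 h), ξnorm := ?_, fix := hfix
            g₀s := (hmemL _).1 g₀.2, g₀norm := ?_, g₀sq := ?_, g₀ξ := ?_, g₀out := ?_ }, rfl, rfl⟩
  · intro q hq
    have h : (⟨q, hq⟩ : Q) ^ 2 ∈ Subgroup.center Q := by
      rw [← hQex.1.2.1]; exact PGroups.pow_mem_frattini hQex.1.1 _
    simpa [pow_two] using hZ _ h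
  · intro q hq r hr
    have h : ⁅(⟨q, hq⟩ : Q), ⟨r, hr⟩⁆ ∈ Subgroup.center Q := by
      rw [← hQex.1.2.2]
      exact Subgroup.commutator_mem_commutator (Subgroup.mem_top _) (Subgroup.mem_top _)
    rcases hZ _ h with h' | h'
    · left
      have e1 : q * r * q⁻¹ * r⁻¹ = 1 := h'
      calc q * r = q * r * q⁻¹ * r⁻¹ * (r * q) := by group
        _ = r * q := by rw [e1, one_mul]
    · right
      have e1 : q * r * q⁻¹ * r⁻¹ = s := h'
      calc q * r = q * r * q⁻¹ * r⁻¹ * (r * q) := by group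
        _ = _ := by rw [e1]
  · rw [← Subgroup.coe_pow, hξ3]; rfl
  · exact fun q hq => (hPQ _).1 (hPn.conj_mem ⟨q, hQL q hq⟩ ((hPQ _).2 hq) ξL)
  · exact fun q hq => (hPQ _).1 (hPn.conj_mem ⟨q, hQL q hq⟩ ((hPQ _).2 hq) g₀)
  · refine (hPQ (g₀ * g₀)).1 ((hmem _).2 ?_)
    rw [map_mul, map_mul, ← hy, ← pow_two, hy2]
  · refine (hPQ (g₀ * ξL * g₀⁻¹ * ξL)).1 ((hmem _).2 ?_)
    simp only [map_mul, map_inv, ← hy, ← hx]
    rw [perm_three x y hx3 hy2 hy1, inv_mul_cancel]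
  · refine ⟨hout g₀ hy1, hout (g₀ * ξL⁻¹) ?_, hout (g₀ * ξL) ?_⟩
    · simp only [map_mul, map_inv, ← hy, ← hx]; exact (perm_out x y hx3 hy2 hy1).2
    · simp only [map_mul, ← hy, ← hx]; exact (perm_out x y hx3 hy2 hy1).1

end Cfsg.Agent.Lib.Cent192x61.Setup
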