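import Cfsg.Agent.Lib.Cent192x61.Elem

/-!
# All involutions cannot be conjugate
-/

set_option autoImplicit false

namespace Cfsg.Agent.Lib.Cent192x61

open Code

variable {G : Type*} [Group G] [Finite G]

namespace Frame

variable {F : Frame G}

theorem fixed_eq_s (ht : F.typ = true) (hs : F.sq = false) {n : G}
    (hn : n ∈ Subgroup.normalizer ((F.S : Subgroup G) : Set G)) : n * F.s * n⁻¹ = F.s := by
  have hmem := (Subgroup.mem_normalizer_iff.1 hn F.s).1 F.s_mem_S
  refine (F.center_S hmem fun x hx => ?_).resolve_left fun h =>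
    Involutions.Basic.invol_ne_one F.orderOf_s (conj_eq_one_iff.1 h)
  have hx' : n⁻¹ * x * n ∈ F.S := (Subgroup.mem_normalizer_iff.1 hn _).2 (by group; exact hx)
  have h := (F.mem_L.1 (F.S_le_L hx')).symm.map (MulAut.conj n)
  simpa [MulAut.conj_apply, mul_assoc] using h

theorem no_one_class (h : F.CaseOne) : False := by
  classical
  obtain ⟨ht, hs, hall⟩ := h
  haveI : Fact (Nat.Prime 2) := ⟨Nat.prime_two⟩
  haveI : Fact (Nat.Prime 5) := ⟨by norm_num⟩
  set E := F.E ht hs with hE
  set N := Subgroup.normalizer ((E : Subgroup G) : Set G) with hN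
  have hconjE : ∀ c ∈ Code.listE, c ≠ 0 → IsConj F.s (F.emb c) := fun c hc h0 => by
    refine hall c ((F.invol_iff (listE_lt hc)).1 (Involutions.Basic.invol_iff.2
      ⟨E_sq ht hs ⟨c, hc, rfl⟩, fun h => h0 ((F.emb_eq_one (listE_lt hc)).1 h)⟩))
  have hcardN : Nat.card N = 960 := by
    rw [hN, hE, card_normalizer_E ht hs (s_mem_E ht hs), card_stab_s ht hs,
      card_E_subtype ht hs (fun x => IsConj F.s x) Code.listE.tail (fun c hc => List.mem_of_mem_tail hc)
        (by decide) (fun c hc => ?_)]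
    · rfl
    · constructor
      · intro hcs
        have h0 : c ≠ 0 := by
          rintro rfl
          rw [F.emb_zero, isConj_one_left] at hcs
          exact Involutions.Basic.invol_ne_one F.orderOf_s hcs
        exact (by decide : ∀ c ∈ Code.listE, c ≠ 0 → c ∈ Code.listE.tail) c hc h0
      · intro hc'
        refine hconjE c hc ?_
        rintro rfl
        exact absurd hc' (by decide)
  have hSN : F.S ≤ N := S_le_normalizer ht hs
  -- the quotient of order `60`
  set EN : Subgroup N := E.subgroupOf N with hEN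
  haveI : EN.Normal := Subgroup.normal_in_normalizer
  set π := QuotientGroup.mk' EN with hπ
  have hmk : ∀ n : N, π n = 1 ↔ (n : G) ∈ E := fun n => by
    rw [hπ, QuotientGroup.mk'_apply, QuotientGroup.eq_one_iff]; rfl
  have hcardQ : Nat.card (N ⧸ EN) = 60 := by
    have h := Subgroup.card_eq_card_quotient_mul_card_subgroup EN
    rw [hcardN, Nat.card_congr (Subgroup.subgroupOfEquivOfLe (E_le_S ht hs |>.trans hSN)).toEquiv,
      card_E] at h
    omega
  set SN : Subgroup N := F.S.subgroupOf N with hSN'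
  set Pb : Subgroup (N ⧸ EN) := SN.map π with hPb
  have hcomap : Pb.comap π = SN := by
    rw [hPb, Subgroup.comap_map_eq, QuotientGroup.ker_mk', sup_eq_left]
    exact fun x hx => E_le_S ht hs hx
  have hPcard : Nat.card Pb = 4 := by
    have h := Subgroup.card_mul_index Pb
    have h2 := Subgroup.card_mul_index SN
    rw [← hcomap, Subgroup.index_comap_of_surjective _ (QuotientGroup.mk'_surjective _), hcomap,
      Nat.card_congr (Subgroup.subgroupOfEquivOfLe hSN).toEquiv, F.card_S, hcardN] at h2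
    rw [hcardQ] at h
    have : Pb.index = 15 := by omega
    rw [this] at h
    omega
  have hPsq : ∀ x ∈ Pb, x * x = 1 := by
    rintro _ ⟨g, hg, rfl⟩
    rw [← map_mul, hmk]
    exact sq_mem_E ht hs hg
  have hPcomm : ∀ x ∈ Pb, ∀ y ∈ Pb, Commute x y := fun x hx y hy => by
    have hi : ∀ u ∈ Pb, u⁻¹ = u := fun u hu => inv_eq_of_mul_eq_one_right (hPsq u hu)
    calc x * y = (x * y)⁻¹ := (hi _ (mul_mem hx hy)).symm
      _ = y * x := by rw [mul_inv_rev, hi x hx, hi y hy]
  let P : Sylow 2 (N ⧸ EN) := Sylow.ofCard Pb (by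
    rw [hPcard, hcardQ, show (60 : ℕ) = 2 ^ 2 * 15 by norm_num,
      Nat.factorization_mul (by norm_num) (by norm_num), Finsupp.add_apply,
      Nat.Prime.factorization_pow Nat.prime_two, Finsupp.single_eq_same,
      Nat.factorization_eq_zero_of_not_dvd (by norm_num : ¬ 2 ∣ 15)]
    norm_num)
  have hPcoe : (P : Subgroup (N ⧸ EN)) = Pb := rfl
  have hNP : Subgroup.normalizer ((P : Subgroup (N ⧸ EN)) : Set (N ⧸ EN)) ≤
      Subgroup.centralizer ((P : Subgroup (N ⧸ EN)) : Set (N ⧸ EN)) := by
    intro x hx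
    obtain ⟨n, rfl⟩ := QuotientGroup.mk'_surjective EN x
    have hnS : (n : G) ∈ Subgroup.normalizer ((F.S : Subgroup G) : Set G) := by
      refine Subgroup.mem_normalizer_iff.2 fun y => ?_
      have key : ∀ z : N, z ∈ SN ↔ n * z * n⁻¹ ∈ SN := fun z => by
        rw [← hcomap, Subgroup.mem_comap, Subgroup.mem_comap, map_mul, map_mul, map_inv]
        exact Subgroup.mem_normalizer_iff.1 hx (π z)
      constructor
      · intro hy; exact (key ⟨y, hSN hy⟩).1 hy
      · intro hy
        have hyN : y ∈ N := by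
          have := mul_mem (mul_mem (inv_mem n.2) (hSN hy)) n.2
          simpa [mul_assoc] using this
        exact (key ⟨y, hyN⟩).2 hy
    have hfix := fixed_eq_s ht hs hnS
    have hnS' : (n : G) ∈ F.S :=
      mem_S_of_normalizes ht hs (F.mem_L.2 (mul_inv_eq_iff_eq_mul.1 hfix))
        fun z hz => (Subgroup.mem_normalizer_iff.1 n.2 z).1 hz
    exact Subgroup.mem_centralizer_iff.2 fun y hy => hPcomm y hy _ ⟨n, hnS', rfl⟩
  obtain ⟨K, hKn, hK⟩ : ∃ K : Subgroup (N ⧸ EN), K.Normal ∧ K.IsComplement' (P : Subgroup (N ⧸ EN)) :=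
    ⟨(MonoidHom.transferSylow P hNP).ker, inferInstance,
      MonoidHom.ker_transferSylow_isComplement' P hNP⟩
  have hKcard : Nat.card K = 15 := by
    have h := hK.card_mul
    rw [hPcoe, hPcard, hcardQ] at h
    omega
  -- the Sylow `5`-subgroup is normal
  obtain ⟨R⟩ := (inferInstance : Nonempty (Sylow 5 K))
  have hR5 : Nat.card (R : Subgroup K) = 5 := by
    rw [Sylow.card_eq_multiplicity, hKcard, show (15 : ℕ) = 5 ^ 1 * 3 by norm_num,
      Nat.factorization_mul (by norm_num) (by norm_num), Finsupp.add_apply,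
      Nat.Prime.factorization_pow (by norm_num : Nat.Prime 5), Finsupp.single_eq_same,
      Nat.factorization_eq_zero_of_not_dvd (by norm_num : ¬ 5 ∣ 3)]
    norm_num
  have hRn : (R : Subgroup K).Normal := by
    have h1 := card_sylow_modEq_one 5 K
    have h2 := R.card_dvd_index
    have h3 := Subgroup.card_mul_index (R : Subgroup K)
    rw [hR5, hKcard] at h3
    rw [show (R : Subgroup K).index = 3 by omega] at h2
    have h4 : Nat.card (Sylow 5 K) = 1 := by
      rcases (Nat.dvd_prime Nat.prime_three).1 h2 with h | h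
      · exact h
      · rw [h] at h1; exact absurd h1 (by decide)
    haveI : Subsingleton (Sylow 5 K) := (Nat.card_eq_one_iff_unique.1 h4).1
    exact R.normal_of_subsingleton
  haveI := Sylow.characteristic_of_normal R hRn
  set R' := (R : Subgroup K).map K.subtype with hR'
  haveI : R'.Normal := ConjAct.normal_of_characteristic_of_normal
  have hR'5 : Nat.card R' = 5 := by
    rw [← Nat.card_congr (Subgroup.equivMapOfInjective _ _ K.subtype_injective).toEquiv, hR5]
  -- an element of `P` centralising it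
  let φ : Pb →* MulAut R' := (MulAut.conjNormal).comp Pb.subtype
  haveI hcyc : IsCyclic (MulAut R') := by
    haveI : IsCyclic R' := isCyclic_of_prime_card hR'5
    haveI : IsCyclic (ZMod (Nat.card R'))ˣ := by rw [hR'5]; infer_instance
    exact isCyclic_of_surjective (IsCyclic.mulAutMulEquiv R').symm.toMonoidHom
      (IsCyclic.mulAutMulEquiv R').symm.surjective
  obtain ⟨x, hx1, hxφ⟩ : ∃ x : Pb, x ≠ 1 ∧ φ x = 1 := by
    by_contra hno
    push Not at hno
    have hinj : Function.Injective φ := (injective_iff_map_eq_one φ).2 fun x hx => by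
      by_contra h; exact hno x h hx
    haveI := isCyclic_of_injective φ hinj
    obtain ⟨g, hg⟩ := IsCyclic.exists_ofOrder_eq_natCard (α := Pb)
    rw [hPcard] at hg
    have h2 : g ^ 2 = 1 := Subtype.ext (by rw [pow_two]; exact hPsq g g.2)
    have := orderOf_dvd_of_pow_eq_one h2
    rw [hg] at this
    norm_num at this
  obtain ⟨⟨r, hr⟩, hr1⟩ : ∃ r : R', r ≠ 1 := by
    haveI : Nontrivial R' := Finite.one_lt_card_iff_nontrivial.1 (by rw [hR'5]; norm_num)
    exact exists_ne 1
  have hr5 : r ^ 5 = 1 := by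
    have := pow_card_eq_one' (G := R') (x := ⟨r, hr⟩)
    rw [hR'5] at this
    exact congrArg Subtype.val this
  have hrx : (x : N ⧸ EN) * r * (x : N ⧸ EN)⁻¹ = r := by
    have h := congrArg Subtype.val (DFunLike.congr_fun hxφ ⟨r, hr⟩)
    simpa [φ] using h
  obtain ⟨g, hgS, hgx⟩ := x.2
  obtain ⟨n, hn⟩ := QuotientGroup.mk'_surjective EN r
  have hgE : (g : G) ∉ E := fun h => hx1 (Subtype.ext (by
    show (x : N ⧸ EN) = 1
    rw [← hgx]; exact (hmk g).2 h))
  have hcomm : ((g * n * g⁻¹ * n⁻¹ : N) : G) ∈ E := by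
    rw [← hmk, map_mul, map_mul, map_mul, map_inv, map_inv, hgx, show π n = r from hn, hrx, mul_inv_cancel]
  have hn5 : ((n ^ 5 : N) : G) ∈ E := by rw [← hmk, map_pow, show π n = r from hn, hr5]
  -- the fixed points of `g`
  let X := {y : G // y ∈ E ∧ y ≠ 1 ∧ Commute (g : G) y}
  have hmove : ∀ y : G, y ∈ E → Commute (g : G) y → Commute (g : G) (n * y * (n : G)⁻¹) := by
    intro y hy hc
    set e := (g : G) * n * (g : G)⁻¹ * (n : G)⁻¹ with he
    have hgn : (g : G) * n = e * n * g := by rw [he]; group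
    have hy' : (n : G) * y * (n : G)⁻¹ ∈ E := (Subgroup.mem_normalizer_iff.1 n.2 y).1 hy
    have hce : Commute e ((n : G) * y * (n : G)⁻¹) := E_comm ht hs hcomm hy'
    calc (g : G) * (n * y * (n : G)⁻¹) = ((g : G) * n) * y * (n : G)⁻¹ := by group
      _ = e * n * (g * y) * (n : G)⁻¹ := by rw [hgn]; group
      _ = e * (n * y * (n : G)⁻¹) * (n * g * (n : G)⁻¹) := by rw [hc.eq]; group
      _ = (n * y * (n : G)⁻¹) * (e * n * g) * (n : G)⁻¹ := by rw [hce.eq]; group
      _ = (n * y * (n : G)⁻¹) * g := by rw [← hgn]; group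
  let σ : X → X := fun y => ⟨n * y.1 * (n : G)⁻¹, (Subgroup.mem_normalizer_iff.1 n.2 y.1).1 y.2.1,
    fun h => y.2.2.1 (conj_eq_one_iff.1 h), hmove y.1 y.2.1 y.2.2.2⟩
  have hpow : ∀ (k : ℕ) (y : X), ((σ^[k] y : X) : G) = (n : G) ^ k * y * ((n : G) ^ k)⁻¹ := by
    intro k y
    induction k with
    | zero => simp
    | succ k ih =>
      rw [Function.iterate_succ_apply']
      show (n : G) * ((σ^[k] y : X) : G) * (n : G)⁻¹ = _
      rw [ih, pow_succ']; group
  have hσ5 : σ^[5] = id := funext fun y => Subtype.ext (by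
    rw [hpow]
    show (n : G) ^ 5 * (y : G) * ((n : G) ^ 5)⁻¹ = y
    rw [(E_comm ht hs (by rw [← Subgroup.coe_pow]; exact hn5) y.2.1).eq, mul_inv_cancel_right])
  have hfree : ∀ y : X, σ y ≠ y := by
    intro y hy
    have hyc : Commute (n : G) (y : G) := mul_inv_eq_iff_eq_mul.1 (congrArg Subtype.val hy)
    obtain ⟨c, hc, hce⟩ := y.2.1
    have hys : IsConj F.s (y : G) := hce ▸ hconjE c hc fun h => y.2.2.1 (by rw [← hce, h, F.emb_zero])
    obtain ⟨m, hm, hms⟩ := exists_normalizer_conj ht hs (s_mem_E ht hs) y.2.1 hys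
    have hmem : m⁻¹ * (n : G) * m ∈ F.S := by
      refine mem_S_of_normalizes ht hs (F.mem_L.2 ?_) fun z hz => ?_
      · have := hyc.map (MulAut.conj m⁻¹)
        rw [← hms] at this
        simpa [MulAut.conj_apply, mul_assoc] using this
      · exact (Subgroup.mem_normalizer_iff.1 (mul_mem (mul_mem (inv_mem hm) n.2) hm) z).1 hz
    have h64 : (m⁻¹ * (n : G) * m) ^ 64 = 1 := by
      have := pow_card_eq_one' (G := F.S) (x := ⟨_, hmem⟩)
      rw [F.card_S] at this
      exact congrArg Subtype.val this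
    have hn64 : (n : G) ^ 64 = 1 := by
      have e := conj_pow (i := 64) (a := m⁻¹) (b := (n : G))
      rw [inv_inv, h64] at e
      calc (n : G) ^ 64 = m * (m⁻¹ * (n : G) ^ 64 * m) * m⁻¹ := by group
        _ = 1 := by rw [← e, mul_one, mul_inv_cancel]
    have hr64 : r ^ 64 = 1 := by
      rw [← show π n = r from hn, ← map_pow, hmk, Subgroup.coe_pow, hn64]
      exact one_mem _
    refine hr1 (Subtype.ext ?_)
    show r = 1
    have hr65 : r ^ 65 = 1 := by rw [show 65 = 5 * 13 by norm_num, pow_mul, hr5, one_pow]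
    rwa [pow_succ, hr64, one_mul] at hr65
  have hdvd : 5 ∣ Nat.card X := by
    haveI := Fintype.ofFinite X
    let f : Function.End X := σ
    have hE5 : ∀ k : ℕ, (f ^ k : Function.End X) = σ^[k] := by
      intro k
      induction k with
      | zero => rfl
      | succ k ih => rw [pow_succ, Function.iterate_succ, ih]; rfl
    have h := Equiv.Perm.card_fixedPoints_modEq (α := X) (f := f) (p := 5) (n := 1)
      (by rw [pow_one]; exact (hE5 5).trans hσ5)
    haveI : IsEmpty ↥(Function.fixedPoints f) := ⟨fun y => hfree y.1 y.2⟩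
    have h0 : Fintype.card ↥(Function.fixedPoints f) = 0 := Fintype.card_eq_zero
    rw [h0] at h
    rw [Nat.card_eq_fintype_card]
    exact Nat.modEq_zero_iff_dvd.1 h
  -- the order of the fixed points
  let C : Subgroup G := E ⊓ Subgroup.centralizer ({(g : G)} : Set G)
  have hC : Nat.card C = Nat.card X + 1 := by
    haveI := Fintype.ofFinite G
    have e : Nat.card X = Nat.card {y : C // y ≠ 1} := Nat.card_congr
      ⟨fun y => ⟨⟨y.1, y.2.1, Subgroup.mem_centralizer_singleton_iff.2 y.2.2.2.eq.symm⟩,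
          fun h => y.2.2.1 (congrArg Subtype.val h)⟩,
        fun y => ⟨y.1.1, y.1.2.1, fun h => y.2 (Subtype.ext h),
          (Subgroup.mem_centralizer_singleton_iff.1 y.1.2.2).symm⟩, fun _ => rfl, fun _ => rfl⟩
    rw [e, Nat.card_eq_fintype_card, Nat.card_eq_fintype_card, Fintype.card_subtype_compl,
      Fintype.card_subtype_eq]
    have : 0 < Fintype.card C := Fintype.card_pos
    omega
  have hC16 : Nat.card C ∣ 16 := card_E ht hs ▸ Subgroup.card_dvd_of_le inf_le_left
  have hClt : Nat.card C ≠ 16 := by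
    intro h16
    have heq : C = E := Subgroup.eq_of_le_of_card_ge inf_le_left (by rw [h16, hE, card_E])
    refine hgE (mem_E_of_commute ht hs fun y hy => ?_)
    have : y ∈ C := heq ▸ hy
    exact (Subgroup.mem_centralizer_singleton_iff.1 this.2).symm
  have hsX : 1 ≤ Nat.card X := by
    haveI : Nonempty X := ⟨⟨F.s, s_mem_E ht hs, Involutions.Basic.invol_ne_one F.orderOf_s,
      F.mem_L.1 (F.S_le_L hgS)⟩⟩
    exact Nat.card_pos
  have hd : Nat.card C ∈ Nat.divisors 16 := Nat.mem_divisors.2 ⟨hC16, by norm_num⟩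
  rw [show Nat.divisors 16 = {1, 2, 4, 8, 16} by decide] at hd
  simp only [Finset.mem_insert, Finset.mem_singleton] at hd
  omega

end Frame

end Cfsg.Agent.Lib.Cent192x61
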