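import Cfsg.Agent.Lib.Cent192x61.Cases
import Cfsg.Agent.Lib.M12Cent22.Main
import Cfsg.Agent.Lib.RecogThree.M12.Unique
import Cfsg.Agent.Lib.PGroups.Omega

/-!
# The pattern of the Mathieu group `M₁₂`: simplicity and recognition
-/

set_option autoImplicit false
set_option maxRecDepth 100000
set_option Elab.async false

namespace Cfsg.Agent.Lib.Cent192x61

namespace Code

/-- The code of an element of the table of `M₁₂`. -/
def fromTwelveTable : ℕ := 0x4db226758c9fb1665e13256734028e5fa0374c9da31174b36401278d5c9c6536a25d4fb09e12772403354e768fa11f6a29bd4283803a41691cae50af1d81783bbc7b82281e5338430eac926b9352ad397a0f682b910d40bf0cbe7951902a96473cb86f1a192f6c4495ab6dba8408453ea9460b2d876e3d7e97b91b560a7fa82c5786552e18947daa85bb547c093f9970b733480516b45b638a304a318b1772b5326104b69859a64988221471155823a7608962a5079b5a219a20734b06a41000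

/-- The code of an element of the table of `M₁₂`. -/
def fromTwelve (i : ℕ) : ℕ := Nat.land (Nat.shiftRight fromTwelveTable (8 * i)) 255

/-- The index in the table of `M₁₂` of a code. -/
def toTwelveTable : ℕ := 0x68668e7f3654465e2f1c202aa8beb99c8486717656384f4110190c02ab9f92afba9baca20a07311b4761573a73756b6393b1a4bb23270e174b3e37538c7d828b424839347e6f65819994bca9052114305d4a55597490886db4b8a1a7280d1e0fb0b79ea329091a123f443d357a7264859d95bfad0425182d604e5158788d89693250495f808a7079aea096b32e1f24265a3c4c406c628f7ca5bdb59811160806917b8387455c5b3b222b1315b69aaa016e776a674d4333520b032c1d97b2a600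

/-- The index in the table of `M₁₂` of a code. -/
def toTwelve (i : ℕ) : ℕ := Nat.land (Nat.shiftRight toTwelveTable (8 * i)) 255

/-- The elements in the order in which they are generated. -/
def orderTable : ℕ := 0x1c0c190916066968ba79789f7d8c6d7f9c7cbf6cac03137ab999bb89ae9a0d3f1d77671a585a76b566a64996860e2c2ea4955b48a7083a59183872621f3d5d3e4d0b292b5f63b073b31e3c5c4c83931b393ba2b14e90173507276ead8d9d57476bb8ab26349e555646a936248e4415123002227b6aa888aa9852427ebdbe33218b5043536fbcaf23319b511097870f2d2fb7b44b9475b6a54a846492820a282ab2a15e8170a3a04f917137258f5414450432208a410140118574658061600500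

/-- The element number `k`. -/
def elemNo (k : ℕ) : ℕ := Nat.land (Nat.shiftRight orderTable (8 * k)) 255

/-- The steps of the generation. -/
def stepTable : ℕ := 0x2b902b1029b02930253024f022a02290227021e021d020a0207020201ff01ef01d501d301d201cf01cd01cb01c701c201bf01bd01bb01ba01ad01a8018f018e018b01870183017e0179016401630162015f015d015901550152014f014e014d01490147012a01290128012701260122011f011d011b01170112010f010d010b010a00ff00fe00fd00f800f700f600f300f100ee00eb00e900e600e100de00db00da00d900d600d500d400d300cf00ce00cb00c900c600c300c100be00b900b600b300b200b100ae00ad00ac00ab00a500a2009e009a009900980097009600930092008f008d008a00890087008500830082007d007a007700760075007200710070006f00690066006300620061005e005d005c005b005a00550052004f004e004d004a0049004800470046004200410040003f003d00390036003300320031002e002d002c002b002a00260025002400230021001e001d001c001b001900170016001200110010000f000d000b000a00070006000500030002000100000000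

/-- The step leading to element number `k`. -/
def stepNo (k : ℕ) : ℕ := Nat.land (Nat.shiftRight stepTable (16 * k)) 65535

/-- The generators. -/
def twelveGens : List ℕ := [5, 96, 97, 128]

/-- The generator used by a step. -/
def stepGen (k : ℕ) : ℕ := (twelveGens[stepNo k % 4]?).getD 0

theorem fromTwelve_ok : (elems.all fun i => Nat.blt (fromTwelve i) 192 && Nat.blt (toTwelve i) 192 &&
    Nat.beq (toTwelve (fromTwelve i)) i && Nat.beq (fromTwelve (toTwelve i)) i) = true := by
  decide +kernel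

theorem fromTwelve_mul : (elems.all fun i => elems.all fun j =>
    Nat.beq (fromTwelve (M12Cent22.T i j)) (mul false false (fromTwelve i) (fromTwelve j))) = true := by
  decide +kernel

theorem fromTwelve_one : fromTwelve 1 = 16 := by decide +kernel

theorem twelve_generate : (elems.all fun k => Nat.beq k 0 || Nat.blt (stepNo k / 4) k &&
      Nat.beq (elemNo k) (mul false false (elemNo (stepNo k / 4)) (stepGen k)) &&
      twelveGens.contains (stepGen k)) = true ∧ elemNo 0 = 0 ∧
    (elems.all fun c => elems.any fun k => Nat.beq (elemNo k) c) = true ∧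
    (elems.all fun k => Nat.blt (elemNo k) 192) = true := by
  decide +kernel

theorem twelve_gens : (twelveGens.all fun g => elems.any fun h =>
    conj false false h 5 == g || conj false false h 96 == g) = true ∧
    (mul false false 5 32 != mul false false 32 5) = true := by decide +kernel

/-- Every element outside the centre has a non-trivial commutator of two-power order with an
element below `32`. -/
theorem commutator_two : ∀ typ sq : Bool, (elems.all fun c => c == 0 || c == 16 ||
    (List.range 32).any fun u => mul typ sq (conj typ sq c u) (inv typ sq u) != 0 &&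
      powEight typ sq (mul typ sq (conj typ sq c u) (inv typ sq u)) == 0) = true := by
  decide +kernel

end Code

variable {G : Type*} [Group G] [Finite G]

namespace Frame

variable {F : Frame G}

omit [Finite G] in
theorem orderOf_dvd_eight {c : ℕ} (hc : c < 192) (h : Code.powEight F.typ F.sq c = 0) :
    (F.emb c) ^ 8 = 1 := by
  have h2 := F.lt_m hc hc
  have h4 := F.lt_m h2 h2
  calc (F.emb c) ^ 8 = (F.emb c * F.emb c * (F.emb c * F.emb c)) *
        (F.emb c * F.emb c * (F.emb c * F.emb c)) := by simp only [pow_succ, pow_zero, one_mul, mul_assoc]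
    _ = F.emb (F.m (F.m (F.m c c) (F.m c c)) (F.m (F.m c c) (F.m c c))) := by
      rw [F.emb_m h4 h4, F.emb_m h2 h2, F.emb_m hc hc]
    _ = 1 := by
      rw [← F.emb_zero]
      exact congrArg F.emb h

/-- A normal subgroup of odd order meets `C(s)` trivially. -/
theorem odd_normal_inf_L {N : Subgroup G} [hN : N.Normal] (hodd : Odd (Nat.card N)) {x : G}
    (hx : x ∈ N) (hxs : Commute x F.s) : x = 1 := by
  obtain ⟨c, hc, rfl⟩ := F.exists_code hxs
  have hsmall : ∀ {y : G}, y ∈ N → y ^ 8 = 1 → y = 1 := fun {y} hy h8 => by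
    have hdvd : orderOf y ∣ Nat.card N := by
      have := orderOf_dvd_natCard (⟨y, hy⟩ : N)
      rwa [Subgroup.orderOf_mk] at this
    have hcop : Nat.Coprime (Nat.card N) 8 := by
      rw [show (8 : ℕ) = 2 ^ 3 by norm_num]
      exact Nat.Coprime.pow_right 3 (Nat.coprime_two_right.2 hodd)
    exact orderOf_eq_one_iff.1 (Nat.eq_one_of_dvd_coprimes hcop hdvd (orderOf_dvd_of_pow_eq_one h8))
  have h := Code.commutator_two F.typ F.sq
  simp only [List.all_eq_true, List.any_eq_true, Bool.or_eq_true, Bool.and_eq_true, beq_iff_eq,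
    bne_iff_ne, Code.elems, List.mem_range] at h
  rcases h c hc with (rfl | rfl) | ⟨u, hu, hne, hpow⟩
  · exact F.emb_zero
  · exact hsmall hx (by rw [show F.emb 16 = F.s from rfl, show 8 = 2 * 4 from rfl, pow_mul,
      pow_two, Involutions.Basic.invol_mul_self F.orderOf_s, one_pow])
  · exfalso
    have hu' : u < 192 := by omega
    have hcu := F.conj_lt hc hu'
    set d := Code.mul F.typ F.sq (Code.conj F.typ F.sq c u) (Code.inv F.typ F.sq u) with hd
    have hd' : d < 192 := F.lt_m hcu (F.i_spec hu').1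
    refine hne ((F.emb_eq_one hd').1 (hsmall ?_ (orderOf_dvd_eight hd' hpow)))
    rw [hd, F.emb_m hcu (F.i_spec hu').1, F.emb_conj hc hu', F.emb_inv hu',
      show F.emb c * F.emb u * (F.emb c)⁻¹ * (F.emb u)⁻¹ =
        F.emb c * (F.emb u * (F.emb c)⁻¹ * (F.emb u)⁻¹) by group]
    exact mul_mem hx (hN.conj_mem _ (inv_mem hx) _)

/-- No normal subgroup of odd order when a conjugate four-group of `s` is present. -/
theorem odd_normal_eq_bot (h5 : IsConj F.s (F.emb 5)) (h5s : IsConj F.s (F.emb 5 * F.s))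
    {N : Subgroup G} [hN : N.Normal] (hodd : Odd (Nat.card N)) : N = ⊥ := by
  have hfix : ∀ {d : G}, IsConj F.s d → ∀ x ∈ N, Commute x d → x = 1 := by
    intro d hd x hx hxd
    obtain ⟨g, rfl⟩ := isConj_iff.1 hd
    have := odd_normal_inf_L (F := F) hodd (hN.conj_mem x hx g⁻¹) (by
      have := hxd.map (MulAut.conj g⁻¹)
      simpa [MulAut.conj_apply, mul_assoc] using this)
    exact conj_eq_one_iff.1 this
  have hinv : ∀ {d : G}, IsConj F.s d → ∀ x ∈ N, d * x * d⁻¹ = x⁻¹ := by
    intro d hd x hx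
    have hd2 : orderOf d = 2 := by
      obtain ⟨g, rfl⟩ := isConj_iff.1 hd
      rw [Involutions.Basic.orderOf_conj_eq, F.orderOf_s]
    have hdd := Involutions.Basic.invol_mul_self hd2
    let f : N → N := fun y => ⟨(y : G)⁻¹ * (d * y * d⁻¹), mul_mem (inv_mem y.2) (hN.conj_mem _ y.2 _)⟩
    have hinj : Function.Injective f := by
      intro a b hab
      have e : (a : G)⁻¹ * (d * a * d⁻¹) = (b : G)⁻¹ * (d * b * d⁻¹) := congrArg Subtype.val hab
      have hc : Commute ((b : G) * (a : G)⁻¹) d := by
        refine (mul_inv_eq_iff_eq_mul.1 ?_).symm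
        calc d * ((b : G) * (a : G)⁻¹) * d⁻¹ = (d * b * d⁻¹) * (d * a * d⁻¹)⁻¹ := by group
          _ = ((b : G) * ((b : G)⁻¹ * (d * b * d⁻¹))) * ((a : G) * ((a : G)⁻¹ * (d * a * d⁻¹)))⁻¹ := by
            group
          _ = (b : G) * (a : G)⁻¹ := by rw [e]; group
      exact Subtype.ext (mul_inv_eq_one.1 (hfix hd _ (mul_mem b.2 (inv_mem a.2)) hc)).symm
    obtain ⟨y, hy⟩ := (Finite.injective_iff_surjective.1 hinj) ⟨x, hx⟩
    have e : (y : G)⁻¹ * (d * y * d⁻¹) = x := congrArg Subtype.val hy
    rw [← e, Involutions.Basic.invol_inv hd2]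
    calc d * ((y : G)⁻¹ * (d * y * d)) * d = (d * (y : G)⁻¹ * d) * y * (d * d) := by group
      _ = ((y : G)⁻¹ * (d * y * d))⁻¹ := by
        rw [hdd, mul_one, mul_inv_rev, mul_inv_rev, mul_inv_rev, inv_inv, Involutions.Basic.invol_inv hd2]
        group
  rw [Subgroup.eq_bot_iff_forall]
  intro x hx
  refine hfix h5s x hx ?_
  refine (mul_inv_eq_iff_eq_mul.1 (?_ : F.emb 5 * F.s * x * (F.emb 5 * F.s)⁻¹ = x)).symm
  calc F.emb 5 * F.s * x * (F.emb 5 * F.s)⁻¹ = F.emb 5 * (F.s * x * F.s⁻¹) * (F.emb 5)⁻¹ := by group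
    _ = x := by rw [hinv (IsConj.refl _) x hx, hinv h5 _ (inv_mem hx), inv_inv]

/-- A normal subgroup of even order contains `s`. -/
theorem s_mem_of_even {N : Subgroup G} [hN : N.Normal] (hev : Even (Nat.card N)) : F.s ∈ N := by
  haveI : Fact (Nat.Prime 2) := ⟨Nat.prime_two⟩
  obtain ⟨⟨x, hx⟩, hxo⟩ := exists_prime_orderOf_dvd_card' (G := N) 2 (even_iff_two_dvd.1 hev)
  rw [Subgroup.orderOf_mk] at hxo
  obtain ⟨g, hg⟩ := F.exists_conj_le_S (R := Subgroup.zpowers x)
    (IsPGroup.of_card (n := 1) (by rw [Nat.card_zpowers, hxo, pow_one]))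
  have hxS := hg x (Subgroup.mem_zpowers x)
  have hne : N.subgroupOf F.S ≠ ⊥ := fun h => by
    have hm : (⟨g * x * g⁻¹, hxS⟩ : F.S) ∈ N.subgroupOf F.S := hN.conj_mem x hx g
    rw [h, Subgroup.mem_bot] at hm
    exact Involutions.Basic.invol_ne_one hxo (conj_eq_one_iff.1 (congrArg Subtype.val hm))
  have hne' := PGroups.normal_inf_center_ne_bot F.isPGroup_S (N.subgroupOf F.S) hne
  obtain ⟨⟨⟨z, hzS⟩, hzN, hzc⟩, hz1⟩ := (Subgroup.ne_bot_iff_exists_ne_one.1 hne')
  rcases F.center_S hzS fun y hy => (congrArg Subtype.val (Subgroup.mem_center_iff.1 hzc ⟨y, hy⟩)).symm with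
    h | h
  · exact absurd (Subtype.ext (Subtype.ext h)) hz1
  · exact h ▸ hzN

theorem twelve_L_le (h : F.CaseTwelve) {N : Subgroup G} [hN : N.Normal] (hs : F.s ∈ N) : F.L ≤ N := by
  obtain ⟨ht, hsq, h5, h96, -, -⟩ := h
  have hcj : ∀ {d : G}, IsConj F.s d → d ∈ N := fun hd => by
    obtain ⟨g, rfl⟩ := isConj_iff.1 hd
    exact hN.conj_mem _ hs g
  have hgen : ∀ g ∈ Code.twelveGens, g < 192 ∧ F.emb g ∈ N := by
    intro g hg
    have hlt : g < 192 := by revert g; decide
    refine ⟨hlt, ?_⟩
    have e := Code.twelve_gens.1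
    simp only [List.all_eq_true, List.any_eq_true, Bool.or_eq_true, beq_iff_eq, Code.elems,
      List.mem_range] at e
    obtain ⟨k, hk, hkg⟩ := e g hg
    rcases hkg with hkg | hkg
    · have e5 := F.emb_conj hk (show 5 < 192 by norm_num)
      rw [ht, hsq, hkg] at e5
      rw [e5]; exact hN.conj_mem _ (hcj h5) _
    · have e96 := F.emb_conj hk (show 96 < 192 by norm_num)
      rw [ht, hsq, hkg] at e96
      rw [e96]; exact hN.conj_mem _ (hcj h96) _
  obtain ⟨hstep, h0, hcov, hlt⟩ := Code.twelve_generate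
  simp only [List.all_eq_true, List.any_eq_true, Bool.or_eq_true, Bool.and_eq_true, Code.elems,
    List.mem_range, List.contains_iff_mem] at hstep hcov hlt
  have key : ∀ k, k < 192 → F.emb (Code.elemNo k) ∈ N := by
    intro k
    induction k using Nat.strong_induction_on with
    | _ k ih =>
      intro hk
      rcases hstep k hk with h' | ⟨⟨h1, h2⟩, h3⟩
      · rw [Nat.eq_of_beq_eq_true h', h0, F.emb_zero]; exact one_mem _
      · have h1' : Code.stepNo k / 4 < k := Nat.le_of_ble_eq_true h1
        have hp : Code.stepNo k / 4 < 192 := by omega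
        rw [Nat.eq_of_beq_eq_true h2]
        obtain ⟨hg1, hg2⟩ := hgen _ h3
        have e := F.emb_mul _ (Nat.le_of_ble_eq_true (hlt _ hp)) _ hg1
        rw [ht, hsq] at e
        rw [← e]
        exact mul_mem (ih _ h1' hp) hg2
  intro x hx
  obtain ⟨c, hc, rfl⟩ := F.exists_code (F.mem_L.1 hx)
  obtain ⟨k, hk, hke⟩ := hcov c hc
  rw [← Nat.eq_of_beq_eq_true hke]
  exact key k hk

theorem twelve_simple (h : F.CaseTwelve) : IsSimpleGroup G := by
  haveI : Fact (Nat.Prime 2) := ⟨Nat.prime_two⟩
  haveI : Nontrivial G := ⟨⟨F.s, 1, Involutions.Basic.invol_ne_one F.orderOf_s⟩⟩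
  refine ⟨fun N hN => ?_⟩
  obtain ⟨T, -⟩ := h.2.2.2.2.2
  have h5s : IsConj F.s (F.emb 5 * F.s) := isConj_iff.2 ⟨T.τ, T.τs⟩
  rcases Nat.even_or_odd (Nat.card N) with hev | hodd
  · right
    have hLN := twelve_L_le h (s_mem_of_even (F := F) hev)
    have hSN : F.S ≤ N := F.S_le_L.trans hLN
    let P : Sylow 2 N := F.sylow.subtype hSN
    have hF := Sylow.normalizer_sup_eq_top P
    have hmap : ((P : Subgroup N).map N.subtype) = F.S := by
      show (F.S.subgroupOf N).map N.subtype = F.S
      rw [Subgroup.subgroupOf_map_subtype, inf_eq_left.2 hSN]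
    rw [hmap] at hF
    rw [← hF, eq_comm, sup_eq_right]
    intro n hn
    refine hLN (F.mem_L.2 (mul_inv_eq_iff_eq_mul.1 ?_))
    refine ((F.center_S ((Subgroup.mem_normalizer_iff.1 hn F.s).1 F.s_mem_S)) fun x hx => ?_).resolve_left
      fun e => Involutions.Basic.invol_ne_one F.orderOf_s (conj_eq_one_iff.1 e)
    have hx' : n⁻¹ * x * n ∈ F.S := (Subgroup.mem_normalizer_iff.1 hn _).2 (by group; exact hx)
    have hc := (F.mem_L.1 (F.S_le_L hx')).symm.map (MulAut.conj n)
    simpa [MulAut.conj_apply, mul_assoc] using hc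
  · exact Or.inl (odd_normal_eq_bot h.2.2.1 h5s hodd)

/-- The table of `M₁₂` inside the group. -/
theorem exists_twelve_tab (h : F.CaseTwelve) : Nonempty (M12Cent22.Tab F.s) := by
  obtain ⟨ht, hsq, -⟩ := h
  have hok := Code.fromTwelve_ok
  simp only [List.all_eq_true, Bool.and_eq_true, Code.elems, List.mem_range] at hok
  have hlt : ∀ i < 192, Code.fromTwelve i < 192 := fun i hi => Nat.le_of_ble_eq_true (hok i hi).1.1.1
  refine ⟨⟨fun i => F.emb (Code.fromTwelve i), fun i j => ?_, fun i j e => ?_, fun x => ?_, ?_⟩⟩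
  · have e := Code.fromTwelve_mul
    simp only [List.all_eq_true, Code.elems, List.mem_range] at e
    show _ = F.emb (Code.fromTwelve (M12Cent22.T i j))
    rw [Nat.eq_of_beq_eq_true (e i i.2 j j.2), F.emb_mul _ (hlt i i.2) _ (hlt j j.2), ht, hsq]
  · have e' := F.emb_inj _ (hlt i i.2) _ (hlt j j.2) e
    refine Fin.ext ?_
    rw [← Nat.eq_of_beq_eq_true (hok i i.2).1.2, e', Nat.eq_of_beq_eq_true (hok j j.2).1.2]
  · rw [Subgroup.mem_centralizer_singleton_iff]
    constructor
    · intro hx
      obtain ⟨c, hc, rfl⟩ := F.exists_code hx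
      exact ⟨⟨Code.toTwelve c, Nat.le_of_ble_eq_true (hok c hc).1.1.2⟩,
        congrArg F.emb (Nat.eq_of_beq_eq_true (hok c hc).2)⟩
    · rintro ⟨i, rfl⟩
      exact (F.commute_s _ (hlt i i.2)).eq
  · show F.emb (Code.fromTwelve 1) = F.s
    rw [Code.fromTwelve_one]; rfl

/-- The pattern of `M₁₂` forces `M₁₂`. -/
theorem isoM12 (h : F.CaseTwelve) : Cfsg.Spor.IsoM12 G := by
  haveI := twelve_simple h
  obtain ⟨T⟩ := exists_twelve_tab h
  have hG : ¬ IsMulCommutative G := fun hc => by
    have e := hc.is_comm.comm (F.emb 5) (F.emb 32)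
    have := (F.commute_iff (by norm_num) (by norm_num)).1 e
    obtain ⟨ht, hsq, -⟩ := h
    have h2 := Code.twelve_gens.2
    simp only [bne_iff_ne] at h2
    exact h2 (by simpa [Frame.m, ht, hsq] using this)
  exact RecogThree.M12.Unique.equiv_M12 (T.card_eq hG)

end Frame

end Cfsg.Agent.Lib.Cent192x61
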