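import Cfsg.Agent.Lib.Cent192x61.Elem
import Cfsg.Agent.Lib.FischerLarge99.GLThree
import Cfsg.Agent.Lib.RankFive.GLThree
import Cfsg.Agent.Lib.Crit5.Top
import Cfsg.Agent.Lib.Crit59.Rows
import Cfsg.Agent.Lib.Crit8.Prod.KernelMain

/-!
# The conjugates of `s` in its centraliser form an elementary group of order eight
-/

set_option autoImplicit false

namespace Cfsg.Agent.Lib.Cent192x61

/-- The group of order eight. -/
def Code.listU (typ : Bool) : List ℕ := Code.eight typ false 5 10

theorem Code.listU_ok : ∀ typ : Bool, (isSub typ false (listU typ) && decide (listU typ).Nodup &&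
    decide ((listU typ).length = 8) &&
    ((listU typ).all fun a => syl.contains a && mul typ false a a == 0) &&
    ((listU typ).all fun a => elems.all fun g => (listU typ).contains (conj typ false g a)) &&
    ((listU typ).all fun a => a == 0 || a == 16 || elems.any fun g => conj typ false g 5 == a) &&
    (elems.all fun g => (listU typ).contains g ||
      (listU typ).any fun a => mul typ false g a != mul typ false a g) &&
    (syl.any fun w => !(listU typ).contains w && (invols typ false).contains w)) = true := by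
  decide +kernel

theorem Code.listU_lt : ∀ typ : Bool, ((listU typ).all fun a => decide (a < 192)) = true := by
  decide +kernel

variable {G : Type*} [Group G]

namespace Frame

variable (F : Frame G)

/-- The elementary group of order eight. -/
def U (hs : F.sq = false) : Subgroup G :=
  F.subg (Code.listU F.typ) (by
    rw [hs]
    have h := Code.listU_ok F.typ
    simp only [Bool.and_eq_true] at h
    exact h.1.1.1.1.1.1.1)

variable {F} (hs : F.sq = false)

theorem U_facts :
    ((Code.listU F.typ).Nodup ∧ (Code.listU F.typ).length = 8) ∧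
    (∀ a ∈ Code.listU F.typ, a < 192 ∧ a ∈ Code.syl ∧ Code.mul F.typ false a a = 0) ∧
    (∀ a ∈ Code.listU F.typ, ∀ g < 192, Code.conj F.typ false g a ∈ Code.listU F.typ) ∧
    (∀ a ∈ Code.listU F.typ, a = 0 ∨ a = 16 ∨ ∃ g < 192, Code.conj F.typ false g 5 = a) ∧
    (∀ g < 192, g ∈ Code.listU F.typ ∨ ∃ a ∈ Code.listU F.typ,
      Code.mul F.typ false g a ≠ Code.mul F.typ false a g) ∧
    ∃ w ∈ Code.syl, w ∉ Code.listU F.typ ∧ w ∈ Code.invols F.typ false := by
  have h := Code.listU_ok F.typ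
  have hlt := Code.listU_lt F.typ
  simp only [Bool.and_eq_true, List.all_eq_true, List.any_eq_true, Bool.or_eq_true, beq_iff_eq,
    bne_iff_ne, List.contains_iff_mem, Bool.not_eq_true', List.contains_eq_mem,
    decide_eq_false_iff_not, decide_eq_true_eq, Code.elems, List.mem_range] at h hlt
  obtain ⟨⟨⟨⟨⟨⟨⟨-, h1⟩, h2⟩, h3⟩, h4⟩, h5⟩, h6⟩, h7⟩ := h
  exact ⟨⟨h1, h2⟩, fun a ha => ⟨hlt a ha, h3 a ha⟩, h4, fun a ha => or_assoc.1 (h5 a ha), h6, h7⟩

theorem emb_mem_U {c : ℕ} (hc : c < 192) : F.emb c ∈ F.U hs ↔ c ∈ Code.listU F.typ := F.mem_subg _ hc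

theorem card_U : Nat.card (F.U hs) = 8 :=
  (F.card_subg _ (U_facts (F := F)).1.1).trans (U_facts (F := F)).1.2

theorem U_sq {x : G} (hx : x ∈ F.U hs) : x * x = 1 := by
  obtain ⟨c, hc, rfl⟩ := hx
  obtain ⟨hc', -, hcc⟩ := (U_facts (F := F)).2.1 c hc
  rw [F.emb_mul c hc' c hc', hs, hcc, F.emb_zero]

theorem U_inv {x : G} (hx : x ∈ F.U hs) : x⁻¹ = x := inv_eq_of_mul_eq_one_right (U_sq hs hx)

theorem U_comm {x y : G} (hx : x ∈ F.U hs) (hy : y ∈ F.U hs) : Commute x y :=
  calc x * y = (x * y)⁻¹ := (U_inv hs (mul_mem hx hy)).symm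
    _ = y * x := by rw [mul_inv_rev, U_inv hs hx, U_inv hs hy]

theorem U_le_S : F.U hs ≤ F.S := by
  rintro _ ⟨c, hc, rfl⟩
  exact ⟨c, ((U_facts (F := F)).2.1 c hc).2.1, rfl⟩

theorem s_mem_U : F.s ∈ F.U hs := ⟨16, by simp [Code.listU, Code.eight, Code.four], rfl⟩

theorem five_mem_U : F.emb 5 ∈ F.U hs := ⟨5, by simp [Code.listU, Code.eight, Code.four], rfl⟩

theorem centralizer_U : Subgroup.centralizer ((F.U hs : Subgroup G) : Set G) = F.U hs := by
  refine le_antisymm (fun g hg => ?_) fun x hx => Subgroup.mem_centralizer_iff.2 fun y hy => U_comm hs hy hx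
  obtain ⟨c, hc, rfl⟩ := F.exists_code (Subgroup.mem_centralizer_iff.1 hg _ (s_mem_U hs)).symm
  rcases (U_facts (F := F)).2.2.2.2.1 c hc with h | ⟨a, ha, hne⟩
  · exact ⟨c, h, rfl⟩
  · exfalso
    have ha' := ((U_facts (F := F)).2.1 a ha).1
    have e := (F.commute_iff hc ha').1
      (Subgroup.mem_centralizer_iff.1 hg _ ⟨a, ha, rfl⟩).symm
    simp only [Frame.m, hs] at e
    exact hne e

variable [Finite G]

theorem mem_normalizer_U {g : G} (h : ∀ x ∈ F.U hs, g * x * g⁻¹ ∈ F.U hs) :
    g ∈ Subgroup.normalizer ((F.U hs : Subgroup G) : Set G) := by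
  rw [Subgroup.mem_normalizer_iff_map_conj_eq]
  refine Subgroup.eq_of_le_of_card_ge (by rintro _ ⟨x, hx, rfl⟩; exact h x hx) ?_
  exact le_of_eq (Nat.card_congr (Subgroup.equivMapOfInjective _ (MulAut.conj g).toMonoidHom
    (MulAut.conj g).injective).toEquiv)

theorem L_le_normalizer_U : F.L ≤ Subgroup.normalizer ((F.U hs : Subgroup G) : Set G) := by
  intro g hg
  obtain ⟨a, ha, rfl⟩ := F.exists_code (F.mem_L.1 hg)
  refine mem_normalizer_U hs ?_
  rintro _ ⟨c, hc, rfl⟩
  have hc' := ((U_facts (F := F)).2.1 c hc).1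
  rw [← F.emb_conj ha hc', emb_mem_U hs (F.conj_lt ha hc'), hs]
  exact (U_facts (F := F)).2.2.1 c hc a ha

theorem tau_mem_normalizer_U {T : F.Tau 5} (hT : T.Stab 10) :
    T.τ ∈ Subgroup.normalizer ((F.U hs : Subgroup G) : Set G) := by
  have h10 : F.emb 10 ∈ F.U hs := by
    refine ⟨10, ?_, rfl⟩
    have h : ∀ typ : Bool, 10 ∈ Code.listU typ := by decide +kernel
    exact h F.typ
  have hfour : ∀ {p : G}, F.InFour 5 p → p ∈ F.U hs := fun hp => by
    rcases hp with rfl | rfl | rfl | rfl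
    · exact one_mem _
    · exact s_mem_U hs
    · exact five_mem_U hs
    · exact mul_mem (five_mem_U hs) (s_mem_U hs)
  refine mem_normalizer_U hs ?_
  rintro _ ⟨c, hc, rfl⟩
  have hc' : c ∈ Code.four F.typ F.sq 5 ∨ c ∈ Code.coset F.typ F.sq 5 10 := by
    rw [hs]; exact List.mem_append.1 hc
  have hlt := ((U_facts (F := F)).2.1 c hc).1
  rcases hc' with h | h
  · exact hfour (T.inFour ((inFour_iff (by norm_num) hlt).2 h))
  · obtain ⟨-, p, hp, e⟩ := coset_lt (by norm_num) (by norm_num) h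
    obtain ⟨p', hp', e'⟩ := hT p hp
    show T.c (F.emb c) ∈ F.U hs
    rw [e, e']
    exact mul_mem h10 (hfour hp')

theorem U_transitive {T : F.Tau 5} (hT : T.Stab 10) {u : G} (hu : u ∈ F.U hs) (h1 : u ≠ 1) :
    ∃ h ∈ Subgroup.normalizer ((F.U hs : Subgroup G) : Set G), h * F.s * h⁻¹ = u := by
  obtain ⟨c, hc, rfl⟩ := hu
  rcases (U_facts (F := F)).2.2.2.1 c hc with rfl | rfl | ⟨g, hg, rfl⟩
  · exact absurd F.emb_zero h1
  · exact ⟨1, one_mem _, by rw [one_mul, inv_one, mul_one]; rfl⟩
  · refine ⟨F.emb g * T.τ⁻¹, mul_mem (L_le_normalizer_U hs (F.emb_mem_L hg))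
      (inv_mem (tau_mem_normalizer_U hs hT)), ?_⟩
    have e := F.emb_conj hg (show 5 < 192 by norm_num)
    rw [hs] at e
    rw [e]
    have e5 : T.τ⁻¹ * F.s * T.τ = F.emb 5 := by rw [← T.τq]; group
    rw [← e5]; group

theorem card_normalizer_U {T : F.Tau 5} (hT : T.Stab 10) :
    Nat.card ↥(Subgroup.normalizer ((F.U hs : Subgroup G) : Set G)) = 1344 := by
  classical
  set H := Subgroup.normalizer ((F.U hs : Subgroup G) : Set G) with hH
  rw [card_eq_orbit_mul H F.s]
  have hstab : H ⊓ Subgroup.centralizer ({F.s} : Set G) = F.L := inf_eq_right.2 (L_le_normalizer_U hs)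
  rw [hstab, F.card_L]
  have horb : Nat.card {x : G // ∃ h ∈ H, h * F.s * h⁻¹ = x} = 7 := by
    haveI := Fintype.ofFinite G
    have e : Nat.card {x : G // ∃ h ∈ H, h * F.s * h⁻¹ = x} = Nat.card {y : F.U hs // y ≠ 1} := by
      refine Nat.card_congr ⟨fun x => ⟨⟨x.1, ?_⟩, ?_⟩, fun y => ⟨y.1, ?_⟩, fun _ => rfl, fun _ => rfl⟩
      · obtain ⟨h, hh, e⟩ := x.2
        rw [← e]; exact (Subgroup.mem_normalizer_iff.1 hh _).1 (s_mem_U hs)
      · intro e1
        obtain ⟨h, hh, e⟩ := x.2
        have : h * F.s * h⁻¹ = 1 := e.trans (congrArg Subtype.val e1)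
        exact Involutions.Basic.invol_ne_one F.orderOf_s (conj_eq_one_iff.1 this)
      · exact U_transitive hs hT y.1.2 fun h => y.2 (Subtype.ext h)
    rw [e, Nat.card_eq_fintype_card, Fintype.card_subtype_compl, Fintype.card_subtype_eq,
      ← Nat.card_eq_fintype_card, card_U hs]
  rw [horb]

/-- The group is `2³.L₃(2)`. -/
theorem uCase (h : F.CaseU) : ∃ (N : Subgroup G) (_ : N.Normal), IsMulCommutative N ∧
    (∀ n ∈ N, n ^ 2 = 1) ∧ Nat.card N = 8 ∧
    Nonempty (G ⧸ N ≃* Matrix.ProjectiveSpecialLinearGroup (Fin 3) (ZMod 2)) := by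
  classical
  haveI : Fact (Nat.Prime 2) := ⟨Nat.prime_two⟩
  obtain ⟨hs, ⟨T, hT⟩, hcls⟩ := h
  set U := F.U hs with hU
  set H := Subgroup.normalizer ((U : Subgroup G) : Set G) with hH
  haveI hsimple := FischerLarge99.simple_SL32
  obtain ⟨φ, hφ⟩ := FischerLarge99.exists_action U (fun x hx => U_sq hs hx) (card_U hs)
  have hker : ∀ l : H, φ l = 1 ↔ (l : G) ∈ U := fun l =>
    (hφ l).trans (SetLike.ext_iff.1 (centralizer_U hs) _)
  have hcardH : Nat.card H = 1344 := card_normalizer_U hs hT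
  have hkereq : φ.ker = U.subgroupOf H := Subgroup.ext fun l => hker l
  have hsurj : Function.Surjective φ := by
    have h1 := φ.ker.card_eq_card_quotient_mul_card_subgroup
    have hk : Nat.card φ.ker = 8 := by
      rw [hkereq, Nat.card_congr (Subgroup.subgroupOfEquivOfLe Subgroup.le_normalizer).toEquiv]
      exact card_U hs
    rw [hcardH, hk, Nat.card_congr (QuotientGroup.quotientKerEquivRange φ).toEquiv] at h1
    have h2 : Nat.card φ.range = Nat.card FischerLarge99.SL32 := by
      rw [FischerLarge99.card_SL32]; omega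
    exact MonoidHom.range_eq_top.1 (Subgroup.eq_top_of_card_eq _ h2)
  by_cases htop : H = ⊤
  · have hUn : U.Normal := Subgroup.normalizer_eq_top_iff.1 htop
    refine ⟨U, hUn, ⟨⟨fun a b => Subtype.ext (U_comm hs a.2 b.2).eq⟩⟩,
      fun n hn => by rw [pow_two]; exact U_sq hs hn, card_U hs, ?_⟩
    obtain ⟨e⟩ := RankFive.gl_three_psl
    let e2 : FischerLarge99.SL32 ≃* GL (Fin 3) (ZMod 2) :=
      MulEquiv.ofBijective Matrix.SpecialLinearGroup.toGL FischerLarge99.toGL_bijective
    let ψ : G →* FischerLarge99.SL32 :=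
      φ.comp ((MonoidHom.id G).codRestrict H fun x => by rw [htop]; trivial)
    have hψs : Function.Surjective ψ := fun y => by
      obtain ⟨l, hl⟩ := hsurj y
      exact ⟨l, hl⟩
    have hψk : ψ.ker = U := Subgroup.ext fun x => hker _
    exact ⟨((QuotientGroup.quotientMulEquivOfEq hψk.symm).trans
      (QuotientGroup.quotientKerEquivOfSurjective ψ hψs)).trans (e2.trans e)⟩
  · exfalso
    have hU1 : U ≠ ⊥ := fun h => by
      have := card_U hs
      rw [← hU, h, Subgroup.card_bot] at this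
      omega
    have hsc : Cfsg.IsStronglyClosed U ((F.sylow : Sylow 2 G) : Subgroup G) := by
      refine ⟨U_le_S hs, fun x hx g hg => ?_⟩
      by_cases hx1 : x = 1
      · rw [hx1, mul_one, mul_inv_cancel]; exact one_mem _
      obtain ⟨h, hh, rfl⟩ := U_transitive hs hT hx hx1
      obtain ⟨c, hc, hce⟩ := hg
      have hc' := F.isSub_lt (Code.syl_isSub _ _) hc
      have hconj : IsConj F.s (F.emb c) := by
        rw [hce]; exact isConj_iff.2 ⟨g * h, by group⟩
      have hco : orderOf (F.emb c) = 2 := by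
        obtain ⟨k, hk⟩ := isConj_iff.1 hconj
        rw [← hk, Involutions.Basic.orderOf_conj_eq, F.orderOf_s]
      have h8 := hcls c ((F.invol_iff hc').1 hco) hconj
      rw [← hce]
      refine (emb_mem_U hs hc').2 ?_
      unfold Code.listU; rw [← hs]; exact h8
    have hC : ∀ u ∈ U, u ≠ 1 → Subgroup.centralizer ({u} : Set G) ≤ H := by
      intro u hu hu1 g hg
      obtain ⟨h, hh, rfl⟩ := U_transitive hs hT hu hu1
      have hcomm : Commute (h⁻¹ * g * h) F.s := by
        have := (show Commute g (h * F.s * h⁻¹) from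
          Subgroup.mem_centralizer_singleton_iff.1 hg).map (MulAut.conj h⁻¹)
        simpa [MulAut.conj_apply, mul_assoc] using this
      have hmem := mul_mem (mul_mem hh (L_le_normalizer_U hs (F.mem_L.2 hcomm))) (inv_mem hh)
      rw [show h * (h⁻¹ * g * h) * h⁻¹ = g by group] at hmem
      exact hmem
    have homega : Cfsg.omegaOne 2 U = U := by
      refine le_antisymm ((Subgroup.closure_le _).2 fun x hx => hx.1) fun x hx =>
        Subgroup.subset_closure ⟨hx, by rw [pow_two]; exact U_sq hs hx⟩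
    obtain ⟨hSE, hprod, -⟩ := Crit59.Rows.r3289 Crit5.Top.propCore Crit8.propKernel F.sylow U hU1 hsc H htop
      hC (by rw [homega])
    set X := Subgroup.normalClosure (U : Set G) with hX
    haveI : X.Normal := Subgroup.normalClosure_normal
    have hUX : U ≤ X := Subgroup.subset_normalClosure
    set K := (H ⊓ X).subgroupOf X with hK
    have hmap : ((X.subgroupOf H).map φ).Normal :=
      Subgroup.Normal.map inferInstance φ hsurj
    rcases hsimple.eq_bot_or_eq_top_of_normal _ hmap with hb | ht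
    · -- the intersection is `U`
      have hHX : ∀ x, x ∈ H → x ∈ X → x ∈ U := by
        intro x hxH hxX
        refine (hker ⟨x, hxH⟩).1 (Subgroup.mem_bot.1 ?_)
        rw [← hb]
        exact ⟨⟨x, hxH⟩, hxX, rfl⟩
      obtain ⟨sX, hsX⟩ : ∃ sX : X, (sX : G) = F.s := ⟨⟨F.s, hUX (s_mem_U hs)⟩, rfl⟩
      obtain ⟨fX, hfX⟩ : ∃ fX : X, (fX : G) = F.emb 5 := ⟨⟨F.emb 5, hUX (five_mem_U hs)⟩, rfl⟩
      have hso : orderOf sX = 2 := by rw [← Subgroup.orderOf_coe, hsX, F.orderOf_s]
      have hfo : orderOf fX = 2 := by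
        rw [← Subgroup.orderOf_coe, hfX]
        refine (F.invol_iff (by norm_num)).2 ?_
        have : ∀ typ sq : Bool, 5 ∈ Code.invols typ sq := by decide +kernel
        exact this _ _
      obtain ⟨x, hx⟩ := isConj_iff.1 (Involutions.StronglyEmbedded.isConj_involutions hSE hso hfo)
      have hmemK : ∀ y : X, (y : G) ∈ U → y ∈ K := fun y hy =>
        ⟨(Subgroup.le_normalizer : U ≤ H) hy, y.2⟩
      have hxK := Involutions.StronglyEmbedded.mem_of_conj_mem hSE hso
        (hmemK sX (by rw [hsX]; exact s_mem_U hs)) (g := x)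
        (by rw [hx]; exact hmemK fX (by rw [hfX]; exact five_mem_U hs))
      have hxU : (x : G) ∈ U := hHX _ hxK.1 x.2
      have e : (x : G) * F.s * (x : G)⁻¹ = F.emb 5 := by
        rw [← hsX, ← hfX, ← hx]; rfl
      rw [(U_comm hs hxU (s_mem_U hs)).eq, mul_inv_cancel_right] at e
      exact absurd (F.emb_inj 16 (by norm_num) 5 (by norm_num) e) (by norm_num)
    · -- the intersection is `H`
      have hHX : H ≤ X := by
        intro x hx
        have hm : φ ⟨x, hx⟩ ∈ (X.subgroupOf H).map φ := by rw [ht]; trivial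
        obtain ⟨y, hy, hye⟩ := hm
        have hk : φ (y⁻¹ * ⟨x, hx⟩) = 1 := by rw [map_mul, map_inv, hye, inv_mul_cancel]
        have hyX : (y : G) ∈ X := hy
        have := mul_mem hyX (hUX ((hker _).1 hk))
        simpa using this
      have hSX : F.S ≤ X := (F.S_le_L.trans (L_le_normalizer_U hs)).trans hHX
      obtain ⟨w, hwS, hwU, hwi⟩ := (U_facts (F := F)).2.2.2.2.2
      have hw' := F.isSub_lt (Code.syl_isSub _ _) hwS
      have hwmem : F.emb w ∈ F.S := ⟨w, hwS, rfl⟩
      have hw2 := Involutions.Basic.invol_mul_self ((F.invol_iff hw').2 (by rw [hs]; exact hwi))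
      refine hwU ((emb_mem_U hs hw').1 ?_)
      rw [F.coe_sylow, inf_eq_left.2 hSX] at hprod
      rcases hprod with h | h
      · rw [show F.U hs = F.S from h]; exact hwmem
      · rw [show F.U hs = Cfsg.omegaOne 2 F.S from h]
        exact Subgroup.subset_closure ⟨hwmem, by rw [pow_two]; exact hw2⟩

end Frame

end Cfsg.Agent.Lib.Cent192x61
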