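import Cfsg.Agent.Lib.Cent192x61.Hyp
import Cfsg.Agent.Lib.Cent192x61.OneClass
import Cfsg.Agent.Lib.Cent192x61.UCase
import Cfsg.Agent.Lib.Cent192x61.Twelve
import Cfsg.Agent.Lib.Cent192x61.AltBridge

/-!
# The cases of a centraliser `2^(1+4).S₃`
-/

set_option autoImplicit false

namespace Cfsg.Agent.Lib.Cent192x61

/-- The classification, with the pattern of `A₈` left as an embedding of its model. -/
theorem main {G : Type*} [Group G] [Finite G]
    (s : G) (hs : orderOf s = 2) (L : Subgroup G) (hL : L = Subgroup.centralizer ({s} : Set G))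
    (Q : Subgroup G) (hQ : Q = (Cfsg.pCore 2 L).map L.subtype)
    (hQex : Cfsg.IsExtraspecial 2 Q) (hQcard : Nat.card Q = 32)
    (e : L ⧸ Cfsg.pCore 2 L ≃* Equiv.Perm (Fin 3))
    (X : Sylow 3 L) (hCQX : Q ⊓ Subgroup.centralizer
      (((X : Subgroup L).map L.subtype : Subgroup G) : Set G) = Subgroup.zpowers s)
    (hnwc : ∃ g : G, g * s * g⁻¹ ∈ Q ∧ g * s * g⁻¹ ≠ s) :
    (∃ (N : Subgroup G) (_ : N.Normal), IsMulCommutative N ∧ (∀ n ∈ N, n ^ 2 = 1) ∧ Nat.card N = 8 ∧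
        Nonempty (G ⧸ N ≃* Matrix.ProjectiveSpecialLinearGroup (Fin 3) (ZMod 2))) ∨
      (∃ E : A8Recog.Emb G, E.Fused) ∨ Cfsg.Spor.IsoM12 G := by
  obtain ⟨R, hRs, hRQ⟩ := Setup.exists_raw s hs L hL Q hQ hQex hQcard e X hCQX
  obtain ⟨F, hFs, hFQ⟩ := R.exists_frame
  have hFs' : F.s = s := hFs.trans hRs
  obtain ⟨g, hgQ, hgne⟩ := hnwc
  have hb : Function.Bijective (fun c : Fin 32 => (⟨F.emb c, hRQ ▸ hFQ c c.2⟩ : Q)) := by
    refine (Nat.bijective_iff_injective_and_card _).2 ⟨fun a b h => Fin.ext ?_, ?_⟩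
    · exact F.emb_inj a (by omega) b (by omega) (congrArg Subtype.val h)
    · rw [Nat.card_fin, hQcard]
  obtain ⟨c, hc⟩ := hb.2 ⟨_, hgQ⟩
  have hce : F.emb c = g * s * g⁻¹ := congrArg Subtype.val hc
  have hc' : (c : ℕ) < 192 := by omega
  have hnw : ∃ c < 32, c ≠ 16 ∧ c ∈ Code.invols F.typ F.sq ∧ IsConj F.s (F.emb c) := by
    refine ⟨c, c.2, fun h => hgne ?_, (F.invol_iff hc').1 ?_, isConj_iff.2 ⟨g, by rw [hFs', hce]⟩⟩
    · rw [← hce, h, ← hFs']; rfl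
    · rw [hce, Involutions.Basic.orderOf_conj_eq, hs]
  obtain ⟨F', -, h | h | h | h⟩ := Frame.exists_case hnw
  · exact Or.inl (Frame.uCase h)
  · exact Or.inr (Or.inr (Frame.isoM12 h))
  · exact Or.inr (Or.inl (Frame.exists_a8emb h))
  · exact (Frame.no_one_class h).elim

end Cfsg.Agent.Lib.Cent192x61
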