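import Cfsg.Agent.Lib.Cent192x61.Basic
import Cfsg.Agent.Lib.Involutions.Basic

/-!
# A conjugate `q` of `s` in `Q`: the element of order three on `⟨s, q⟩`
-/

set_option autoImplicit false

namespace Cfsg.Agent.Lib.Cent192x61

open Code

/-- The four codes of `⟨s, q⟩`. -/
def Code.four (typ sq : Bool) (q : ℕ) : List ℕ := [0, 16, q, mul typ sq q 16]

/-- The facts used about `q`. -/
def Code.pivotOk (typ sq : Bool) (q : ℕ) : Bool :=
  (invols typ sq).contains q && q != 16 &&
    (elems.any fun n => conj typ sq n q == mul typ sq q 16 && conj typ sq n (mul typ sq q 16) == q) &&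
    isSub typ sq (cent typ sq q) && decide (cent typ sq q).Nodup &&
    ((cent typ sq q).length == 16 || (cent typ sq q).length == 32) &&
    (cent typ sq q).all fun a => (four typ sq q).contains a ||
      (cent typ sq q).any fun b => mul typ sq a b != mul typ sq b a

/-- The candidates: involutions `d` of the centraliser, outside the four-group, with `⟨s, q, d⟩`
normal there. -/
def Code.isCand (typ sq : Bool) (q d : ℕ) : Bool :=
  (cent typ sq q).contains d && mul typ sq d d == 0 && !(four typ sq q).contains d &&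
    (cent typ sq q).all fun g => (four typ sq q).contains (conj typ sq g d) ||
      ((four typ sq q).map (mul typ sq d)).contains (conj typ sq g d)

/-- Representatives of the candidates modulo the four-group. -/
def Code.repsOk (typ sq : Bool) (q : ℕ) (rs : List ℕ) : Bool :=
  (rs.all fun r => isCand typ sq q r) &&
    (elems.all fun d => !isCand typ sq q d ||
      rs.any fun r => ((four typ sq q).map (mul typ sq r)).contains d) &&
    (rs.all fun r => rs.all fun r' => r == r' || !((four typ sq q).map (mul typ sq r)).contains r')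

variable {G : Type*} [Group G]

namespace Frame

variable (F : Frame G)

/-- Membership of the four-group `⟨s, q⟩`. -/
def InFour (q : ℕ) (x : G) : Prop :=
  x = 1 ∨ x = F.s ∨ x = F.emb q ∨ x = F.emb q * F.s

/-- Membership of the centraliser of `⟨s, q⟩`. -/
def InD (q : ℕ) (x : G) : Prop := Commute x F.s ∧ Commute x (F.emb q)

/-- The candidates in the group. -/
def IsCand (q : ℕ) (x : G) : Prop :=
  F.InD q x ∧ x * x = 1 ∧ ¬ F.InFour q x ∧
    ∀ g, F.InD q g → F.InFour q (g * x * g⁻¹) ∨ ∃ p, F.InFour q p ∧ g * x * g⁻¹ = x * p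

/-- Some element of `D` outside `⟨s, q, x⟩` centralises `x`. -/
def Cabl (q : ℕ) (x : G) : Prop :=
  ∃ e, F.InD q e ∧ Commute e x ∧ ¬ F.InFour q e ∧ ∀ p, F.InFour q p → e ≠ x * p

/-- An element of order three cycling `s ↦ qs ↦ q ↦ s`. -/
structure Tau (q : ℕ) where
  τ : G
  τ3 : τ ^ 3 = 1
  τs : τ * F.s * τ⁻¹ = F.emb q * F.s
  τqs : τ * (F.emb q * F.s) * τ⁻¹ = F.emb q
  τq : τ * F.emb q * τ⁻¹ = F.s

variable {F} {q : ℕ}

theorem inFour_iff {c : ℕ} (hq : q < 192) (hc : c < 192) :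
    F.InFour q (F.emb c) ↔ c ∈ Code.four F.typ F.sq q := by
  have e : F.emb q * F.s = F.emb (F.m q 16) := (F.emb_m hq (by norm_num)).symm
  unfold InFour
  rw [e, ← F.emb_zero, F.emb_eq_iff hc (by norm_num), show F.s = F.emb 16 from rfl,
    F.emb_eq_iff hc (by norm_num), F.emb_eq_iff hc hq, F.emb_eq_iff hc (F.lt_m hq (by norm_num))]
  simp [Code.four]

theorem exists_four {x : G} (hq : q < 192) (h : F.InFour q x) :
    ∃ c ∈ Code.four F.typ F.sq q, c < 192 ∧ F.emb c = x := by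
  have hm : F.m q 16 < 192 := F.lt_m hq (by norm_num)
  rcases h with rfl | rfl | rfl | rfl
  · exact ⟨0, by simp [Code.four], by norm_num, F.emb_zero⟩
  · exact ⟨16, by simp [Code.four], by norm_num, rfl⟩
  · exact ⟨q, by simp [Code.four], hq, rfl⟩
  · exact ⟨F.m q 16, by simp [Code.four], hm, F.emb_m hq (by norm_num)⟩

theorem exists_cent {x : G} (hq : q < 192) (h : F.InD q x) :
    ∃ c ∈ Code.cent F.typ F.sq q, c < 192 ∧ F.emb c = x := by
  obtain ⟨c, hc, rfl⟩ := F.exists_code h.1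
  refine ⟨c, ?_, hc, rfl⟩
  simpa [Code.cent, elems, hc] using (F.commute_iff hc hq).1 h.2

theorem inD_emb {c : ℕ} (hq : q < 192) (hc : c < 192) :
    F.InD q (F.emb c) ↔ c ∈ Code.cent F.typ F.sq q := by
  simp only [InD, F.commute_s c hc, true_and, F.commute_iff hc hq, Code.cent, elems,
    List.mem_filter, List.mem_range, hc, beq_iff_eq]

theorem isCand_emb {c : ℕ} (hq : q < 192) (hc : c < 192) :
    F.IsCand q (F.emb c) ↔ Code.isCand F.typ F.sq q c = true := by
  unfold IsCand Code.isCand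
  rw [inD_emb hq hc, inFour_iff hq hc, ← F.emb_m hc hc, F.emb_eq_one (F.lt_m hc hc)]
  simp only [Bool.and_eq_true, List.contains_iff_mem, beq_iff_eq, Bool.not_eq_true',
    List.all_eq_true, Bool.or_eq_true, List.mem_map, and_assoc]
  refine and_congr_right fun _ => and_congr_right fun _ => and_congr (by simp) ⟨?_, ?_⟩
  · intro h g hg
    have hg' : g < 192 := List.mem_range.1 (List.mem_filter.1 hg).1
    have hcj := F.conj_lt hg' hc
    rcases h (F.emb g) ((inD_emb hq hg').2 hg) with h' | ⟨p, hp, h'⟩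
    · rw [← F.emb_conj hg' hc, inFour_iff hq hcj] at h'
      exact Or.inl h'
    · obtain ⟨a, ha, ha', rfl⟩ := exists_four hq hp
      rw [← F.emb_conj hg' hc, ← F.emb_m hc ha', F.emb_eq_iff hcj (F.lt_m hc ha')] at h'
      exact Or.inr ⟨a, ha, h'.symm⟩
  · intro h g hg
    obtain ⟨a, ha, ha', rfl⟩ := exists_cent hq hg
    rw [← F.emb_conj ha' hc]
    rcases h a ha with h' | ⟨p, hp, h'⟩
    · exact Or.inl ((inFour_iff hq (F.conj_lt ha' hc)).2 h')
    · have hp' : p < 192 := by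
        simp only [Code.four, List.mem_cons, List.not_mem_nil, or_false] at hp
        rcases hp with rfl | rfl | rfl | rfl
        · norm_num
        · norm_num
        · exact hq
        · exact F.lt_m hq (by norm_num)
      exact Or.inr ⟨F.emb p, (inFour_iff hq hp').2 hp, by rw [← F.emb_m hc hp']; exact congrArg F.emb h'.symm⟩

namespace Tau

variable (T : F.Tau q)

/-- Conjugation by `τ`. -/
def c : G ≃* G := MulAut.conj T.τ

theorem c_apply (x : G) : T.c x = T.τ * x * T.τ⁻¹ := rfl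

theorem c3 (x : G) : T.c (T.c (T.c x)) = x := by
  calc T.c (T.c (T.c x)) = T.τ ^ 3 * x * (T.τ ^ 3)⁻¹ := by
        simp only [c_apply, pow_three']; group
    _ = x := by rw [T.τ3]; group

theorem inFour {x : G} (h : F.InFour q x) : F.InFour q (T.c x) := by
  rcases h with rfl | rfl | rfl | rfl
  · exact Or.inl (map_one _)
  · exact Or.inr (Or.inr (Or.inr T.τs))
  · exact Or.inr (Or.inl T.τq)
  · exact Or.inr (Or.inr (Or.inl T.τqs))

theorem inFour_iff {x : G} : F.InFour q (T.c x) ↔ F.InFour q x :=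
  ⟨fun h => by simpa [T.c3] using T.inFour (T.inFour h), T.inFour⟩

theorem inD {x : G} (h : F.InD q x) : F.InD q (T.c x) := by
  have h1 : Commute x (F.emb q * F.s) := h.2.mul_right h.1
  have e1 : T.c (F.emb q) = F.s := T.τq
  have e2 : T.c (F.emb q * F.s) = F.emb q := T.τqs
  exact ⟨e1 ▸ h.2.map T.c, e2 ▸ h1.map T.c⟩

theorem inD_iff {x : G} : F.InD q (T.c x) ↔ F.InD q x :=
  ⟨fun h => by simpa [T.c3] using T.inD (T.inD h), T.inD⟩

theorem isCand {x : G} (h : F.IsCand q x) : F.IsCand q (T.c x) := by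
  obtain ⟨h1, h2, h3, h4⟩ := h
  refine ⟨T.inD h1, by rw [← map_mul, h2, map_one], fun h => h3 (T.inFour_iff.1 h), fun g hg => ?_⟩
  obtain ⟨g', rfl⟩ : ∃ g', g = T.c g' := ⟨T.c (T.c g), (T.c3 g).symm⟩
  rw [← map_inv, ← map_mul, ← map_mul]
  rcases h4 g' (T.inD_iff.1 hg) with h' | ⟨p, hp, h'⟩
  · exact Or.inl (T.inFour h')
  · exact Or.inr ⟨T.c p, T.inFour hp, by rw [← map_mul, h']⟩

theorem cabl {x : G} (h : F.Cabl q x) : F.Cabl q (T.c x) := by
  obtain ⟨e, h1, h2, h3, h4⟩ := h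
  refine ⟨T.c e, T.inD h1, h2.map T.c, fun h => h3 (T.inFour_iff.1 h), fun p hp hpe => ?_⟩
  obtain ⟨p', rfl⟩ : ∃ p', p = T.c p' := ⟨T.c (T.c p), (T.c3 p).symm⟩
  rw [← map_mul] at hpe
  exact h4 p' (T.inFour_iff.1 hp) (T.c.injective hpe)

theorem τ_ne_one (hq : orderOf (F.emb q) = 2) : T.τ ≠ 1 := by
  intro h
  have := T.τs
  rw [h, one_mul, inv_one, mul_one] at this
  exact Involutions.Basic.invol_ne_one hq (mul_eq_right.1 this.symm)

/-- A coset of `⟨s, q⟩` fixed by `τ` has a centralised element. -/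
theorem exists_fixed {r p : G} (hr : F.InD q r) (hp : F.InFour q p) (hq : orderOf (F.emb q) = 2)
    (hqs : Commute (F.emb q) F.s) (h : T.c r = r * p) :
    ∃ p', F.InFour q p' ∧ T.c (r * p') = r * p' := by
  have q2 := Involutions.Basic.invol_mul_self hq
  have s2 := Involutions.Basic.invol_mul_self F.orderOf_s
  rcases hp with rfl | rfl | rfl | rfl
  · exact ⟨1, Or.inl rfl, by rw [mul_one, h, mul_one]⟩
  · refine ⟨F.emb q * F.s, Or.inr (Or.inr (Or.inr rfl)), ?_⟩
    rw [map_mul, h, show T.c (F.emb q * F.s) = F.emb q from T.τqs, mul_assoc, hqs.eq]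
  · refine ⟨F.s, Or.inr (Or.inl rfl), ?_⟩
    rw [map_mul, h, show T.c F.s = F.emb q * F.s from T.τs, mul_assoc, ← mul_assoc (F.emb q), q2, one_mul]
  · refine ⟨F.emb q, Or.inr (Or.inr (Or.inl rfl)), ?_⟩
    rw [map_mul, h, show T.c (F.emb q) = F.s from T.τq, mul_assoc r, mul_assoc (F.emb q), s2, mul_one]

end Tau

variable [Finite G]

theorem inD_eight {x : G} (hq : q < 192) (hok : Code.pivotOk F.typ F.sq q = true) (hx : F.InD q x) :
    x ^ 64 = 1 ∧ ∃ n, orderOf x = 2 ^ n := by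
  simp only [Code.pivotOk, Bool.and_eq_true, Bool.or_eq_true, beq_iff_eq, decide_eq_true_eq] at hok
  obtain ⟨⟨⟨⟨⟨⟨-, -⟩, -⟩, hsub⟩, hnd⟩, hlen⟩, -⟩ := hok
  have hmem : x ∈ F.subg _ hsub := by
    obtain ⟨c, hc, -, rfl⟩ := exists_cent hq hx
    exact ⟨c, hc, rfl⟩
  have hd := orderOf_dvd_natCard (⟨x, hmem⟩ : F.subg _ hsub)
  rw [Subgroup.orderOf_mk, F.card_subg _ hnd] at hd
  have h64 : orderOf x ∣ 2 ^ 6 := hd.trans (by rcases hlen with h | h <;> rw [h] <;> norm_num)
  obtain ⟨n, -, hn⟩ := (Nat.dvd_prime_pow Nat.prime_two).1 h64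
  exact ⟨orderOf_dvd_iff_pow_eq_one.1 (h64.trans (by norm_num)), n, hn⟩

/-- The element of order three. -/
theorem exists_tau (hok : Code.pivotOk F.typ F.sq q = true) (hconj : IsConj F.s (F.emb q)) :
    Nonempty (F.Tau q) := by
  haveI : Fact (Nat.Prime 2) := ⟨Nat.prime_two⟩
  have hok' := hok
  simp only [Code.pivotOk, Bool.and_eq_true, Bool.or_eq_true, beq_iff_eq, bne_iff_ne,
    List.any_eq_true, List.all_eq_true, List.contains_iff_mem, decide_eq_true_eq] at hok'
  obtain ⟨⟨⟨⟨⟨⟨hqi, hq16⟩, n, hn, hnq, hnq'⟩, hsub⟩, hnd⟩, hlen⟩, hcen⟩ := hok'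
  have hq : q < 192 := List.mem_range.1 (List.mem_filter.1 hqi).1
  have hn' : n < 192 := List.mem_range.1 hn
  have hqo : orderOf (F.emb q) = 2 := (F.invol_iff hq).2 hqi
  have hqs : Commute (F.emb q) F.s := F.commute_s q hq
  set D := F.subg _ hsub with hD
  have hDiff : ∀ x, x ∈ D ↔ F.InD q x := by
    intro x
    refine ⟨?_, fun hx => ?_⟩
    · rintro ⟨c, hc, rfl⟩
      exact (inD_emb hq (F.isSub_lt hsub hc)).2 hc
    · obtain ⟨c, hc, -, rfl⟩ := exists_cent hq hx
      exact ⟨c, hc, rfl⟩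
  obtain ⟨g, hg⟩ := isConj_iff.1 hconj
  -- a Sylow `2`-subgroup of `C(q)` containing `D`
  have hDp : IsPGroup 2 (D.map (MulAut.conj g⁻¹).toMonoidHom) := by
    refine IsPGroup.map ?_ _
    rcases hlen with h | h
    · exact IsPGroup.of_card (n := 4) (by rw [hD, F.card_subg _ hnd, h]; norm_num)
    · exact IsPGroup.of_card (n := 5) (by rw [hD, F.card_subg _ hnd, h]; norm_num)
  have hDL : D.map (MulAut.conj g⁻¹).toMonoidHom ≤ F.L := by
    rintro _ ⟨x, hx, rfl⟩
    have h := ((hDiff x).1 hx).2.map (MulAut.conj g⁻¹)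
    refine F.mem_L.2 ?_
    have e : MulAut.conj g⁻¹ (F.emb q) = F.s := by
      rw [← hg, MulAut.conj_apply]; group
    rwa [e] at h
  obtain ⟨l, hl, hlS⟩ := Involutions.StronglyEmbedded.exists_conj_le_sylow
    (F.sylow.subtype F.S_le_L) hDp hDL
  have hmapS : ((F.sylow.subtype F.S_le_L : Sylow 2 F.L) : Subgroup F.L).map F.L.subtype = F.S := by
    show (F.S.subgroupOf F.L).map F.L.subtype = F.S
    rw [Subgroup.subgroupOf_map_subtype, inf_eq_left.2 F.S_le_L]
  rw [hmapS, Subgroup.map_map] at hlS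
  set φ : G →* G := ((MulAut.conj l).toMonoidHom).comp (MulAut.conj g⁻¹).toMonoidHom with hφ
  have hφi : Function.Injective φ := (MulAut.conj l).injective.comp (MulAut.conj g⁻¹).injective
  haveI : Group.IsNilpotent F.S := F.isPGroup_S.isNilpotent
  have hlt : D.map φ < F.S := by
    refine lt_of_le_of_ne hlS fun h => ?_
    have hcard : Nat.card ↥(D.map φ) = 64 := by rw [h, F.card_S]
    rw [← Nat.card_congr (Subgroup.equivMapOfInjective D φ hφi).toEquiv, hD,
      F.card_subg _ hnd] at hcard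
    omega
  obtain ⟨m, hm, hmD⟩ := SetLike.exists_of_lt (Involutions.StronglyEmbedded.lt_inf_normalizer hlt)
  obtain ⟨h, hh⟩ : ∃ h, φ h = m := ⟨MulAut.conj g (MulAut.conj l⁻¹ m), by
    simp only [hφ, MonoidHom.coe_comp, Function.comp_apply, MulEquiv.coe_toMonoidHom,
      MulAut.conj_apply]
    group⟩
  have hhD : h ∉ D := fun hx => hmD (hh ▸ ⟨h, hx, rfl⟩)
  have hφq : φ (F.emb q) = F.s := by
    have e : MulAut.conj g⁻¹ (F.emb q) = F.s := by rw [← hg, MulAut.conj_apply]; group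
    simp only [hφ, MonoidHom.coe_comp, Function.comp_apply, MulEquiv.coe_toMonoidHom, e]
    rw [MulAut.conj_apply, (F.mem_L.1 hl).eq, mul_inv_cancel_right]
  have hhq : Commute h (F.emb q) := by
    refine hφi ?_
    rw [map_mul, map_mul, hh, hφq]
    exact (F.mem_L.1 (F.S_le_L hm.1)).eq
  have hhn : ∀ x, x ∈ D ↔ h * x * h⁻¹ ∈ D := by
    intro x
    have := Subgroup.mem_normalizer_iff.1 hm.2 (φ x)
    rw [← hh, ← map_inv, ← map_mul, ← map_mul, Subgroup.mem_map_iff_mem hφi,
      Subgroup.mem_map_iff_mem hφi] at this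
    exact this
  have hhs : h * F.s * h⁻¹ = F.emb q * F.s := by
    have hsD : h * F.s * h⁻¹ ∈ D := (hhn _).1 ((hDiff _).2 ⟨Commute.refl _, hqs.symm⟩)
    obtain ⟨c, hc, hc', hce⟩ := exists_cent hq ((hDiff _).1 hsD)
    rcases hcen c hc with h' | ⟨b, hb, hne⟩
    · simp only [Code.four, List.mem_cons, List.not_mem_nil, or_false] at h'
      rcases h' with e | e | e | e <;> rw [e] at hce
      · rw [F.emb_zero] at hce
        exact absurd (conj_eq_one_iff.1 hce.symm) (Involutions.Basic.invol_ne_one F.orderOf_s)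
      · refine absurd ((hDiff h).2 ⟨?_, hhq⟩) hhD
        exact mul_inv_eq_iff_eq_mul.1 hce.symm
      · exfalso
        have : h * F.s * h⁻¹ = h * F.emb q * h⁻¹ := by
          rw [hhq.eq, mul_inv_cancel_right, hce]
        have h2 : F.s = F.emb q := mul_left_cancel (mul_right_cancel this)
        exact hq16 (F.emb_inj _ hq 16 (by norm_num) h2.symm)
      · rw [← hce]; exact (F.emb_m hq (by norm_num))
    · exfalso
      have hb' := F.isSub_lt hsub hb
      refine hne ((F.commute_iff hc' hb').1 ?_)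
      rw [hce]
      have hx : h⁻¹ * F.emb b * h ∈ D := (hhn _).2 (by
        rw [show h * (h⁻¹ * F.emb b * h) * h⁻¹ = F.emb b by group]; exact ⟨b, hb, rfl⟩)
      have := ((hDiff _).1 hx).1.symm.map (MulAut.conj h)
      simpa [MulAut.conj_apply, mul_assoc] using this
  -- the product with an element swapping `q` and `qs`
  set w := h * F.emb n with hw
  have hqsm : F.emb q * F.s = F.emb (F.m q 16) := (F.emb_m hq (by norm_num)).symm
  have e1 : F.emb n * F.s * (F.emb n)⁻¹ = F.s := by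
    rw [(F.commute_s n hn').eq, mul_inv_cancel_right]
  have e2 : F.emb n * F.emb q * (F.emb n)⁻¹ = F.emb q * F.s := by
    rw [hqsm, ← F.emb_conj hn' hq, hnq]
  have e3 : F.emb n * (F.emb q * F.s) * (F.emb n)⁻¹ = F.emb q := by
    rw [hqsm, ← F.emb_conj hn' (F.lt_m hq (by norm_num)), hnq']
  have hh2 : h * F.emb q * h⁻¹ = F.emb q := by rw [hhq.eq, mul_inv_cancel_right]
  set f := MulAut.conj w with hf
  have hfa : ∀ x, f x = h * (F.emb n * x * (F.emb n)⁻¹) * h⁻¹ := fun x => by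
    rw [hf, hw, MulAut.conj_apply]; group
  have f1 : f F.s = F.emb q * F.s := by rw [hfa, e1, hhs]
  have f2 : f (F.emb q * F.s) = F.emb q := by rw [hfa, e3, hh2]
  have f3 : f (F.emb q) = F.s := by
    rw [hfa, e2, show h * (F.emb q * F.s) * h⁻¹ = (h * F.emb q * h⁻¹) * (h * F.s * h⁻¹) by group, hh2,
      hhs, ← mul_assoc, Involutions.Basic.invol_mul_self hqo, one_mul]
  have hw3s : f (f (f F.s)) = F.s := by rw [f1, f2, f3]
  have hw3q : f (f (f (F.emb q))) = F.emb q := by rw [f3, f1, f2]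
  have hw3 : F.InD q (w ^ 3) := by
    have hpow : ∀ x, f (f (f x)) = w ^ 3 * x * (w ^ 3)⁻¹ := fun x => by
      simp only [hf, MulAut.conj_apply, pow_three']; group
    exact ⟨mul_inv_eq_iff_eq_mul.1 ((hpow _).symm.trans hw3s),
      mul_inv_eq_iff_eq_mul.1 ((hpow _).symm.trans hw3q)⟩
  have h64 : (w ^ 3) ^ 64 = 1 := (inD_eight hq hok hw3).1
  have hsplit : w ^ 64 = w * (w ^ 3) ^ 21 := by rw [← pow_mul, ← pow_succ']
  have hact : ∀ x, F.InFour q x → w ^ 64 * x * (w ^ 64)⁻¹ = w * x * w⁻¹ := by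
    intro x hx
    have hc : Commute (w ^ 3) x := by
      rcases hx with rfl | rfl | rfl | rfl
      · exact Commute.one_right _
      · exact hw3.1
      · exact hw3.2
      · exact hw3.2.mul_right hw3.1
    rw [hsplit, show w * (w ^ 3) ^ 21 * x * (w * (w ^ 3) ^ 21)⁻¹ =
      w * ((w ^ 3) ^ 21 * x * ((w ^ 3) ^ 21)⁻¹) * w⁻¹ by group, (hc.pow_left 21).eq, mul_inv_cancel_right]
  refine ⟨⟨w ^ 64, ?_, ?_, ?_, ?_⟩⟩
  · rw [← pow_mul, show 64 * 3 = 3 * 64 by norm_num, pow_mul, h64]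
  · rw [hact _ (Or.inr (Or.inl rfl))]; exact f1
  · rw [hact _ (Or.inr (Or.inr (Or.inr rfl)))]; exact f2
  · rw [hact _ (Or.inr (Or.inr (Or.inl rfl)))]; exact f3

/-- Two centralised elements of which one is conjugate to `s`. -/
theorem Tau.eq_of_fixed (hok : Code.pivotOk F.typ F.sq q = true) (hq : q < 192) (T : F.Tau q)
    {d x : G} (hd : F.InD q d) (hx : F.InD q x) (hd2 : d * d = 1) (hd1 : d ≠ 1) (hx2 : x * x = 1)
    (hx1 : x ≠ 1) (hcd : T.c d = d) (hcx : T.c x = x) (hds : IsConj F.s d) : x = d := by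
  have hok' := hok
  simp only [Code.pivotOk, Bool.and_eq_true, List.contains_iff_mem] at hok'
  have hqo : orderOf (F.emb q) = 2 := (F.invol_iff hq).2 hok'.1.1.1.1.1.1
  have od : orderOf d = 2 := Involutions.Basic.invol_iff.2 ⟨hd2, hd1⟩
  have ox : orderOf x = 2 := Involutions.Basic.invol_iff.2 ⟨hx2, hx1⟩
  have hdx : F.InD q (d * x) := ⟨hd.1.mul_left hx.1, hd.2.mul_left hx.2⟩
  obtain ⟨n, hn⟩ := (inD_eight hq hok hdx).2
  by_contra hne
  have hn0 : n ≠ 0 := by
    intro h0; rw [h0, pow_zero, orderOf_eq_one_iff] at hn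
    exact hne (mul_left_cancel (hn.trans hd2.symm))
  have heven : Even (orderOf (d * x)) := by rw [hn]; exact (Nat.even_pow.2 ⟨even_two, hn0⟩)
  obtain ⟨hz, hzd, -⟩ := Involutions.Basic.central_invol od ox heven
  have hct : ∀ y, T.c y = y → Commute y T.τ := fun y hy => (mul_inv_eq_iff_eq_mul.1 hy).symm
  have e := F.eq_of_three hds T.τ3 (T.τ_ne_one hqo) (hct d hcd).symm hz hzd
    (((hct d hcd).mul_left (hct x hcx)).pow_left _)
  exact Involutions.Basic.left_ne_zpow od ox ((orderOf (d * x) / 2 : ℕ) : ℤ) (by rw [zpow_natCast]; exact e)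

end Frame

end Cfsg.Agent.Lib.Cent192x61
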