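import Cfsg.Agent.Lib.Cent192x61.Gens
import Cfsg.Agent.Lib.LargeExtra.Basic
import Cfsg.Agent.Lib.PGroups.Frattini
import Cfsg.Prelude.Def_Sporadic

/-!
# The centraliser from the hypotheses
-/

set_option autoImplicit false
set_option linter.unusedSimpArgs false

namespace Cfsg.Agent.Lib.Cent192x61

open Code

/-- The centraliser of `s`, with its elements numbered. -/
structure Frame (G : Type*) [Group G] where
  typ : Bool
  sq : Bool
  emb : ℕ → G
  emb_mul : ∀ a < 192, ∀ b < 192, emb a * emb b = emb (mul typ sq a b)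
  emb_inj : ∀ a < 192, ∀ b < 192, emb a = emb b → a = b
  mem_iff : ∀ g : G, Commute g (emb 16) ↔ ∃ c < 192, emb c = g

namespace Setup

/-- The conditions on the images of `i`, `i'` under an element inverting `ξ`. -/
def valid (p r : ℕ) : Bool :=
  qm p p == 16 && qm r r == 16 && qm p (rot (rot p)) == rot p && qm r (rot (rot r)) == rot r &&
    qm p r == qm r p && qm p (rot (rot r)) == qm (rot (rot r)) p &&
    qm (rot (rot p)) r == qm r (rot (rot p)) && ext p r p == 4 && ext p r r == 1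

/-- The conditions on new generators giving the normal form. -/
def good (p r : ℕ) (typ : Bool) (m u w : ℕ) : Bool :=
  qm u u == 16 && qm u (rot u) == rot (rot u) && qm w w == 16 && qm w (rot w) == rot (rot w) &&
    qm u w == qm w u && qm u (rot w) == qm (rot w) u && qm (rot u) w == qm w (rot u) &&
    act false m (ext p r u) == qm 16 (bif typ then w else u) &&
    act false m (ext p r w) == qm 16 (bif typ then u else w)

theorem exists_good : (List.range 32).all (fun p => (List.range 32).all fun r =>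
    !valid p r || [false, true].any fun typ => (List.range 3).any fun m =>
      (List.range 32).any fun u => qm u u == 16 && (List.range 32).any fun w =>
        good p r typ m u w) = true := by
  decide +kernel

theorem coset_three : (List.range 32).all (fun q => qm (qm q (rot (rot q))) (rot q) != 0 ||
    (List.range 32).any fun r => qm r (rot (rot (qi r))) == q) = true := by
  decide +kernel

theorem perm_three : ∀ x y : Equiv.Perm (Fin 3), x ^ 3 = 1 → y ^ 2 = 1 → y ≠ 1 →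
    y * x * y⁻¹ = x⁻¹ := by decide

variable {G : Type*} [Group G] [Finite G]

/-- The hypotheses, unfolded. -/
structure Raw (G : Type*) [Group G] where
  s : G
  ξ : G
  Q : Subgroup G
  g₀ : G
  hs : orderOf s = 2
  sQ : s ∈ Q
  cardQ : Nat.card Q = 32
  cardL : Nat.card (Subgroup.centralizer ({s} : Set G)) = 192
  Qs : ∀ q ∈ Q, Commute s q
  center : ∀ z ∈ Q, (∀ q ∈ Q, Commute z q) → z = 1 ∨ z = s
  squares : ∀ q ∈ Q, q * q = 1 ∨ q * q = s
  comms : ∀ q ∈ Q, ∀ r ∈ Q, q * r = r * q ∨ q * r = s * (r * q)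
  sξ : Commute s ξ
  ξ3 : ξ ^ 3 = 1
  ξQ : ξ ∉ Q
  ξnorm : ∀ q ∈ Q, ξ * q * ξ⁻¹ ∈ Q
  fix : ∀ q ∈ Q, ξ * q * ξ⁻¹ = q → q = 1 ∨ q = s
  g₀s : Commute s g₀
  g₀norm : ∀ q ∈ Q, g₀ * q * g₀⁻¹ ∈ Q
  g₀sq : g₀ * g₀ ∈ Q
  g₀ξ : g₀ * ξ * g₀⁻¹ * ξ ∈ Q
  g₀out : g₀ ∉ Q ∧ g₀ * ξ⁻¹ ∉ Q ∧ g₀ * ξ ∉ Q

namespace Raw

variable (R : Raw G)

theorem s2 : R.s * R.s = 1 := by rw [← pow_two, ← R.hs]; exact pow_orderOf_eq_one _

theorem c3 (x : G) : R.ξ * (R.ξ * (R.ξ * x * R.ξ⁻¹) * R.ξ⁻¹) * R.ξ⁻¹ = x := by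
  have h : R.ξ * R.ξ * R.ξ = 1 := by rw [← pow_three', R.ξ3]
  calc R.ξ * (R.ξ * (R.ξ * x * R.ξ⁻¹) * R.ξ⁻¹) * R.ξ⁻¹
      = R.ξ * R.ξ * R.ξ * x * (R.ξ * R.ξ * R.ξ)⁻¹ := by group
    _ = x := by rw [h]; group

theorem norm_prod {x : G} (hx : x ∈ R.Q) :
    x * (R.ξ * x * R.ξ⁻¹) * (R.ξ * (R.ξ * x * R.ξ⁻¹) * R.ξ⁻¹) = 1 ∨
      x * (R.ξ * x * R.ξ⁻¹) * (R.ξ * (R.ξ * x * R.ξ⁻¹) * R.ξ⁻¹) = R.s := by
  set y := R.ξ * x * R.ξ⁻¹ with hy
  set z := R.ξ * y * R.ξ⁻¹ with hz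
  set p := x * y * z with hp
  have hyQ : y ∈ R.Q := R.ξnorm x hx
  have hpQ : p ∈ R.Q := mul_mem (mul_mem hx hyQ) (R.ξnorm y hyQ)
  have hxz : R.ξ * z * R.ξ⁻¹ = x := R.c3 x
  have himg : R.ξ * p * R.ξ⁻¹ = y * z * x := by
    calc R.ξ * p * R.ξ⁻¹ = (R.ξ * x * R.ξ⁻¹) * (R.ξ * y * R.ξ⁻¹) * (R.ξ * z * R.ξ⁻¹) := by
          rw [hp]; group
      _ = y * z * x := by rw [← hy, ← hz, hxz]
  have himg' : R.ξ * p * R.ξ⁻¹ = x⁻¹ * (p * x) := by rw [himg, hp]; group
  rcases R.comms p hpQ x hx with h | h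
  · refine R.fix p hpQ ?_
    rw [himg', h]; group
  · exfalso
    have hfix : R.ξ * p * R.ξ⁻¹ = R.s * p := by
      rw [himg', h, ← mul_assoc x⁻¹ R.s, ← ((R.Qs x hx).inv_right).eq]; group
    have hsξ : R.ξ * R.s * R.ξ⁻¹ = R.s := by rw [← R.sξ.eq, mul_inv_cancel_right]
    have e2 : R.ξ * (R.ξ * p * R.ξ⁻¹) * R.ξ⁻¹ = p := by
      rw [hfix]
      calc R.ξ * (R.s * p) * R.ξ⁻¹ = (R.ξ * R.s * R.ξ⁻¹) * (R.ξ * p * R.ξ⁻¹) := by group
        _ = p := by rw [hsξ, hfix, ← mul_assoc, R.s2, one_mul]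
    have e3 := R.c3 p
    rw [e2, hfix] at e3
    exact (fun h : R.s = 1 => by simpa [h] using R.hs) (mul_eq_right.1 e3)

theorem inv_of_sq {x : G} (hx : x * x = R.s) : x⁻¹ = R.s * x := by
  refine inv_eq_of_mul_eq_one_right ?_
  have h : Commute R.s x := by rw [← hx]; exact (Commute.refl x).mul_left (Commute.refl x)
  rw [← mul_assoc, ← h.eq, mul_assoc, hx, R.s2]

/-- An element of order four can be signed so as to give a quaternion group. -/
theorem exists_quat {x : G} (hx : x ∈ R.Q) (hxx : x * x = R.s) :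
    ∃ a : G, (a = x ∨ a = R.s * x) ∧ a * a = R.s ∧
      a * (R.ξ * a * R.ξ⁻¹) = R.ξ * (R.ξ * a * R.ξ⁻¹) * R.ξ⁻¹ := by
  set y := R.ξ * x * R.ξ⁻¹ with hy
  set z := R.ξ * y * R.ξ⁻¹ with hz
  have hsξ : R.ξ * R.s * R.ξ⁻¹ = R.s := by rw [← R.sξ.eq, mul_inv_cancel_right]
  have hzz : z * z = R.s := by
    calc z * z = R.ξ * (R.ξ * (x * x) * R.ξ⁻¹) * R.ξ⁻¹ := by rw [hz, hy]; group
      _ = R.s := by rw [hxx, hsξ, hsξ]
  rcases R.norm_prod hx with h | h
  · refine ⟨R.s * x, Or.inr rfl, ?_, ?_⟩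
    · rw [mul_assoc, ← mul_assoc x R.s, ← (R.Qs x hx).eq, mul_assoc, hxx, R.s2, mul_one]
    · have hc : ∀ g, R.ξ * (R.s * g) * R.ξ⁻¹ = R.s * (R.ξ * g * R.ξ⁻¹) := fun g => by
        calc R.ξ * (R.s * g) * R.ξ⁻¹ = (R.ξ * R.s * R.ξ⁻¹) * (R.ξ * g * R.ξ⁻¹) := by group
          _ = _ := by rw [hsξ]
      rw [hc, hc, ← hy, ← hz]
      have hxy : x * y = R.s * z := by rw [← R.inv_of_sq hzz]; exact eq_inv_of_mul_eq_one_left h
      calc R.s * x * (R.s * y) = R.s * (x * R.s) * y := by simp only [mul_assoc]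
        _ = R.s * R.s * (x * y) := by rw [← (R.Qs x hx).eq]; simp only [mul_assoc]
        _ = R.s * z := by rw [R.s2, one_mul, hxy]
  · refine ⟨x, Or.inl rfl, hxx, ?_⟩
    rw [← hy, ← hz]
    have : x * y = R.s * z⁻¹ := eq_mul_inv_of_mul_eq h
    rw [this, R.inv_of_sq hzz, ← mul_assoc, R.s2, one_mul]

theorem exists_order_four : ∃ x ∈ R.Q, x * x = R.s := by
  by_contra hno
  push Not at hno
  have h1 : ∀ x ∈ R.Q, x * x = 1 := fun x hx => (R.squares x hx).resolve_right (hno x hx)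
  have hcomm : ∀ x ∈ R.Q, ∀ y ∈ R.Q, Commute x y := fun x hx y hy => by
    have hi : ∀ u ∈ R.Q, u⁻¹ = u := fun u hu => inv_eq_of_mul_eq_one_right (h1 u hu)
    calc x * y = (x * y)⁻¹ := (hi _ (mul_mem hx hy)).symm
      _ = y * x := by rw [mul_inv_rev, hi x hx, hi y hy]
  have hle : R.Q ≤ Subgroup.zpowers R.s := fun x hx => by
    rcases R.center x hx (hcomm x hx) with rfl | rfl
    · exact one_mem _
    · exact Subgroup.mem_zpowers _
  have := Subgroup.card_le_of_le hle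
  rw [R.cardQ, Nat.card_zpowers, R.hs] at this
  omega

/-- A quaternion group in `Q` and one commuting with it. -/
theorem exists_qgens : ∃ P : QGens G, P.s = R.s ∧ P.ξ = R.ξ ∧ P.a ∈ R.Q ∧ P.b ∈ R.Q := by
  obtain ⟨x, hx, hxx⟩ := R.exists_order_four
  obtain ⟨a, hax, haa, hq⟩ := R.exists_quat hx hxx
  have haQ : a ∈ R.Q := by
    rcases hax with rfl | rfl
    · exact hx
    · exact mul_mem R.sQ hx
  set a' := R.ξ * a * R.ξ⁻¹ with ha'
  set a'' := R.ξ * a' * R.ξ⁻¹ with ha''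
  have ha'Q : a' ∈ R.Q := R.ξnorm a haQ
  have hsξ : R.ξ * R.s * R.ξ⁻¹ = R.s := by rw [← R.sξ.eq, mul_inv_cancel_right]
  have ha'2 : a' * a' = R.s := by
    calc a' * a' = R.ξ * (a * a) * R.ξ⁻¹ := by rw [ha']; group
      _ = R.s := by rw [haa, hsξ]
  have ha''2 : a'' * a'' = R.s := by
    calc a'' * a'' = R.ξ * (a' * a') * R.ξ⁻¹ := by rw [ha'']; group
      _ = R.s := by rw [ha'2, hsξ]
  have hanti : a' * a = R.s * (a * a') := by
    rw [hq]; exact QGens.quat_rev haa ha'2 ha''2 hq R.s2 (R.Qs a haQ) (R.Qs a' ha'Q)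
  -- every element of `Q` is a product of a unit and an element centralising both
  have hsplit : ∀ q ∈ R.Q, ∃ u, (u = 1 ∨ u = a ∨ u = a' ∨ u = a * a') ∧ Commute (u * q) a ∧
      Commute (u * q) a' := by
    intro q hq'
    have key : ∀ u ∈ R.Q, ∀ w ∈ R.Q, (u * w = R.s * (w * u) → q * w = R.s * (w * q) → Commute (u * q) w) ∧
        (u * w = w * u → q * w = w * q → Commute (u * q) w) := by
      intro u hu w _
      refine ⟨fun h1 h2 => ?_, fun h1 h2 => (Commute.mul_left h1 h2 : _)⟩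
      show u * q * w = w * (u * q)
      rw [mul_assoc, h2, ← mul_assoc u R.s, ← (R.Qs u hu).eq, mul_assoc R.s u, ← mul_assoc u w, h1]
      simp only [← mul_assoc]
      rw [R.s2, one_mul]
    have haa' : (a * a') * a = R.s * (a * (a * a')) := by
      rw [mul_assoc, hanti, ← mul_assoc a R.s, ← (R.Qs a haQ).eq, mul_assoc R.s a]
    have ha'aa' : (a * a') * a' = R.s * (a' * (a * a')) := by
      rw [← mul_assoc a' a a', hanti]
      simp only [← mul_assoc]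
      rw [R.s2, one_mul]
    have hanti' : a * a' = R.s * (a' * a) := by rw [hanti, ← mul_assoc R.s R.s, R.s2, one_mul]
    rcases R.comms q hq' a haQ with h1 | h1 <;> rcases R.comms q hq' a' ha'Q with h2 | h2
    · exact ⟨1, Or.inl rfl, by rw [one_mul]; exact h1, by rw [one_mul]; exact h2⟩
    · exact ⟨a, Or.inr (Or.inl rfl), (key a haQ a haQ).2 rfl h1, (key a haQ a' ha'Q).1 hanti' h2⟩
    · exact ⟨a', Or.inr (Or.inr (Or.inl rfl)), (key a' ha'Q a haQ).1 hanti h1,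
        (key a' ha'Q a' ha'Q).2 rfl h2⟩
    · exact ⟨a * a', Or.inr (Or.inr (Or.inr rfl)), (key _ (mul_mem haQ ha'Q) a haQ).1 haa' h1,
        (key _ (mul_mem haQ ha'Q) a' ha'Q).1 ha'aa' h2⟩
  obtain ⟨y, hy, hya, hya', hyy⟩ : ∃ y ∈ R.Q, Commute y a ∧ Commute y a' ∧ y * y = R.s := by
    by_contra hno
    push Not at hno
    have h1 : ∀ y ∈ R.Q, Commute y a → Commute y a' → y * y = 1 := fun y hy h h' =>
      (R.squares y hy).resolve_right (hno y hy h h')
    have hz : ∀ y ∈ R.Q, Commute y a → Commute y a' → y = 1 ∨ y = R.s := by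
      intro y hy h h'
      refine R.center y hy fun q hq' => ?_
      obtain ⟨u, hu, hua, hua'⟩ := hsplit q hq'
      have huQ : u ∈ R.Q := by
        rcases hu with rfl | rfl | rfl | rfl
        · exact one_mem _
        · exact haQ
        · exact ha'Q
        · exact mul_mem haQ ha'Q
      have hv := mul_mem huQ hq'
      have e1 := h1 y hy h h'
      have e2 := h1 _ hv hua hua'
      have e3 := h1 _ (mul_mem hy hv) (h.mul_left hua) (h'.mul_left hua')
      have hc : Commute y (u * q) := by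
        calc y * (u * q) = (y * (u * q))⁻¹ := (inv_eq_of_mul_eq_one_right e3).symm
          _ = (u * q) * y := by
            rw [mul_inv_rev y, inv_eq_of_mul_eq_one_right e1, inv_eq_of_mul_eq_one_right e2]
      have hyu : Commute y u := by
        rcases hu with rfl | rfl | rfl | rfl
        · exact Commute.one_right _
        · exact h
        · exact h'
        · exact h.mul_right h'
      simpa using hyu.inv_right.mul_right hc
    have hcov : ∀ q ∈ R.Q, ∃ u ∈ ({1, a, a', a * a'} : Set G), ∃ z ∈ ({1, R.s} : Set G), q = u⁻¹ * z := by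
      intro q hq'
      obtain ⟨u, hu, hua, hua'⟩ := hsplit q hq'
      have huQ : u ∈ R.Q := by
        rcases hu with rfl | rfl | rfl | rfl
        · exact one_mem _
        · exact haQ
        · exact ha'Q
        · exact mul_mem haQ ha'Q
      exact ⟨u, by simpa using hu, u * q, by simpa using hz _ (mul_mem huQ hq') hua hua', by group⟩
    have hsub : (R.Q : Set G) ⊆
        (fun p : G × G => p.1⁻¹ * p.2) '' (({1, a, a', a * a'} : Set G) ×ˢ ({1, R.s} : Set G)) := by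
      intro q hq'
      obtain ⟨u, hu, z, hz', rfl⟩ := hcov q hq'
      exact ⟨(u, z), ⟨hu, hz'⟩, rfl⟩
    have h8 := (Set.ncard_le_ncard hsub (Set.toFinite _)).trans (Set.ncard_image_le (Set.toFinite _))
    rw [Set.ncard_prod] at h8
    have h4 : ({1, a, a', a * a'} : Set G).ncard ≤ 4 := by
      refine (Set.ncard_insert_le _ _).trans (Nat.succ_le_succ ?_)
      refine (Set.ncard_insert_le _ _).trans (Nat.succ_le_succ ?_)
      exact (Set.ncard_insert_le _ _).trans (by simp)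
    have h2 : ({1, R.s} : Set G).ncard ≤ 2 := (Set.ncard_insert_le _ _).trans (by simp)
    have : (R.Q : Set G).ncard = 32 := by rw [← R.cardQ]; exact (Nat.card_coe_set_eq _).symm
    have := Nat.mul_le_mul h4 h2
    omega
  obtain ⟨b, hby, hbb, hqb⟩ := R.exists_quat hy hyy
  have hbQ : b ∈ R.Q := by
    rcases hby with rfl | rfl
    · exact hy
    · exact mul_mem R.sQ hy
  have hba : Commute b a ∧ Commute b a' := by
    rcases hby with rfl | rfl
    · exact ⟨hya, hya'⟩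
    · exact ⟨(R.Qs a haQ).mul_left hya, (R.Qs a' ha'Q).mul_left hya'⟩
  have hb' : Commute (R.ξ * b * R.ξ⁻¹) a := by
    have h1 : Commute b (a' * a''⁻¹ * a'' ) := by
      rw [inv_mul_cancel_right]; exact hba.2
    have h3 : a = a' * a'' := by
      calc a = R.ξ * a'' * R.ξ⁻¹ := (R.c3 a).symm
        _ = R.ξ * (a * a') * R.ξ⁻¹ := by rw [hq]
        _ = _ := by rw [ha'', ha']; group
    have h4 : Commute b a'' := by
      rw [← hq]; exact hba.1.mul_right hba.2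
    have h5 : Commute (R.ξ * b * R.ξ⁻¹) a'' := by
      have := hba.2.map (MulAut.conj R.ξ)
      simpa [MulAut.conj_apply, ha''] using this
    have h6 : Commute (R.ξ * b * R.ξ⁻¹) a' := by
      have := hba.1.map (MulAut.conj R.ξ)
      simpa [MulAut.conj_apply, ha'] using this
    rw [h3]; exact h6.mul_right h5
  exact ⟨{ s := R.s, ξ := R.ξ, a := a, b := b, hs := R.hs, sa := R.Qs a haQ, sb := R.Qs b hbQ
           sξ := R.sξ, ξ3 := R.ξ3, aa := haa, bb := hbb, quat_a := hq, quat_b := hqb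
           comm₁ := hba.1.symm, comm₂ := hb'.symm, comm₃ := hba.2.symm }, rfl, rfl, haQ, hbQ⟩

theorem exists_frame : ∃ F : Frame G, F.emb 16 = R.s ∧ ∀ c < 32, F.emb c ∈ R.Q := by
  obtain ⟨P, hPs, hPξ, hPa, hPb⟩ := R.exists_qgens
  have hphiQ : ∀ q, P.phi q ∈ R.Q := by
    have hc : ∀ g ∈ R.Q, P.c g ∈ R.Q := fun g hg => by
      show P.ξ * g * P.ξ⁻¹ ∈ R.Q
      rw [hPξ]; exact R.ξnorm g hg
    intro q
    refine mul_mem (mul_mem (pow_mem (hPs ▸ R.sQ) _) ?_) ?_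
    · unfold QGens.ua; split
      · exact one_mem _
      · exact hPa
      · exact hc _ hPa
      · exact hc _ (hc _ hPa)
    · unfold QGens.ub; split
      · exact one_mem _
      · exact hPb
      · exact hc _ hPb
      · exact hc _ (hc _ hPb)
  have hsurj : ∀ x ∈ R.Q, ∃ q < 32, P.phi q = x := by
    have hb : Function.Bijective (fun q : Fin 32 => (⟨P.phi q, hphiQ q⟩ : R.Q)) := by
      refine (Nat.bijective_iff_injective_and_card _).2 ⟨fun q r h => ?_, ?_⟩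
      · exact Fin.ext (P.phi_inj q.2 r.2 (congrArg Subtype.val h))
      · rw [Nat.card_fin, R.cardQ]
    intro x hx
    obtain ⟨q, hq⟩ := hb.2 ⟨x, hx⟩
    exact ⟨q, q.2, congrArg Subtype.val hq⟩
  have hqi : ∀ r < 32, P.phi (qi r) = (P.phi r)⁻¹ := fun r hr => by
    have : (List.range 32).all (fun a => qi a < 32 && qm a (qi a) == 0) = true := by decide +kernel
    simp only [List.all_eq_true, List.mem_range, Bool.and_eq_true, decide_eq_true_eq, beq_iff_eq] at this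
    refine (inv_eq_of_mul_eq_one_right ?_).symm
    rw [P.phi_mul hr (this r hr).1, (this r hr).2, P.phi_zero]
  -- an element inverting `ξ`
  obtain ⟨q, hq, hqe⟩ := hsurj _ R.g₀ξ
  have hξ3 : R.ξ * R.ξ * R.ξ = 1 := by rw [← pow_three', R.ξ3]
  have hcq : ∀ q < 32, R.ξ * P.phi q * R.ξ⁻¹ = P.phi (rot q) := fun q hq => by
    rw [← P.c_phi hq, QGens.c_apply, hPξ]
  have hc2 : ∀ q < 32, R.ξ⁻¹ * P.phi q * R.ξ = P.phi (rot (rot q)) := fun q hq => by
    have e2 : R.ξ⁻¹ = R.ξ * R.ξ := inv_eq_of_mul_eq_one_right (by rw [← mul_assoc, hξ3])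
    have e3 : R.ξ⁻¹ * P.phi q * R.ξ⁻¹⁻¹ = R.ξ * R.ξ * P.phi q * (R.ξ * R.ξ)⁻¹ := by rw [e2]
    rw [inv_inv] at e3
    rw [← hcq _ (QGens.rot_lt q), ← hcq q hq, e3]; group
  have hqm : qm (qm q (rot (rot q))) (rot q) = 0 := by
    refine P.phi_inj (Nat.mod_lt _ (by norm_num)) (by norm_num) ?_
    rw [P.phi_zero, ← P.phi_mul (q := qm q (rot (rot q))) (Nat.mod_lt _ (by norm_num)) (QGens.rot_lt _),
      ← P.phi_mul hq (QGens.rot_lt _), ← hc2 q hq, ← hcq q hq, hqe]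
    calc R.g₀ * R.ξ * R.g₀⁻¹ * R.ξ * (R.ξ⁻¹ * (R.g₀ * R.ξ * R.g₀⁻¹ * R.ξ) * R.ξ) *
          (R.ξ * (R.g₀ * R.ξ * R.g₀⁻¹ * R.ξ) * R.ξ⁻¹)
        = (R.g₀ * R.ξ * R.g₀⁻¹) * (R.g₀ * R.ξ * R.g₀⁻¹) * (R.ξ * R.ξ * R.ξ) *
            (R.g₀ * R.ξ * R.g₀⁻¹) := by group
      _ = R.g₀ * R.ξ * R.ξ * R.ξ * R.g₀⁻¹ := by rw [hξ3]; group
      _ = 1 := by rw [mul_assoc R.g₀, mul_assoc R.g₀, hξ3]; group
  obtain ⟨r, hr, hrq⟩ : ∃ r < 32, qm r (rot (rot (qi r))) = q := by
    have := coset_three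
    simp only [List.all_eq_true, List.any_eq_true, List.mem_range, Bool.or_eq_true, bne_iff_ne,
      beq_iff_eq] at this
    exact (this q hq).resolve_left fun h => h hqm
  have hg : R.g₀ * R.ξ * R.g₀⁻¹ = P.phi r * R.ξ⁻¹ * (P.phi r)⁻¹ := by
    have e : R.g₀ * R.ξ * R.g₀⁻¹ * R.ξ = P.phi r * (R.ξ⁻¹ * (P.phi r)⁻¹ * R.ξ) := by
      rw [← hqe, ← hrq, ← P.phi_mul hr (QGens.rot_lt _), ← hc2 (qi r) (Nat.mod_lt _ (by norm_num)), hqi r hr]
    calc R.g₀ * R.ξ * R.g₀⁻¹ = R.g₀ * R.ξ * R.g₀⁻¹ * R.ξ * R.ξ⁻¹ := by group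
      _ = _ := by rw [e]; group
  set t := (P.phi r)⁻¹ * R.g₀ with ht
  have htξ : t * R.ξ * t⁻¹ = R.ξ⁻¹ := by
    calc t * R.ξ * t⁻¹ = (P.phi r)⁻¹ * (R.g₀ * R.ξ * R.g₀⁻¹) * P.phi r := by rw [ht]; group
      _ = _ := by rw [hg]; group
  have hts : Commute R.s t := (R.Qs _ (inv_mem (hphiQ r))).mul_right R.g₀s
  have htn : ∀ x ∈ R.Q, t * x * t⁻¹ ∈ R.Q := fun x hx => by
    rw [ht, show (P.phi r)⁻¹ * R.g₀ * x * ((P.phi r)⁻¹ * R.g₀)⁻¹ =
      (P.phi r)⁻¹ * (R.g₀ * x * R.g₀⁻¹) * P.phi r by group]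
    exact mul_mem (mul_mem (inv_mem (hphiQ r)) (R.g₀norm x hx)) (hphiQ r)
  have ht2Q : t * t ∈ R.Q := by
    rw [ht, show (P.phi r)⁻¹ * R.g₀ * ((P.phi r)⁻¹ * R.g₀) =
      (P.phi r)⁻¹ * (R.g₀ * (P.phi r)⁻¹ * R.g₀⁻¹) * (R.g₀ * R.g₀) by group]
    exact mul_mem (mul_mem (inv_mem (hphiQ r)) (R.g₀norm _ (inv_mem (hphiQ r)))) R.g₀sq
  have hti : t * R.ξ⁻¹ * t⁻¹ = R.ξ := by
    calc t * R.ξ⁻¹ * t⁻¹ = (t * R.ξ * t⁻¹)⁻¹ := by group
      _ = R.ξ := by rw [htξ, inv_inv]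
  have ht2c : R.ξ * (t * t) * R.ξ⁻¹ = t * t := by
    have h : t * (t * R.ξ * t⁻¹) * t⁻¹ = R.ξ := by rw [htξ, hti]
    calc R.ξ * (t * t) * R.ξ⁻¹ = t * (t * R.ξ * t⁻¹) * t⁻¹ * (t * t) * R.ξ⁻¹ := by rw [h]
      _ = t * t := by group
  obtain ⟨sq, hsq⟩ : ∃ sq : Bool, t * t = R.s ^ (bif sq then 1 else 0) := by
    rcases R.fix _ ht2Q ht2c with h | h
    · exact ⟨false, by simp [h]⟩
    · exact ⟨true, by simp [h]⟩
  have ht4 : ∀ x ∈ R.Q, t * (t * x * t⁻¹) * t⁻¹ = x := fun x hx => by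
    rw [show t * (t * x * t⁻¹) * t⁻¹ = (t * t) * x * (t * t)⁻¹ by group, hsq,
      ((R.Qs x hx).pow_left _).eq, mul_inv_cancel_right]
  -- the action on the generators
  obtain ⟨p, hp, hpe⟩ := hsurj _ (htn _ hPa)
  obtain ⟨r', hr', hre⟩ := hsurj _ (htn _ hPb)
  have hTs : MulAut.conj t P.s = P.s := by
    rw [MulAut.conj_apply, hPs, ← hts.eq, mul_inv_cancel_right]
  have hTξ : MulAut.conj t P.ξ = P.ξ⁻¹ := by rw [MulAut.conj_apply, hPξ, htξ]
  have hext : ∀ {x}, x < 32 → t * P.phi x * t⁻¹ = P.phi (Code.ext p r' x) := fun {x} hx =>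
    P.map_phi (MulAut.conj t) hTs hTξ hp hr' hpe.symm hre.symm hx
  have hconj : ∀ x y : G, t * (x * y) * t⁻¹ = (t * x * t⁻¹) * (t * y * t⁻¹) := fun x y => by group
  have hcc : ∀ x : G, t * (R.ξ * x * R.ξ⁻¹) * t⁻¹ = R.ξ⁻¹ * (t * x * t⁻¹) * R.ξ := fun x => by
    rw [hconj, hconj, htξ, hti]
  have hlt : ∀ x y, qm x y < 32 := fun x y => Nat.mod_lt _ (by norm_num)
  have hextlt : Code.ext p r' p < 32 ∧ Code.ext p r' r' < 32 := ⟨hlt _ _, hlt _ _⟩
  have hvalid : valid p r' = true := by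
    have tts : t * R.s * t⁻¹ = R.s := by rw [← hts.eq, mul_inv_cancel_right]
    simp only [valid, Bool.and_eq_true, beq_iff_eq]
    refine ⟨⟨⟨⟨⟨⟨⟨⟨?_, ?_⟩, ?_⟩, ?_⟩, ?_⟩, ?_⟩, ?_⟩, ?_⟩, ?_⟩
    · refine P.phi_inj (hlt _ _) (by norm_num) ?_
      rw [← P.phi_mul hp hp, hpe, ← hconj, P.aa, P.phi_s, hPs, tts]
    · refine P.phi_inj (hlt _ _) (by norm_num) ?_
      rw [← P.phi_mul hr' hr', hre, ← hconj, P.bb, P.phi_s, hPs, tts]
    · refine P.phi_inj (hlt _ _) (QGens.rot_lt _) ?_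
      rw [← P.phi_mul hp (QGens.rot_lt _), ← hc2 p hp, ← hcq p hp, hpe, ← hcc, ← hconj, ← hPξ,
        P.quat_a, hPξ, hcc, hcc]
      calc R.ξ⁻¹ * (R.ξ⁻¹ * (t * P.a * t⁻¹) * R.ξ) * R.ξ
          = (R.ξ * R.ξ * R.ξ)⁻¹ * (R.ξ * (t * P.a * t⁻¹) * R.ξ⁻¹) * (R.ξ * R.ξ * R.ξ) := by group
        _ = _ := by rw [hξ3]; group
    · refine P.phi_inj (hlt _ _) (QGens.rot_lt _) ?_
      rw [← P.phi_mul hr' (QGens.rot_lt _), ← hc2 r' hr', ← hcq r' hr', hre, ← hcc, ← hconj, ← hPξ,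
        P.quat_b, hPξ, hcc, hcc]
      calc R.ξ⁻¹ * (R.ξ⁻¹ * (t * P.b * t⁻¹) * R.ξ) * R.ξ
          = (R.ξ * R.ξ * R.ξ)⁻¹ * (R.ξ * (t * P.b * t⁻¹) * R.ξ⁻¹) * (R.ξ * R.ξ * R.ξ) := by group
        _ = _ := by rw [hξ3]; group
    · refine P.phi_inj (hlt _ _) (hlt _ _) ?_
      rw [← P.phi_mul hp hr', ← P.phi_mul hr' hp, hpe, hre, ← hconj, ← hconj, P.comm₁.eq]
    · refine P.phi_inj (hlt _ _) (hlt _ _) ?_
      rw [← P.phi_mul hp (QGens.rot_lt _), ← P.phi_mul (QGens.rot_lt _) hp, ← hc2 r' hr', hpe, hre,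
        ← hcc, ← hconj, ← hconj, ← hPξ, P.comm₂.eq]
    · refine P.phi_inj (hlt _ _) (hlt _ _) ?_
      rw [← P.phi_mul (QGens.rot_lt _) hr', ← P.phi_mul hr' (QGens.rot_lt _), ← hc2 p hp, hpe, hre,
        ← hcc, ← hconj, ← hconj, ← hPξ, P.comm₃.eq]
    · refine P.phi_inj hextlt.1 (by norm_num) ?_
      rw [← hext hp, hpe, ht4 _ hPa, P.phi_a]
    · refine P.phi_inj hextlt.2 (by norm_num) ?_
      rw [← hext hr', hre, ht4 _ hPb, P.phi_b]
  obtain ⟨typ, m, hm, u, hu, w, hw, hgood⟩ : ∃ typ : Bool, ∃ m < 3, ∃ u < 32, ∃ w < 32,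
      good p r' typ m u w = true := by
    have := exists_good
    simp only [List.all_eq_true, List.any_eq_true, List.mem_range, Bool.or_eq_true,
      Bool.not_eq_true', List.mem_cons, List.not_mem_nil, or_false, Bool.and_eq_true] at this
    obtain ⟨typ, -, m, hm, u, hu, -, w, hw, h⟩ :=
      (this p hp r' hr').resolve_left (by rw [hvalid]; exact Bool.noConfusion)
    exact ⟨typ, m, hm, u, hu, w, hw, h⟩
  simp only [good, Bool.and_eq_true, beq_iff_eq] at hgood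
  obtain ⟨⟨⟨⟨⟨⟨⟨⟨g1, g2⟩, g3⟩, g4⟩, g5⟩, g6⟩, g7⟩, g8⟩, g9⟩ := hgood
  set τ := R.ξ ^ m * t with hτ
  have hact : ∀ {x}, x < 32 → τ * P.phi x * τ⁻¹ = P.phi (act false m (Code.ext p r' x)) := fun {x} hx => by
    have he : Code.ext p r' x < 32 := hlt _ _
    rw [hτ, show R.ξ ^ m * t * P.phi x * (R.ξ ^ m * t)⁻¹ = R.ξ ^ m * (t * P.phi x * t⁻¹) * (R.ξ ^ m)⁻¹
      by group, hext hx]
    have hacts : (List.range 32).all (fun q => act false 0 q == q && act false 1 q == rot q &&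
        act false 2 q == rot (rot q)) = true := by decide +kernel
    simp only [List.all_eq_true, List.mem_range, Bool.and_eq_true, beq_iff_eq] at hacts
    obtain ⟨⟨a0, a1⟩, a2⟩ := hacts _ he
    interval_cases m
    · simp [a0]
    · rw [pow_one, hcq _ he, a1]
    · rw [a2, ← hcq _ (QGens.rot_lt _), ← hcq _ he, pow_two]; group
  have hξm : R.ξ * R.ξ ^ m = R.ξ ^ m * R.ξ := (Commute.self_pow R.ξ m).eq
  let Gn : Gens G :=
    { s := R.s, ξ := R.ξ, a := P.phi u, b := P.phi w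
      hs := R.hs, sa := R.Qs _ (hphiQ u), sb := R.Qs _ (hphiQ w), sξ := R.sξ, ξ3 := R.ξ3
      aa := by rw [P.phi_mul hu hu, g1, P.phi_s, hPs]
      bb := by rw [P.phi_mul hw hw, g3, P.phi_s, hPs]
      quat_a := by rw [hcq u hu, hcq _ (QGens.rot_lt _), P.phi_mul hu (QGens.rot_lt _), g2]
      quat_b := by rw [hcq w hw, hcq _ (QGens.rot_lt _), P.phi_mul hw (QGens.rot_lt _), g4]
      comm₁ := by show _ = _; rw [P.phi_mul hu hw, P.phi_mul hw hu, g5]
      comm₂ := by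
        show _ = _
        rw [hcq w hw, P.phi_mul hu (QGens.rot_lt _), P.phi_mul (QGens.rot_lt _) hu, g6]
      comm₃ := by
        show _ = _
        rw [hcq u hu, P.phi_mul (QGens.rot_lt _) hw, P.phi_mul hw (QGens.rot_lt _), g7]
      τ := τ, typ := typ, sq := sq
      sτ := (R.sξ.pow_right m).mul_right hts
      τξ := by
        calc τ * R.ξ * τ⁻¹ = R.ξ ^ m * (t * R.ξ * t⁻¹) * (R.ξ ^ m)⁻¹ := by rw [hτ]; group
          _ = R.ξ⁻¹ := by rw [htξ, ((Commute.self_pow R.ξ m).symm.inv_right).eq, mul_inv_cancel_right]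
      τ2 := by
        have h : t * R.ξ ^ m * t⁻¹ = (R.ξ ^ m)⁻¹ := by rw [← conj_pow, htξ, inv_pow]
        calc τ * τ = R.ξ ^ m * (t * R.ξ ^ m * t⁻¹) * (t * t) := by rw [hτ]; group
          _ = _ := by rw [h, hsq]; group
      τa := by
        rw [hact hu, g8]
        cases typ <;> simp only [cond_true, cond_false] <;>
          rw [← P.phi_mul (by norm_num) (by assumption), P.phi_s, hPs]
      τb := by
        rw [hact hw, g9]
        cases typ <;> simp only [cond_true, cond_false] <;>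
          rw [← P.phi_mul (by norm_num) (by assumption), P.phi_s, hPs] }
  have hnQ : ∀ q, Gn.phi q ∈ R.Q := by
    have hc : ∀ g ∈ R.Q, Gn.c g ∈ R.Q := fun g hg => R.ξnorm g hg
    intro q
    refine mul_mem (mul_mem (pow_mem (show Gn.s ∈ R.Q from R.sQ) _) ?_) ?_
    · unfold QGens.ua; split
      · exact one_mem _
      · exact hphiQ u
      · exact hc _ (hphiQ u)
      · exact hc _ (hc _ (hphiQ u))
    · unfold QGens.ub; split
      · exact one_mem _
      · exact hphiQ w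
      · exact hc _ (hphiQ w)
      · exact hc _ (hc _ (hphiQ w))
  have hQτ : ∀ i < 3, ∀ j < 2, R.ξ ^ i * τ ^ j ∈ R.Q → i = 0 ∧ j = 0 := by
    intro i hi j hj hmem
    interval_cases j
    · rw [pow_zero, mul_one] at hmem
      interval_cases i
      · exact ⟨rfl, rfl⟩
      · exact absurd (by simpa using hmem) R.ξQ
      · refine absurd ?_ R.ξQ
        have e2 : R.ξ = (R.ξ ^ 2)⁻¹ := eq_inv_of_mul_eq_one_left (by rw [← pow_succ']; exact R.ξ3)
        rw [e2]; exact inv_mem hmem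
    · exfalso
      rw [pow_one, hτ, ← mul_assoc, ← pow_add, ht] at hmem
      have h1 : R.ξ ^ (i + m) * (P.phi r)⁻¹ * (R.ξ ^ (i + m))⁻¹ ∈ R.Q := by
        generalize i + m = n
        induction n with
        | zero => simpa using inv_mem (hphiQ r)
        | succ n ih =>
          have e : R.ξ ^ (n + 1) * (P.phi r)⁻¹ * (R.ξ ^ (n + 1))⁻¹ =
              R.ξ * (R.ξ ^ n * (P.phi r)⁻¹ * (R.ξ ^ n)⁻¹) * R.ξ⁻¹ := by group
          rw [e]; exact R.ξnorm _ ih
      have h2 : R.ξ ^ (i + m) * R.g₀ ∈ R.Q := by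
        have e : R.ξ ^ (i + m) * R.g₀ = (R.ξ ^ (i + m) * (P.phi r)⁻¹ * (R.ξ ^ (i + m))⁻¹)⁻¹ *
            (R.ξ ^ (i + m) * ((P.phi r)⁻¹ * R.g₀)) := by group
        rw [e]; exact mul_mem (inv_mem h1) hmem
      have h3 : R.g₀ * R.ξ ^ (i + m) ∈ R.Q := by
        have e : R.g₀ * R.ξ ^ (i + m) = R.g₀ * (R.ξ ^ (i + m) * R.g₀) * R.g₀⁻¹ := by group
        rw [e]; exact R.g₀norm _ h2
      rw [← Nat.div_add_mod (i + m) 3, pow_add, pow_mul, R.ξ3, one_pow, one_mul] at h3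
      have := Nat.mod_lt (i + m) (show 3 > 0 by norm_num)
      interval_cases hn : (i + m) % 3
      · exact R.g₀out.1 (by simpa using h3)
      · exact R.g₀out.2.2 (by simpa using h3)
      · refine R.g₀out.2.1 ?_
        rw [inv_eq_of_mul_eq_one_right (show R.ξ * R.ξ ^ 2 = 1 by rw [← pow_succ']; exact R.ξ3)]
        exact h3
  have hinj : ∀ a < 192, ∀ b < 192, Gn.emb a = Gn.emb b → a = b := by
    have hone : ∀ a < 192, Gn.emb a = 1 → a = 0 := by
      intro a ha h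
      have hij : a / 32 % 3 = 0 ∧ a / 96 = 0 := by
        refine hQτ _ (Nat.mod_lt _ (by norm_num)) _ (by omega) ?_
        have e : R.ξ ^ (a / 32 % 3) * τ ^ (a / 96) = (Gn.phi (a % 32))⁻¹ := by
          rw [eq_inv_iff_mul_eq_one, mul_eq_one_comm, ← mul_assoc]; exact h
        rw [e]; exact inv_mem (hnQ _)
      have h0 : a % 32 = 0 := Gn.phi_eq_one (Nat.mod_lt _ (by norm_num)) (by
        have := h
        rw [Gens.emb, hij.1, hij.2, pow_zero, pow_zero, mul_one, mul_one] at this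
        exact this)
      omega
    intro a ha b hb h
    have hspec := Code.inv_spec Gn.typ Gn.sq
    simp only [List.all_eq_true, elems, List.mem_range, Bool.and_eq_true, decide_eq_true_eq,
      beq_iff_eq] at hspec
    have hcan : ∀ typ sq : Bool, elems.all (fun a => elems.all fun b =>
        Code.mul typ sq a (Code.inv typ sq b) != 0 || a == b) = true := by decide +kernel
    have hcan' := hcan Gn.typ Gn.sq
    simp only [List.all_eq_true, elems, List.mem_range, Bool.or_eq_true, bne_iff_ne, beq_iff_eq] at hcan'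
    refine (hcan' a ha b hb).resolve_left fun hne => hne ?_
    have hml := Code.mul_lt Gn.typ Gn.sq
    simp only [List.all_eq_true, elems, List.mem_range, decide_eq_true_eq] at hml
    refine hone _ (hml a ha _ (hspec b hb).1.1) ?_
    rw [← Gn.emb_mul ha (hspec b hb).1.1, h, Gn.emb_mul hb (hspec b hb).1.1, (hspec b hb).1.2]
    simp [Gens.emb, QGens.phi_zero]
  have h16 : Gn.emb 16 = R.s := by simp [Gens.emb, QGens.phi_s]; rfl
  refine ⟨⟨Gn.typ, Gn.sq, Gn.emb, fun a ha b hb => Gn.emb_mul ha hb, hinj, fun g => ?_⟩, h16, ?_⟩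
  · have hmem : ∀ c, Gn.emb c ∈ Subgroup.centralizer ({R.s} : Set G) := by
      intro c
      rw [Subgroup.mem_centralizer_singleton_iff]
      exact (((R.Qs _ (hnQ _)).mul_right (R.sξ.pow_right _)).mul_right
        (((R.sξ.pow_right m).mul_right hts).pow_right _)).symm.eq
    have hb : Function.Bijective (fun c : Fin 192 =>
        (⟨Gn.emb c, hmem c⟩ : Subgroup.centralizer ({R.s} : Set G))) := by
      refine (Nat.bijective_iff_injective_and_card _).2 ⟨fun a b h => ?_, ?_⟩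
      · exact Fin.ext (hinj a a.2 b b.2 (congrArg Subtype.val h))
      · rw [Nat.card_fin, R.cardL]
    rw [h16]
    constructor
    · intro hg
      obtain ⟨c, hc⟩ := hb.2 ⟨g, Subgroup.mem_centralizer_singleton_iff.2 hg.eq⟩
      exact ⟨c, c.2, congrArg Subtype.val hc⟩
    · rintro ⟨c, -, rfl⟩
      exact Subgroup.mem_centralizer_singleton_iff.1 (hmem c)
  · intro c hc
    have e : Gn.emb c = Gn.phi c := by
      unfold Gens.emb
      rw [Nat.mod_eq_of_lt hc, Nat.div_eq_of_lt hc, Nat.div_eq_of_lt (by omega : c < 96)]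
      simp
    show Gn.emb c ∈ R.Q
    rw [e]; exact hnQ c

end Raw

end Setup

end Cfsg.Agent.Lib.Cent192x61
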